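import Cfsg.Agent.Cit.Nil.Comp.AO.MTwo
import Cfsg.Agent.Cit.Nil.Comp.MThree
import Cfsg.Agent.Cit.Nil.ROne.NodeOne

/-!
# S1309, the node `r = 1`: `AOStmt` from (M3) (helper61)

* `not_three` : the member over a C-partner `a` of `z` has not `Three` in `C(z)`;
* `AOStmt.of_mthree` : `AOStmt`, from (M3) for a triple of pairwise commuting members.
-/

set_option autoImplicit false
set_option linter.style.haveILetI false
set_option linter.unusedSectionVars false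

namespace Cfsg.Agent.Cit.Nil.ROne

open Subgroup Cfsg Cfsg.Agent.Cit
open Cfsg.Agent.Cit.Nil.Comp (TP AllOne Tri)
open Cfsg.Agent.Cit.Nil.Comp.AO (M2 AOIn)
open IndDefs (SCW Three)

universe u

/-- (M3) -/
def MThreeStmt : Prop := ∀ (G : Type u) [Group G] [Finite G] (K : Subgroup G), SCW G (cls K) →
  WorldN (RG.ZZ (cls K)) (RG.RR (cls K)) → TP (RG.ZZ (cls K)) (RG.RR (cls K)) → NoThree (cls K) →
  AllOne (RG.ZZ (cls K)) (RG.RR (cls K)) → ∀ z a b : G, Tri (RG.ZZ (cls K)) (RG.RR (cls K)) z a b → False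

section

variable {G : Type u} [Group G] [Finite G] {Om : Set (Subgroup G)}

/-- `R_a` is a member -/
theorem rr_mem (h : RG.WR Om) (w : W (RG.ZZ Om) (RG.RR Om)) {a : G} (ha : a ∈ RG.ZZ Om) : RG.RR Om a ∈ Om := by
  obtain ⟨A, hA, rfl⟩ := ha
  have h1 : A ≤ RG.RR Om (zz A) := RG.WR.le_RR ⟨hA, rfl⟩
  have h2 : Nat.card A = 8 := h.card hA
  have h3 : Nat.card (RG.RR Om (zz A)) = 8 := w.card8 ⟨A, hA, rfl⟩
  have h4 : A = RG.RR Om (zz A) := eq_of_le_of_card_ge h1 (by rw [h2, h3])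
  rw [← h4]
  exact hA

theorem not_three (h : RG.WR Om) (w : W (RG.ZZ Om) (RG.RR Om)) (n3 : NoThree Om) {z a : G} (hz : z ∈ RG.ZZ Om)
    (ha : a ∈ RG.ZZ Om) (hc : CP (RG.RR Om) z a) : ¬ Three ((RG.RR Om a).subgroupOf (centralizer {z})) := by
  have hzM := rr_mem h w hz
  refine n3 (RG.RR Om z) (w.two hz) z (subset_closure ⟨RG.RR Om z, hzM, le_rfl, w.zz_K hz⟩) (w.ne z hz) _ ?_
  refine subgroupOf_mem_restr (rr_mem h w ha) fun k hk => ?_
  exact mem_centralizer_singleton_iff.2 (hc.2 z (w.mem z hz) k hk).symm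

end

/-- **`AOStmt` from (M3)** -/
theorem AOStmt.of_mthree (e : AOIn.{u}) (i : N1In.{u}) (m3 : MThreeStmt.{u}) : AOStmt.{u} := by
  intro G _ _ K s w tp n3 ao
  by_cases hnt : ∀ z ∈ RG.ZZ (cls K), ∀ a ∈ RG.ZZ (cls K), ∀ b ∈ RG.ZZ (cls K), CP (RG.RR (cls K)) z a →
      CP (RG.RR (cls K)) z b → ¬ CP (RG.RR (cls K)) a b
  · haveI := w.simple
    have h : RG.WR (cls K) := RG.WR.of_hyp s.t0.hyp s.t0.card
    exact w.false_of_mtwo tp ao hnt (fun z hz a ha hc => not_three h w.w n3 hz ha hc) e (i.gold _)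
  · push Not at hnt
    obtain ⟨z, hz, a, ha, b, hb, h1, h2, h3⟩ := hnt
    exact m3 G K s w tp n3 ao z a b ⟨hz, ha, hb, h1, h2, h3⟩

end Cfsg.Agent.Cit.Nil.ROne
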