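import Cfsg.Agent.Cit.CloBen

/-!
# S1309 (6b), `r = 1`, COMP, AllOne, (M2), piece (P2): involutions in 2-subgroups of the groups of Bender's list (helper815)

`comm_of_concl` : in a group of Bender's list an involution of a 2-subgroup `P` is central in `P`.
-/

set_option autoImplicit false

namespace Cfsg.Agent.Cit.Nil.Comp.AO

open Cfsg Cfsg.Agent.LieRecognition Cfsg.Agent.LieRecognition.HermHeis Cfsg.Agent.LieRecognition.PSUThreeSylow
open Cfsg.Agent.LieRecognition.SzMatrix Cfsg.Agent.BenderType.Inv Cfsg.Agent.BenderType.Classify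

/-- the involutions are central -/
def IC (S : Type*) [Group S] : Prop := ∀ x y : S, x * x = 1 → x * y = y * x

theorem IC.congr {S T : Type*} [Group S] [Group T] (h : IC S) (e : S ≃* T) : IC T := by
  intro x y hx
  apply e.symm.injective
  rw [map_mul, map_mul]
  exact h _ _ (by rw [← map_mul, hx, map_one])

theorem IC.of_comm {S : Type*} [Group S] (h : IsMulCommutative S) : IC S :=
  fun x y _ => h.is_comm.comm x y

theorem ic_heis {F : Type*} [Field F] [CharP F 2] {σ : F →+* F} [hσ : Fact (∀ x, σ (σ x) = x)] :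
    IC (Heis σ) := by
  intro x y hx
  rw [HermHeis.mul_self_eq_one_iff] at hx
  rw [commute_iff, hx, zero_mul, map_zero, mul_zero]

theorem ic_unip {F : Type*} [Field F] {θ : F →+* F} {e : ℕ} (H : Good F θ e) : IC H.unip := by
  rintro ⟨x, hx⟩ ⟨y, hy⟩ h1
  obtain ⟨a, b, rfl⟩ := (H.mem_unip_iff x).1 hx
  obtain ⟨c, d, rfl⟩ := (H.mem_unip_iff y).1 hy
  have h2 : H.u a b * H.u a b = 1 := congrArg Subtype.val h1
  have ha : a = 0 := by
    have h3 : H.u a b * H.u a b = H.u 0 0 := by rw [h2, H.u_zero]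
    rw [H.u_mul] at h3
    have h4 := (H.u_inj h3).2
    have h5 : a * θ a = 0 := by
      have h6 := H.add_self b
      linear_combination h4 - h6
    rcases mul_eq_zero.1 h5 with h6 | h6
    · exact h6
    · exact (map_eq_zero θ).1 h6
  subst ha
  apply Subtype.ext
  show H.u 0 b * H.u c d = H.u c d * H.u 0 b
  rw [H.u_mul, H.u_mul]
  congr 1
  · ring
  · rw [map_zero]
    ring

/-- the involutions of the Sylow 2-subgroups of the groups of Bender's list are central -/
theorem ic_of_concl {G : Type*} [Group G] [Finite G] (hG : Concl G) (S : Sylow 2 G) :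
    IC (S : Subgroup G) := by
  have : Fact (Nat.Prime 2) := ⟨Nat.prime_two⟩
  rcases hG with ⟨F, i1, i2, ⟨k, -, hF⟩, ⟨e⟩⟩ | ⟨F, i1, i2, m, hm, hF, ⟨e⟩⟩ |
      ⟨F, i1, i2, k, hk, hF, ⟨e⟩⟩
  · by_contra hcon
    refine not_psl S (fun hc => hcon (IC.of_comm hc)) hF e
  · have H := good hF
    have hcF : Nat.card F = 2 ^ (2 * m + 1) := by rw [Nat.card_eq_fintype_card, hF]
    have hodd : ¬ 2 ∣ H.unip.index := by
      have h1 := Subgroup.card_mul_index H.unip
      rw [(S1163.result hm hF).1, H.card_unip, hcF, mul_assoc] at h1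
      have h2 := Nat.eq_of_mul_eq_mul_left (by positivity) h1
      rw [h2]
      intro h
      rcases (Nat.Prime.dvd_mul Nat.prime_two).mp h with h | h
      · have h1 : 1 ≤ 2 ^ (2 * m + 1) := Nat.one_le_two_pow
        have h2 : 2 ∣ 2 ^ (2 * m + 1) := dvd_pow_self 2 (by omega)
        omega
      · have h2 : 2 ∣ (2 ^ (2 * m + 1)) ^ 2 := dvd_pow (dvd_pow_self 2 (by omega)) (by omega)
        omega
    have hpg : IsPGroup 2 H.unip := by
      apply IsPGroup.of_card (n := (2 * m + 1) * 2)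
      rw [H.card_unip, hcF, ← pow_mul]
    have : Finite ↥(Cfsg.Lie.Sz F (2 ^ (m + 1))) := Finite.of_equiv G e.toEquiv
    let T : Sylow 2 ↥(Cfsg.Lie.Sz F (2 ^ (m + 1))) := S.mapSurjective (f := e.toMonoidHom) e.surjective
    have h1 : IC (T : Subgroup ↥(Cfsg.Lie.Sz F (2 ^ (m + 1)))) :=
      (ic_unip H).congr ((hpg.toSylow hodd).equiv T)
    exact h1.congr (e.subgroupMap (S : Subgroup G)).symm
  · have hF' : Nat.card F = (2 ^ k) ^ 2 := by rw [Nat.card_eq_fintype_card, hF]
    obtain ⟨h2, σ, hσ, hs, -, h⟩ := exists_heis_equiv F (show 1 ≤ k by omega) hF'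
    obtain ⟨f⟩ := h (S.mapSurjective (f := e.toMonoidHom) e.surjective)
    exact (ic_heis.congr f).congr (e.subgroupMap (S : Subgroup G)).symm

/-- an involution of a 2-subgroup of a group of Bender's list is central in it -/
theorem comm_of_concl {G : Type*} [Group G] [Finite G] (hG : Concl G) {P : Subgroup G} (hP : IsPGroup 2 P)
    {x y : G} (hx : x ∈ P) (hy : y ∈ P) (hxx : x * x = 1) : x * y = y * x := by
  obtain ⟨S, hS⟩ := hP.exists_le_sylow
  exact congrArg Subtype.val (ic_of_concl hG S ⟨x, hS hx⟩ ⟨y, hS hy⟩ (Subtype.ext hxx))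

end Cfsg.Agent.Cit.Nil.Comp.AO
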