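import Cfsg.Agent.Cit.Nil.Comp.AO.Defs
import Cfsg.Agent.Cit.Nil.ROne.Bridge
import Cfsg.Agent.Cit.Nil.IndDefs
import Cfsg.Agent.Transfer.SL23Section
import Cfsg.Agent.S0071
import Cfsg.Agent.Lib.Cores

/-!
# S1309 (6b), `r = 1`, COMP, (M2), (P3): cliques (helper61, bb R18 #19884)

`XW.three_of_clique` : if `{z, t, z t}` (`t ∈ Z` commuting with `z`) is never contained in a bigger commuting set of
elements of `Z`, then `K z` is THREE.
-/

set_option autoImplicit false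
set_option linter.style.haveILetI false
set_option linter.unusedSectionVars false

namespace Cfsg.Agent.Cit.Nil.Comp.AO

open Subgroup Cfsg Cfsg.Agent.Cit Cfsg.Agent.Cit.Nil.ROne
open Cfsg.Agent.Transfer.SL23Recog Cfsg.Agent.Transfer.SL23Section

variable {G : Type*} [Group G]

/-! ### general lemmas -/

theorem exists_odd_pow [Finite G] (g : G) : ∃ k : ℕ, Odd (orderOf (g ^ 2 ^ k)) := by
  obtain ⟨k, m, hm, h⟩ := Nat.exists_eq_two_pow_mul_odd (orderOf_pos g).ne'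
  refine ⟨k, ?_⟩
  rw [orderOf_pow, h, Nat.gcd_eq_right (dvd_mul_right _ _), Nat.mul_div_cancel_left _ (by positivity)]
  exact hm

/-- elements with the same action: `b` of odd order acts nontrivially, then so do the `2^k`-th powers of `a` -/
theorem exists_of_same {a b : G} {L : Subgroup G} (ho : Odd (orderOf b)) (hL : ∀ x ∈ L, b * x * b⁻¹ ∈ L)
    (h : ∀ x ∈ L, a * x * a⁻¹ = b * x * b⁻¹) (hn : ∃ x ∈ L, b * x ≠ x * b) (k : ℕ) :
    ∃ x ∈ L, a ^ 2 ^ k * x ≠ x * a ^ 2 ^ k := by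
  have key : ∀ i : ℕ, ∀ x ∈ L, a ^ i * x * (a ^ i)⁻¹ = b ^ i * x * (b ^ i)⁻¹ ∧ b ^ i * x * (b ^ i)⁻¹ ∈ L := by
    intro i
    induction i with
    | zero => intro x hx; simpa using hx
    | succ i ih =>
      intro x hx
      obtain ⟨h1, h2⟩ := ih x hx
      have e1 : a ^ (i + 1) * x * (a ^ (i + 1))⁻¹ = a * (a ^ i * x * (a ^ i)⁻¹) * a⁻¹ := by
        rw [pow_succ' a i]; group
      have e2 : b ^ (i + 1) * x * (b ^ (i + 1))⁻¹ = b * (b ^ i * x * (b ^ i)⁻¹) * b⁻¹ := by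
        rw [pow_succ' b i]; group
      rw [e1, e2, h1]
      exact ⟨h _ h2, hL _ h2⟩
  by_contra hcon
  push Not at hcon
  obtain ⟨x, hx, hne⟩ := hn
  apply hne
  have h1 := (key (2 ^ k) x hx).1
  rw [hcon x hx, mul_inv_cancel_right] at h1
  have h2 : Commute (b ^ 2 ^ k) x := by
    show b ^ 2 ^ k * x = x * b ^ 2 ^ k
    rw [← mul_inv_eq_iff_eq_mul, ← h1]
  have h3 : Nat.Coprime (2 ^ k) (orderOf b) := (Nat.coprime_two_left.2 ho).pow_left k
  obtain ⟨m, hm⟩ := exists_pow_eq_self_of_coprime h3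
  have h4 := h2.pow_left m
  rw [hm] at h4
  exact h4.eq

theorem comm_of_sq {c k : G} (ho : Odd (orderOf c)) (h : c * c * k = k * (c * c)) : c * k = k * c := by
  have h1 : Nat.Coprime 2 (orderOf c) := Nat.coprime_two_left.2 ho
  obtain ⟨m, hm⟩ := exists_pow_eq_self_of_coprime h1
  have h2 : Commute (c ^ 2) k := by rw [pow_two]; exact h
  have h3 := h2.pow_left m
  rw [hm] at h3
  exact h3.eq

theorem pow_conj_mem {a : G} {Q : Subgroup G} (h : ∀ p ∈ Q, a * p * a⁻¹ ∈ Q) (m : ℕ) :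
    ∀ p ∈ Q, a ^ m * p * (a ^ m)⁻¹ ∈ Q := by
  induction m with
  | zero => intro p hp; simpa using hp
  | succ m ih =>
    intro p hp
    have e1 : a ^ (m + 1) * p * (a ^ (m + 1))⁻¹ = a * (a ^ m * p * (a ^ m)⁻¹) * a⁻¹ := by
      rw [pow_succ' a m]; group
    rw [e1]
    exact h _ (ih p hp)

/-- a normal subgroup of odd order lies in `O(J)` -/
theorem le_oddCore_of {J : Type*} [Group J] [Finite J] {N : Subgroup J} (hn : N.Normal) (ho : Odd (Nat.card N)) :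
    N ≤ oddCore J := Lib.Cores.le_pPrimeCore hn (Nat.coprime_two_right.2 ho)

/-- recognition of `SL(2,3)` modulo `O(J)` -/
theorem sl23_quot [Finite G] {N J : Subgroup G} {i j t : G} (hN : Odd (Nat.card N)) (hNn : J ≤ normalizer (N : Set G))
    (hJ : J = N ⊔ closure {i, j, t}) (h : SLRel i j t) (hi : i ^ 2 ≠ 1) (ht : t ^ 3 ∈ N) :
    Nonempty ((↥J ⧸ oddCore ↥J) ≃* Matrix.SpecialLinearGroup (Fin 2) (ZMod 3)) := by
  have hNJ : N ≤ J := by rw [hJ]; exact le_sup_left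
  have hcJ : closure {i, j, t} ≤ J := by rw [hJ]; exact le_sup_right
  have hiJ : i ∈ J := hcJ (subset_closure (by simp))
  have hjJ : j ∈ J := hcJ (subset_closure (by simp))
  have htJ : t ∈ J := hcJ (subset_closure (by simp))
  have hnJ : (N.subgroupOf J).Normal := (normal_subgroupOf_iff_le_normalizer hNJ).2 hNn
  have hO : N.subgroupOf J ≤ oddCore ↥J := by
    refine le_oddCore_of hnJ ?_
    rw [Nat.card_congr (subgroupOfEquivOfLe hNJ).toEquiv]
    exact hN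
  set π := QuotientGroup.mk' (oddCore ↥J) with hπ
  have hrel : SLRel (π ⟨i, hiJ⟩) (π ⟨j, hjJ⟩) (π ⟨t, htJ⟩) := slrel_map π (slrel_subtype J hiJ hjJ htJ h)
  have hker : ∀ x : ↥J, π x = 1 ↔ x ∈ oddCore ↥J := fun x => QuotientGroup.eq_one_iff x
  have hodd : Odd (Nat.card (oddCore ↥J)) := Nat.coprime_two_right.1 (Lib.Cores.pPrimeCore_coprime 2)
  have ht3 : π ⟨t, htJ⟩ ^ 3 = 1 := by
    rw [← map_pow, hker]
    exact hO (mem_subgroupOf.2 ht)
  have hi2 : π ⟨i, hiJ⟩ ^ 2 ≠ 1 := by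
    rw [← map_pow, Ne, hker]
    intro h1
    apply hi
    have h2 : orderOf (⟨i, hiJ⟩ ^ 2 : ↥J) ∣ Nat.card (oddCore ↥J) := by
      have := orderOf_dvd_natCard (⟨_, h1⟩ : ↥(oddCore ↥J))
      rwa [Subgroup.orderOf_mk] at this
    have h3 : orderOf (⟨i, hiJ⟩ ^ 2 : ↥J) ∣ 2 := by
      refine orderOf_dvd_of_pow_eq_one ?_
      apply Subtype.ext
      show (i ^ 2) ^ 2 = 1
      rw [← pow_mul]
      exact h.hi
    have h4 : orderOf (⟨i, hiJ⟩ ^ 2 : ↥J) = 1 :=
      Nat.eq_one_of_dvd_coprimes (Nat.coprime_two_left.2 hodd) h3 h2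
    exact congrArg Subtype.val (orderOf_eq_one_iff.1 h4)
  have ht1 : π ⟨t, htJ⟩ ≠ 1 := by
    intro h1
    have h3 := hrel.hti
    rw [h1, one_mul, inv_one, mul_one] at h3
    apply j_not_commute hrel.toQRel hi2
    rw [← h3]
  have hgen : closure ({π ⟨i, hiJ⟩, π ⟨j, hjJ⟩, π ⟨t, htJ⟩} : Set (↥J ⧸ oddCore ↥J)) = ⊤ := by
    set A := (closure ({π ⟨i, hiJ⟩, π ⟨j, hjJ⟩, π ⟨t, htJ⟩} : Set (↥J ⧸ oddCore ↥J))).comap π with hA
    have h1 : J ≤ A.map J.subtype := by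
      have h2 : N ⊔ closure {i, j, t} ≤ A.map J.subtype := by
        refine sup_le ?_ ?_
        · intro x hx
          refine ⟨⟨x, hNJ hx⟩, ?_, rfl⟩
          show π ⟨x, hNJ hx⟩ ∈ closure ({π ⟨i, hiJ⟩, π ⟨j, hjJ⟩, π ⟨t, htJ⟩} : Set (↥J ⧸ oddCore ↥J))
          have h3 : π ⟨x, hNJ hx⟩ = 1 := (hker _).2 (hO (mem_subgroupOf.2 hx))
          rw [h3]
          exact Subgroup.one_mem _
        · rw [closure_le]
          rintro x (rfl | rfl | hx)
          · exact ⟨⟨x, hiJ⟩, subset_closure (by simp), rfl⟩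
          · exact ⟨⟨x, hjJ⟩, subset_closure (by simp), rfl⟩
          · rw [Set.mem_singleton_iff] at hx
            subst hx
            exact ⟨⟨x, htJ⟩, subset_closure (by simp), rfl⟩
      rwa [← hJ] at h2
    rw [eq_top_iff]
    rintro y -
    obtain ⟨x, rfl⟩ := QuotientGroup.mk'_surjective (oddCore ↥J) y
    obtain ⟨x', hx', h2⟩ := h1 x.2
    have h3 : x' = x := Subtype.ext h2
    rw [← h3]
    exact hx'
  have hcard : Nat.card (↥J ⧸ oddCore ↥J) = 24 := by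
    have h3 : Nat.card (↥J ⧸ oddCore ↥J) ≤ 24 := by
      have := (hrel.card_le ht3).2
      rwa [hgen, card_top] at this
    have h4 : 8 ∣ Nat.card (↥J ⧸ oddCore ↥J) := by
      rw [← card_quaternion hrel.toQRel hi2]
      exact card_subgroup_dvd_card _
    have h5 : 3 ∣ Nat.card (↥J ⧸ oddCore ↥J) := by
      rw [← orderOf_eq_prime ht3 ht1]
      exact orderOf_dvd_natCard _
    have h7 : 24 ∣ Nat.card (↥J ⧸ oddCore ↥J) := by
      rw [show (24 : ℕ) = 8 * 3 from rfl]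
      exact Nat.Coprime.mul_dvd_of_dvd_of_dvd (by norm_num) h4 h5
    exact le_antisymm h3 (Nat.le_of_dvd Nat.card_pos h7)
  exact sl23_of_relations hrel ht3 hgen hcard

/-! ### automorphisms of `Q₈` -/

/-- `F r s` moves all axes -/
def Ax (r s : QEight.Q) : Prop :=
  ∀ y : QEight.Q, y * y = QuaternionGroup.a 2 → QEight.F r s y ≠ y ∧ QEight.F r s y ≠ y⁻¹

instance (r s : QEight.Q) : Decidable (Ax r s) := by unfold Ax; infer_instance

def C1 (p q r s y : QEight.Q) : Prop :=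
  ∀ x, QEight.F p q (QEight.F r s x) = y * QEight.F r s (QEight.F p q x) * y⁻¹

instance (p q r s y : QEight.Q) : Decidable (C1 p q r s y) := by unfold C1; infer_instance

def C2 (p q r s y : QEight.Q) : Prop :=
  ∀ x, QEight.F p q (QEight.F r s x) = y * QEight.F r s (QEight.F r s (QEight.F p q x)) * y⁻¹

instance (p q r s y : QEight.Q) : Decidable (C2 p q r s y) := by unfold C2; infer_instance

set_option maxRecDepth 100000 in
theorem key_aux : ∀ p q : QEight.Q, QEight.Ok p q → ∀ r s : QEight.Q, QEight.Ok r s → Ax r s →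
    ∃ y : QEight.Q, C1 p q r s y ∨ C2 p q r s y := by
  decide +kernel

/-! ### the action of `C(z)` on `K z` -/

section act

variable {Z : Set G} {K : G → Subgroup G} {z u g c : G}

theorem conj_cen (h : W Z K) (hz : z ∈ Z) (hu : u * z = z * u) (hg : Cen K g z) : Cen K (u * g * u⁻¹) z := by
  intro k hk
  have h1 := hg _ (h.norm_mem' hz hu hk)
  calc u * g * u⁻¹ * k = u * (g * (u⁻¹ * k * u)) * u⁻¹ := by group
    _ = k * (u * g * u⁻¹) := by rw [h1]; group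

theorem conj_rot [Finite G] (h : W Z K) (hz : z ∈ Z) (hu : u * z = z * u) (hc : c * z = z * c) (hodd : Odd (orderOf c))
    (hn : ¬ Cen K c z) : ∃ y ∈ K z, ∃ w, Cen K w z ∧ (u * c * u⁻¹ = w * y * c ∨ u * c * u⁻¹ = w * y * (c * c)) := by
  have hax : Ax (h.rho hz c hc (QuaternionGroup.a 1)) (h.rho hz c hc (QuaternionGroup.xa 0)) := by
    intro y hyy
    obtain ⟨k, hk, rfl⟩ := h.exists_e hz y
    rw [← QEight.funF, h.rho_e hz hc hk]
    have hkk : k * k = z := by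
      rw [← h.e_mul hz hk hk, ← h.e_z hz] at hyy
      exact h.e_inj hz _ _ hyy
    obtain ⟨h1, h2⟩ := h.axes hz hc hodd hn hk hkk
    refine ⟨fun h3 => h1 (h.e_inj hz _ _ h3), fun h3 => h2 ?_⟩
    rw [← h.e_inv hz hk] at h3
    exact h.e_inj hz _ _ h3
  have key : ∀ {y d : G} (hy : y ∈ K z) (hd : d * z = z * d), (∀ x : QEight.Q, h.rho hz u hu (h.rho hz c hc x) =
      h.e hz ⟨y, hy⟩ * h.rho hz d hd (h.rho hz u hu x) * (h.e hz ⟨y, hy⟩)⁻¹) →
      ∃ w, Cen K w z ∧ u * c * u⁻¹ = w * y * d := by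
    intro y d hy hd h3
    refine ⟨u * c * (y * d * u)⁻¹, ?_, by group⟩
    intro k hk
    have hyz : y * z = z * y := h.cent hz hy
    have h4 : y * d * u * z = z * (y * d * u) := by
      calc y * d * u * z = y * d * (u * z) := by group
        _ = y * (d * z) * u := by rw [hu]; group
        _ = (y * z) * (d * u) := by rw [hd]; group
        _ = _ := by rw [hyz]; group
    have h5 : (y * d * u)⁻¹ * k * (y * d * u) ∈ K z := h.norm_mem' hz h4 hk
    set m := (y * d * u)⁻¹ * k * (y * d * u) with hm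
    have h6 := h3 (h.e hz ⟨m, h5⟩)
    rw [h.rho_e hz hc h5, h.rho_e hz hu (h.norm_mem hz hc h5), h.rho_e hz hu h5,
      h.rho_e hz hd (h.norm_mem hz hu h5), ← h.e_mul hz hy (h.norm_mem hz hd (h.norm_mem hz hu h5)),
      ← h.e_inv hz hy, ← h.e_mul hz (mul_mem hy (h.norm_mem hz hd (h.norm_mem hz hu h5))) (inv_mem hy)] at h6
    have h7 := h.e_inj hz _ _ h6
    have h8 : k = u * (c * m * c⁻¹) * u⁻¹ := by
      rw [h7, hm]; group
    calc u * c * (y * d * u)⁻¹ * k = u * c * m * (y * d * u)⁻¹ := by rw [hm]; group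
      _ = (u * (c * m * c⁻¹) * u⁻¹) * (u * c * (y * d * u)⁻¹) := by group
      _ = k * (u * c * (y * d * u)⁻¹) := by rw [← h8]
  obtain ⟨y', h1⟩ := key_aux _ _ (QEight.aut_ok (h.rho hz u hu)) _ _ (QEight.aut_ok (h.rho hz c hc)) hax
  obtain ⟨y, hy, rfl⟩ := h.exists_e hz y'
  rcases h1 with h1 | h1
  · obtain ⟨w, hw, h2⟩ := key hy hc (fun x => by
      have h2 := h1 x
      rwa [← QEight.funF, ← QEight.funF] at h2)
    exact ⟨y, hy, w, hw, Or.inl h2⟩
  · have hcc : (c * c) * z = z * (c * c) := by rw [mul_assoc, hc, ← mul_assoc, hc, mul_assoc]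
    obtain ⟨w, hw, h2⟩ := key hy hcc (fun x => by
      have h2 := h1 x
      rw [← QEight.funF, ← QEight.funF] at h2
      rw [h.rho_mul hz hc hc hcc]
      exact h2)
    exact ⟨y, hy, w, hw, Or.inr h2⟩

end act

/-- Frattini, for a 2-subgroup of maximal order of the normal subgroup `W₀` -/
theorem frat [Finite G] {W₀ Q : Subgroup G} (hQ : IsPGroup 2 Q) (hQW : Q ≤ W₀)
    (hmax : ∀ P : Subgroup G, IsPGroup 2 P → P ≤ W₀ → Nat.card P ≤ Nat.card Q) {c : G}
    (hc : ∀ x ∈ W₀, c * x * c⁻¹ ∈ W₀) : ∃ u ∈ W₀, ∀ p ∈ Q, u * c * p * (u * c)⁻¹ ∈ Q := by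
  haveI : Fact (Nat.Prime 2) := ⟨Nat.prime_two⟩
  have key : ∀ R : Subgroup G, IsPGroup 2 R → R ≤ W₀ → Nat.card R = Nat.card Q →
      ∃ P : Sylow 2 ↥W₀, ∀ x : ↥W₀, x ∈ (P : Subgroup ↥W₀) ↔ (x : G) ∈ R := by
    intro R hR hRW hcR
    obtain ⟨P, hP⟩ := (hR.comap_of_injective W₀.subtype (subtype_injective _)).exists_le_sylow
    have h1 : R ≤ (P : Subgroup ↥W₀).map W₀.subtype := fun x hx => ⟨⟨x, hRW hx⟩, hP hx, rfl⟩
    have h2 : IsPGroup 2 ((P : Subgroup ↥W₀).map W₀.subtype) := P.2.map _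
    have h3 := hmax _ h2 (map_subtype_le _)
    have h4 : R = (P : Subgroup ↥W₀).map W₀.subtype := eq_of_le_of_card_ge h1 (by rw [hcR]; exact h3)
    refine ⟨P, fun x => ⟨fun hx => ?_, fun hx => ?_⟩⟩
    · rw [h4]; exact ⟨x, hx, rfl⟩
    · rw [h4] at hx
      obtain ⟨y, hy, hyx⟩ := hx
      have : y = x := Subtype.ext hyx
      rw [← this]; exact hy
  obtain ⟨P₁, hP₁⟩ := key Q hQ hQW rfl
  obtain ⟨P₂, hP₂⟩ := key (cj c Q) (isPGroup_cj hQ) (by
    intro x hx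
    rw [mem_cj] at hx
    have := hc _ (hQW hx)
    have e : c * (c⁻¹ * x * c) * c⁻¹ = x := by group
    rwa [e] at this) (card_cj c Q)
  obtain ⟨g, hg⟩ := MulAction.exists_smul_eq ↥W₀ P₂ P₁
  refine ⟨g, g.2, fun p hp => ?_⟩
  have h1 : c * p * c⁻¹ ∈ W₀ := hc _ (hQW hp)
  have h2 : (⟨c * p * c⁻¹, h1⟩ : ↥W₀) ∈ (P₂ : Subgroup ↥W₀) := (hP₂ _).2 (conj_mem_cj hp)
  have h3 : g * ⟨c * p * c⁻¹, h1⟩ * g⁻¹ ∈ (P₁ : Subgroup ↥W₀) := by
    rw [← hg, Sylow.coe_subgroup_smul, mem_pointwise_smul_iff_inv_smul_mem]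
    show (MulAut.conj g)⁻¹ (g * ⟨c * p * c⁻¹, h1⟩ * g⁻¹) ∈ _
    rw [← map_inv, MulAut.conj_apply]
    have e : g⁻¹ * (g * ⟨c * p * c⁻¹, h1⟩ * g⁻¹) * g⁻¹⁻¹ = ⟨c * p * c⁻¹, h1⟩ := by group
    rw [e]
    exact h2
  have h4 := (hP₁ _).1 h3
  have e : (g : G) * c * p * ((g : G) * c)⁻¹ = ((g * ⟨c * p * c⁻¹, h1⟩ * g⁻¹ : ↥W₀) : G) := by
    show _ = (g : G) * (c * p * c⁻¹) * (g : G)⁻¹
    group
  rw [e]
  exact h4

/-! ### (P3) -/

/-- the hypotheses of (P3): `le8`, `rt` are `card_le`, `rot_two` of (P1) -/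
structure Hq (Z : Set G) (K : G → Subgroup G) (z : G) : Prop where
  w : W Z K
  hz : z ∈ Z
  le8 : ∀ P : Subgroup G, IsPGroup 2 P → (∀ p ∈ P, Cen K p z) → Nat.card P ≤ 8
  rt : ∀ (P : Subgroup G) (g : G), IsPGroup 2 P → (∀ p ∈ P, Cen K p z) → g * z = z * g → Odd (orderOf g) →
    (∀ p ∈ P, g * p * g⁻¹ ∈ P) → (∃ p ∈ P, g * p ≠ p * g) →
    Nat.card P = 8 ∧ ∃ r ∈ P, ∃ v ∈ K z, v * v = z ∧ r * r = z ∧ v * r ∈ Z ∧
      (g * r * g⁻¹) * r = z * (r * (g * r * g⁻¹))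
  rot : ∃ c : G, c * z = z * c ∧ Odd (orderOf c) ∧ ¬ Cen K c z
  hq : ∀ t ∈ Z, ∀ t' ∈ Z, t ≠ z → t' ≠ z → t * z = z * t → t' * z = z * t' → t * t' = t' * t → t' = t ∨ t' = z * t

section main

variable {Z : Set G} {K : G → Subgroup G} {z u g c h : G}

/-- different axes -/
theorem anti (w : W Z K) (hz : z ∈ Z) {v v' : G} (hv : v ∈ K z) (hv' : v' ∈ K z) (hvv : v * v = z) (hvv' : v' * v' = z)
    (h1 : v' ≠ v) (h2 : v' ≠ v⁻¹) : v' * v = z * (v * v') := by
  have h3 := w.inv_of_ne hz hv' hvv' hv hvv h1.symm (fun h4 => h2 (by rw [h4, inv_inv]))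
  have h5 : v⁻¹ = z * v := by
    rw [inv_eq_iff_mul_eq_one, ← mul_assoc, w.cent hz hv, mul_assoc, hvv, w.sq z hz]
  rw [h5, mul_inv_eq_iff_eq_mul] at h3
  rw [h3, mul_assoc]

theorem mem_of_cen_cases (w : W Z K) (hz : z ∈ Z) {k : G} (hk : k ∈ K z) (hc : Cen K k z) : k = 1 ∨ k = z := by
  by_contra hcon
  push Not at hcon
  have hkk := w.sq_eq hz hk hcon.1 hcon.2
  obtain ⟨i, hi, j, hj, hii, hjj, hji, hcov⟩ := w.exists_ij hz
  have hij : i * j ≠ j * i := by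
    intro h1
    apply w.ne z hz
    rw [← h1] at hji
    exact (right_eq_mul.1 hji)
  by_cases h1 : i = k ∨ i = k⁻¹
  · apply hij
    have h2 := hc j hj
    rcases h1 with rfl | rfl
    · exact h2
    · rw [inv_mul_eq_iff_eq_mul, ← mul_assoc, h2, mul_inv_cancel_right]
  · push Not at h1
    have h2 := anti w hz hk hi hkk hii h1.1 h1.2
    rw [hc i hi] at h2
    exact w.ne z hz (right_eq_mul.1 h2)

namespace Hq

variable [Finite G] (x : Hq Z K z)

include x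

/-- (*) -/
theorem star {Q : Subgroup G} (hQ : IsPGroup 2 Q) (hQc : ∀ p ∈ Q, Cen K p z) (hh : h * z = z * h) (ho : Odd (orderOf h))
    (hn : ∀ p ∈ Q, h * p * h⁻¹ ∈ Q) (hne : ∃ p ∈ Q, h * p ≠ p * h) (hK : ¬ Cen K h z) : False := by
  obtain ⟨-, r, hr, v, hv, hvv, hrr, hvr, hrel⟩ := x.rt Q h hQ hQc hh ho hn hne
  have hz := x.hz
  set v' := h * v * h⁻¹ with hv'
  set r' := h * r * h⁻¹ with hr'
  have hv'K : v' ∈ K z := x.w.norm_mem hz hh hv
  have hr'Q : r' ∈ Q := hn r hr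
  have hvv' : v' * v' = z := by
    rw [hv', show h * v * h⁻¹ * (h * v * h⁻¹) = h * (v * v) * h⁻¹ by group, hvv, hh, mul_inv_cancel_right]
  obtain ⟨h1, h2⟩ := x.w.axes hz hh ho hK hv hvv
  have h3 : v' * v = z * (v * v') := anti x.w hz hv hv'K hvv hvv' h1 h2
  have hrv : ∀ {a b : G}, a ∈ Q → b ∈ K z → a * b = b * a := fun ha hb => hQc _ ha _ hb
  have hvz : v * z = z * v := x.w.cent hz hv
  have hv'z : v' * z = z * v' := x.w.cent hz hv'K
  have hrz : r * z = z * r := hrv hr (x.w.mem z hz)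
  have hr'z : r' * z = z * r' := hrv hr'Q (x.w.mem z hz)
  have hzz : z * z = 1 := x.w.sq z hz
  have ht' : v' * r' ∈ Z := by
    have h4 := x.w.conjZ _ hvr h
    have e : h * (v * r) * h⁻¹ = v' * r' := by rw [hv', hr']; group
    rwa [e] at h4
  have hinter : ∀ {a : G}, a ∈ Q → a ∈ K z → a = 1 ∨ a = z := fun ha hb => mem_of_cen_cases x.w hz hb (hQc _ ha)
  have hnz : ∀ {a b : G}, a ∈ K z → a * a = z → b ∈ Q → b * b = z → a * b ≠ z := by
    intro a b ha haa hb hbb hab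
    have h4 : b = a⁻¹ * z := by rw [← hab]; group
    have h5 : b ∈ K z := by rw [h4]; exact mul_mem (inv_mem ha) (x.w.mem z hz)
    rcases hinter hb h5 with h6 | h6
    · rw [h6, one_mul] at hbb; exact x.w.ne z hz hbb.symm
    · rw [h6, hzz] at hbb; exact x.w.ne z hz hbb.symm
  have hrr' : r' * r' = z := by
    rw [hr', show h * r * h⁻¹ * (h * r * h⁻¹) = h * (r * r) * h⁻¹ by group, hrr, hh, mul_inv_cancel_right]
  have hcomm : (v * r) * (v' * r') = (v' * r') * (v * r) := by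
    have e1 : (v * r) * (v' * r') = (v * v') * (r * r') := by
      calc (v * r) * (v' * r') = v * (r * v') * r' := by group
        _ = (v * v') * (r * r') := by rw [hrv hr hv'K]; group
    have e2 : (v' * r') * (v * r) = (v' * v) * (r' * r) := by
      calc (v' * r') * (v * r) = v' * (r' * v) * r := by group
        _ = (v' * v) * (r' * r) := by rw [hrv hr'Q hv]; group
    rw [e1, e2, h3, hrel]
    have hvz2 : (v * v') * z = z * (v * v') := by rw [mul_assoc, hv'z, ← mul_assoc, hvz, mul_assoc]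
    calc v * v' * (r * r') = (z * z) * (v * v') * (r * r') := by rw [hzz, one_mul]
      _ = z * (z * (v * v')) * (r * r') := by rw [mul_assoc z z]
      _ = z * ((v * v') * z) * (r * r') := by rw [hvz2]
      _ = z * (v * v') * (z * (r * r')) := by group
  rcases x.hq _ hvr _ ht' (hnz hv hvv hr hrr) (hnz hv'K hvv' hr'Q hrr')
    (by rw [mul_assoc, hrz, ← mul_assoc, hvz, mul_assoc]) (by rw [mul_assoc, hr'z, ← mul_assoc, hv'z, mul_assoc]) hcomm
    with h4 | h4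
  · have h5 : v⁻¹ * v' = r * r'⁻¹ := by
      rw [inv_mul_eq_iff_eq_mul, ← mul_assoc, eq_mul_inv_iff_mul_eq, h4]
    rcases hinter (mul_mem hr (inv_mem hr'Q)) (by rw [← h5]; exact mul_mem (inv_mem hv) hv'K) with h6 | h6
    · rw [← h5, inv_mul_eq_one] at h6
      exact h1 (show v' = v from h6.symm)
    · rw [← h5, inv_mul_eq_iff_eq_mul] at h6
      apply h2
      show v' = v⁻¹
      rw [h6, eq_comm, inv_eq_iff_mul_eq_one, ← mul_assoc, hvv, hzz]
  · have h5 : v⁻¹ * v' = z * (r * r'⁻¹) := by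
      rw [inv_mul_eq_iff_eq_mul, ← mul_assoc, ← mul_assoc, eq_mul_inv_iff_mul_eq, h4, hvz]; group
    have h7 : z ∈ Q := by rw [← hrr]; exact mul_mem hr hr
    rcases hinter (mul_mem h7 (mul_mem hr (inv_mem hr'Q))) (by rw [← h5]; exact mul_mem (inv_mem hv) hv'K) with h6 | h6
    · rw [← h5, inv_mul_eq_one] at h6
      exact h1 (show v' = v from h6.symm)
    · rw [← h5, inv_mul_eq_iff_eq_mul] at h6
      apply h2
      show v' = v⁻¹
      rw [h6, eq_comm, inv_eq_iff_mul_eq_one, ← mul_assoc, hvv, hzz]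

theorem cent_z {g : G} (hg : Cen K g z) : g * z = z * g := hg z (x.w.mem z x.hz)

/-- transfer of the rotation of `K z` to an element normalising `Q` -/
theorem exists_rot {Q : Subgroup G} (hQ : IsPGroup 2 Q) (hQc : ∀ p ∈ Q, Cen K p z)
    (hmax : ∀ P : Subgroup G, IsPGroup 2 P → (∀ p ∈ P, Cen K p z) → Nat.card P ≤ Nat.card Q) :
    ∃ n : G, n * z = z * n ∧ Odd (orderOf n) ∧ (∀ p ∈ Q, n * p * n⁻¹ ∈ Q) ∧ ¬ Cen K n z := by
  obtain ⟨c, hc, ho, hn⟩ := x.rot
  have hz := x.hz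
  have hmem : ∀ {g : G}, g ∈ centralizer (K z : Set G) ↔ Cen K g z := fun {g} => by
    rw [mem_centralizer_iff]
    exact ⟨fun h1 k hk => (h1 k hk).symm, fun h1 k hk => (h1 k hk).symm⟩
  obtain ⟨u, hu, huQ⟩ := frat (c := c) hQ (fun p hp => hmem.2 (hQc p hp))
    (fun P hP hPW => hmax P hP fun p hp => hmem.1 (hPW hp))
    (fun g hg => hmem.2 (conj_cen x.w hz hc (hmem.1 hg)))
  rw [hmem] at hu
  have hucz : (u * c) * z = z * (u * c) := by
    rw [mul_assoc, hc, ← mul_assoc, x.cent_z hu, mul_assoc]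
  have hpow : ∀ m : ℕ, (u * c) ^ m * z = z * (u * c) ^ m := fun m =>
    ((show Commute (u * c) z from hucz).pow_left m).eq
  have hpowQ : ∀ m : ℕ, ∀ p ∈ Q, (u * c) ^ m * p * ((u * c) ^ m)⁻¹ ∈ Q := pow_conj_mem huQ
  obtain ⟨k, hk⟩ := exists_odd_pow (u * c)
  refine ⟨(u * c) ^ 2 ^ k, hpow _, hk, hpowQ _, fun hcen => ?_⟩
  have h1 : ∃ y ∈ K z, c * y ≠ y * c := by
    by_contra hcon
    push Not at hcon
    exact hn hcon
  obtain ⟨y, hy, hne⟩ := exists_of_same (a := u * c) (b := c) ho (fun y hy => x.w.norm_mem hz hc hy)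
    (fun y hy => by
      have h2 := hu _ (x.w.norm_mem hz hc hy)
      calc u * c * y * (u * c)⁻¹ = (u * (c * y * c⁻¹)) * u⁻¹ := by group
        _ = c * y * c⁻¹ := by rw [h2, mul_inv_cancel_right]) h1 k
  exact hne (hcen y hy)

/-- (i) : the odd elements of `C(K z)` act trivially on 2-subgroups of `C(K z)` -/
theorem comm_of_norm {Q : Subgroup G} (hQ : IsPGroup 2 Q) (hQc : ∀ p ∈ Q, Cen K p z) (hg : Cen K g z)
    (ho : Odd (orderOf g)) (hgQ : ∀ p ∈ Q, g * p * g⁻¹ ∈ Q) : ∀ p ∈ Q, g * p = p * g := by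
  by_contra hcon
  push Not at hcon
  have h8 := (x.rt Q g hQ hQc (x.cent_z hg) ho hgQ hcon).1
  obtain ⟨n, hnz, hno, hnQ, hnK⟩ := x.exists_rot hQ hQc (fun P hP hPc => by rw [h8]; exact x.le8 P hP hPc)
  by_cases h1 : ∃ p ∈ Q, n * p ≠ p * n
  · exact x.star hQ hQc hnz hno hnQ h1 hnK
  push Not at h1
  have hpowQ : ∀ m : ℕ, ∀ p ∈ Q, (g * n) ^ m * p * ((g * n) ^ m)⁻¹ ∈ Q := pow_conj_mem fun p hp => by
    have e1 : g * n * p * (g * n)⁻¹ = g * (n * p * n⁻¹) * g⁻¹ := by group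
    rw [e1]
    exact hgQ _ (hnQ _ hp)
  have hgnz : (g * n) * z = z * (g * n) := by
    rw [mul_assoc, hnz, ← mul_assoc, x.cent_z hg, mul_assoc]
  obtain ⟨k, hk⟩ := exists_odd_pow (g * n)
  refine x.star hQ hQc (h := (g * n) ^ 2 ^ k) ((show Commute (g * n) z from hgnz).pow_left _).eq hk (hpowQ _) ?_ ?_
  · exact exists_of_same (a := g * n) (b := g) ho hgQ (fun p hp => by
      have h2 := h1 p hp
      calc g * n * p * (g * n)⁻¹ = g * (n * p * n⁻¹) * g⁻¹ := by group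
        _ = g * p * g⁻¹ := by rw [h2, mul_inv_cancel_right]) hcon k
  · intro hcen
    have h3 : ∃ y ∈ K z, n * y ≠ y * n := by
      by_contra h4
      push Not at h4
      exact hnK h4
    obtain ⟨y, hy, hne⟩ := exists_of_same (a := g * n) (b := n) hno (fun y hy => x.w.norm_mem x.hz hnz hy)
      (fun y hy => by
        have h2 := hg _ (x.w.norm_mem x.hz hnz hy)
        calc g * n * y * (g * n)⁻¹ = (g * (n * y * n⁻¹)) * g⁻¹ := by group
          _ = n * y * n⁻¹ := by rw [h2, mul_inv_cancel_right]) h3 k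
    exact hne (hcen y hy)

theorem mem_W {g : G} : g ∈ centralizer (K z : Set G) ↔ Cen K g z := by
  rw [mem_centralizer_iff]
  exact ⟨fun h1 k hk => (h1 k hk).symm, fun h1 k hk => (h1 k hk).symm⟩

/-- (i) : the normal 2-complement of `C(K z)` -/
theorem exists_compl : ∃ N P : Subgroup G, IsPGroup 2 P ∧ (∀ p ∈ P, Cen K p z) ∧
    (∀ g, g ∈ N ↔ Cen K g z ∧ Odd (orderOf g)) ∧ Odd (Nat.card N) ∧ (∀ g, Cen K g z → ∃ n ∈ N, ∃ p ∈ P, g = n * p) ∧
    (∀ P' : Subgroup G, IsPGroup 2 P' → (∀ p ∈ P', Cen K p z) → Nat.card P' ≤ Nat.card P) := by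
  haveI : Fact (Nat.Prime 2) := ⟨Nat.prime_two⟩
  obtain ⟨W₀, hW₀⟩ : ∃ W₀ : Subgroup G, W₀ = centralizer (K z : Set G) := ⟨_, rfl⟩
  have hmem : ∀ {g : G}, g ∈ W₀ ↔ Cen K g z := fun {g} => by rw [hW₀]; exact x.mem_W
  obtain ⟨P₀⟩ : Nonempty (Sylow 2 ↥W₀) := inferInstance
  obtain ⟨N₀, hN₀, hcompl⟩ := (S0071.result P₀).2 (by
    intro Q hQ g hg ho
    rw [mem_centralizer_iff]
    intro q hq
    have h1 : IsPGroup 2 (Q.map W₀.subtype) := (P₀.2.to_le hQ).map _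
    have h2 := x.comm_of_norm (g := (g : G)) h1 (by
      rintro _ ⟨p, -, rfl⟩
      exact hmem.1 p.2) (hmem.1 g.2) (by
        rw [Subgroup.orderOf_coe]
        exact Nat.coprime_two_right.1 ho) (by
        rintro _ ⟨p, hp, rfl⟩
        exact ⟨g * p * g⁻¹, (mem_normalizer_iff.1 hg p).1 hp, rfl⟩) q ⟨q, hq, rfl⟩
    exact Subtype.ext h2.symm)
  have hodd : Odd (Nat.card N₀) := by
    rw [← hcompl.index_eq_card, ← Nat.not_even_iff_odd, even_iff_two_dvd]
    exact P₀.not_dvd_index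
  obtain ⟨k, hk⟩ : ∃ k, N₀.index = 2 ^ k := by
    rw [hcompl.symm.index_eq_card]
    exact IsPGroup.iff_card.1 P₀.2
  refine ⟨N₀.map W₀.subtype, (P₀ : Subgroup ↥W₀).map W₀.subtype, P₀.2.map _, ?_, ?_, ?_, ?_, ?_⟩
  · rintro _ ⟨p, -, rfl⟩
    exact hmem.1 p.2
  · intro g
    constructor
    · rintro ⟨n, hn, rfl⟩
      refine ⟨hmem.1 n.2, ?_⟩
      rw [show (W₀.subtype n : G) = (n : G) from rfl, Subgroup.orderOf_coe]
      refine Odd.of_dvd_nat hodd ?_
      rw [show orderOf n = orderOf (⟨n, hn⟩ : ↥N₀) from (Subgroup.orderOf_mk n hn).symm]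
      exact orderOf_dvd_natCard _
    · rintro ⟨hg, ho⟩
      refine ⟨⟨g, hmem.2 hg⟩, ?_, rfl⟩
      have h1 : (⟨g, hmem.2 hg⟩ : ↥W₀) ^ 2 ^ k ∈ N₀ := by
        rw [← hk]; exact Subgroup.pow_index_mem N₀ _
      have h2 : Nat.Coprime (2 ^ k) (orderOf (⟨g, hmem.2 hg⟩ : ↥W₀)) := by
        rw [Subgroup.orderOf_mk]
        exact (Nat.coprime_two_left.2 ho).pow_left k
      obtain ⟨m, hm⟩ := exists_pow_eq_self_of_coprime h2
      show (⟨g, hmem.2 hg⟩ : ↥W₀) ∈ N₀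
      rw [← hm]
      exact pow_mem h1 m
  · rw [card_map_of_injective (subtype_injective _)]
    exact hodd
  · intro g hg
    have h1 : (⟨g, hmem.2 hg⟩ : ↥W₀) ∈ N₀ ⊔ (P₀ : Subgroup ↥W₀) := by
      rw [hcompl.sup_eq_top]; exact mem_top _
    obtain ⟨n, hn, p, hp, h2⟩ := mem_sup_of_normal_left.1 h1
    exact ⟨n, ⟨n, hn, rfl⟩, p, ⟨p, hp, rfl⟩, (congrArg Subtype.val h2).symm⟩
  · intro P' hP' hPc
    obtain ⟨P₁, hP₁⟩ := (hP'.comap_of_injective W₀.subtype (subtype_injective _)).exists_le_sylow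
    rw [card_map_of_injective (subtype_injective _), Nat.card_congr (Sylow.equiv P₀ P₁).toEquiv]
    have h1 : P' ≤ (P₁ : Subgroup ↥W₀).map W₀.subtype := fun y hy => ⟨⟨y, hmem.2 (hPc y hy)⟩, hP₁ hy, rfl⟩
    have h2 := Subgroup.card_le_of_le h1
    rwa [card_map_of_injective (subtype_injective _)] at h2

omit x in
/-- three axes -/
theorem third (w : W Z K) (hz : z ∈ Z) {p q r : G} (hp : p ∈ K z) (hq : q ∈ K z) (hr : r ∈ K z) (hpp : p * p = z)
    (hqq : q * q = z) (hrr : r * r = z) (h1 : q ≠ p) (h2 : q ≠ p⁻¹) (h3 : r ≠ p) (h4 : r ≠ p⁻¹) (h5 : r ≠ q)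
    (h6 : r ≠ q⁻¹) : r = p * q ∨ r = q * p := by
  have key : ∀ p q r : QEight.Q, p * p = QuaternionGroup.a 2 → q * q = QuaternionGroup.a 2 →
      r * r = QuaternionGroup.a 2 → q ≠ p → q ≠ p⁻¹ → r ≠ p → r ≠ p⁻¹ → r ≠ q → r ≠ q⁻¹ → r = p * q ∨ r = q * p := by
    decide +kernel
  have hsq : ∀ {y : G} (hy : y ∈ K z), y * y = z → w.e hz ⟨y, hy⟩ * w.e hz ⟨y, hy⟩ = QuaternionGroup.a 2 := by
    intro y hy h4
    rw [← w.e_mul hz hy hy, ← w.e_z hz]
    exact congrArg (w.e hz) (Subtype.ext h4)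
  have hne : ∀ {a b : G} (ha : a ∈ K z) (hb : b ∈ K z), a ≠ b → w.e hz ⟨a, ha⟩ ≠ w.e hz ⟨b, hb⟩ :=
    fun ha hb hab h => hab (w.e_inj hz _ _ h)
  have hne' : ∀ {a b : G} (ha : a ∈ K z) (hb : b ∈ K z), a ≠ b⁻¹ → w.e hz ⟨a, ha⟩ ≠ (w.e hz ⟨b, hb⟩)⁻¹ := by
    intro a b ha hb hab h
    rw [← w.e_inv hz hb] at h
    exact hab (w.e_inj hz _ _ h)
  rcases key _ _ _ (hsq hp hpp) (hsq hq hqq) (hsq hr hrr) (hne hq hp h1) (hne' hq hp h2) (hne hr hp h3)
    (hne' hr hp h4) (hne hr hq h5) (hne' hr hq h6) with h | h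
  · left; rw [← w.e_mul hz hp hq] at h; exact w.e_inj hz _ _ h
  · right; rw [← w.e_mul hz hq hp] at h; exact w.e_inj hz _ _ h

omit x in
/-- generators of `K z` permuted by `c` -/
theorem exists_rel (w : W Z K) (hz : z ∈ Z) (hc : c * z = z * c) (ho : Odd (orderOf c)) (hn : ¬ Cen K c z) :
    ∃ i ∈ K z, ∃ j ∈ K z, i * i = z ∧ j * j = z ∧ SLRel i j c ∧ closure {i, j} = K z := by
  obtain ⟨p, hp, -, -, hpp, -⟩ := w.exists_ij hz
  obtain ⟨q, hq⟩ : ∃ q, q = c * p * c⁻¹ := ⟨_, rfl⟩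
  obtain ⟨r, hr⟩ : ∃ r, r = c * q * c⁻¹ := ⟨_, rfl⟩
  have hcc : (c * c) * z = z * (c * c) := by rw [mul_assoc, hc, ← mul_assoc, hc, mul_assoc]
  have hoc : Odd (orderOf (c * c)) := by
    rw [← pow_two]
    exact Odd.of_dvd_nat ho (orderOf_pow_dvd 2)
  have hnc : ¬ Cen K (c * c) z := by
    intro h1
    apply hn
    exact fun k hk => comm_of_sq ho (h1 k hk)
  have hqK : q ∈ K z := by rw [hq]; exact w.norm_mem hz hc hp
  have hrK : r ∈ K z := by rw [hr]; exact w.norm_mem hz hc hqK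
  have hsq : ∀ {a : G}, a * a = z → (c * a * c⁻¹) * (c * a * c⁻¹) = z := by
    intro a ha
    rw [show c * a * c⁻¹ * (c * a * c⁻¹) = c * (a * a) * c⁻¹ by group, ha, hc, mul_inv_cancel_right]
  have hqq : q * q = z := by rw [hq]; exact hsq hpp
  have hrr : r * r = z := by rw [hr]; exact hsq hqq
  obtain ⟨h1, h2⟩ := w.axes hz hc ho hn hp hpp
  obtain ⟨h3, h4⟩ := w.axes hz hc ho hn hqK hqq
  obtain ⟨h5, h6⟩ := w.axes hz hcc hoc hnc hp hpp
  have e : c * c * p * (c * c)⁻¹ = r := by rw [hr, hq]; group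
  rw [e] at h5 h6
  rw [← hq] at h1 h2
  rw [← hr] at h3 h4
  have main : ∀ {i j : G}, i ∈ K z → j ∈ K z → i * i = z → j * j = z → j ≠ i → j ≠ i⁻¹ → c * i * c⁻¹ = j →
      c * j * c⁻¹ = i * j → ∃ i ∈ K z, ∃ j ∈ K z, i * i = z ∧ j * j = z ∧ SLRel i j c ∧ closure {i, j} = K z := by
    intro i j hi hj hii hjj hji hji' h7 h8
    have hrel : SLRel i j c := by
      refine ⟨⟨?_, by rw [pow_two, pow_two, hii, hjj], ?_⟩, h7, h8⟩
      · rw [show 4 = 2 * 2 from rfl, pow_mul, pow_two i, hii, pow_two, w.sq z hz]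
      · exact w.inv_of_ne hz hj hjj hi hii hji.symm (fun h9 => hji' (by rw [h9, inv_inv]))
    refine ⟨i, hi, j, hj, hii, hjj, hrel, ?_⟩
    refine eq_of_le_of_card_ge ?_ ?_
    · rw [closure_le]
      rintro y (rfl | hy)
      · exact hi
      · rw [Set.mem_singleton_iff] at hy
        subst hy
        exact hj
    · rw [card_quaternion hrel.toQRel (by rw [pow_two, hii]; exact w.ne z hz), w.card8 hz]
  rcases third w hz hp hqK hrK hpp hqq hrr h1 h2 h5 h6 h3 h4 with h7 | h7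
  · exact main hp hqK hpp hqq h1 h2 hq.symm (by rw [← hr, h7])
  · have hinv : ∀ {a : G}, a * a = z → a⁻¹ * a⁻¹ = z := by
      intro a ha
      rw [← mul_inv_rev, ha, w.inv hz]
    refine main (inv_mem hp) (inv_mem hqK) (hinv hpp) (hinv hqq) (fun h8 => h1 (inv_injective h8))
      (fun h8 => h2 (by rw [← inv_inv q, h8, inv_inv])) (by rw [hq]; group) ?_
    rw [show c * q⁻¹ * c⁻¹ = (c * q * c⁻¹)⁻¹ by group, ← hr, h7, mul_inv_rev]

/-- **(P3)** -/
theorem three : IndDefs.Three (K z) := by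
  have hz := x.hz
  have w := x.w
  obtain ⟨N, P, hP, hPc, hN, hNo, hdec, hmax⟩ := x.exists_compl
  obtain ⟨c, hcz, hco, hcP, hcK⟩ := x.exists_rot hP hPc hmax
  have hcc : ∀ p ∈ P, c * p = p * c := by
    by_contra hcon
    push Not at hcon
    exact x.star hP hPc hcz hco hcP hcon hcK
  obtain ⟨i, hi, j, hj, hii, hjj, hrel, hcl⟩ := exists_rel w hz hcz hco hcK
  have hzK := w.mem z hz
  have hNz : ∀ {u g : G}, u * z = z * u → g ∈ N → u * g * u⁻¹ ∈ N := by
    intro u g hu hg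
    rw [hN] at hg ⊢
    refine ⟨conj_cen w hz hu hg.1, ?_⟩
    rw [show u * g * u⁻¹ = MulAut.conj u g from rfl, MulEquiv.orderOf_eq]
    exact hg.2
  obtain ⟨C, hC⟩ : ∃ C : Subgroup G, C = centralizer {z} := ⟨_, rfl⟩
  have hCm : ∀ {g : G}, g ∈ C ↔ g * z = z * g := fun {g} => by rw [hC]; exact mem_centralizer_singleton_iff
  have hCN : C ≤ normalizer (N : Set G) := by
    intro u hu
    rw [mem_normalizer_iff]
    rw [hCm] at hu
    intro g
    refine ⟨fun hg => hNz hu hg, fun hg => ?_⟩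
    have hu' : u⁻¹ * z = z * u⁻¹ := by rw [inv_mul_eq_iff_eq_mul, ← mul_assoc, hu, mul_inv_cancel_right]
    have h1 := hNz hu' hg
    have e : u⁻¹ * (u * g * u⁻¹) * u⁻¹⁻¹ = g := by group
    rwa [e] at h1
  obtain ⟨J, hJ⟩ : ∃ J : Subgroup G, J = N ⊔ closure {i, j, c} := ⟨_, rfl⟩
  have hNJ : N ≤ J := by rw [hJ]; exact le_sup_left
  have hcJ : closure {i, j, c} ≤ J := by rw [hJ]; exact le_sup_right
  have hcJ' : c ∈ J := hcJ (subset_closure (by simp))
  have hKJ : K z ≤ J := by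
    rw [← hcl]
    refine le_trans (closure_mono ?_) hcJ
    intro y hy
    rcases hy with rfl | hy
    · simp
    · rw [Set.mem_singleton_iff] at hy; subst hy; simp
  have hNC : N ≤ C := fun g hg => hCm.2 (x.cent_z ((hN g).1 hg).1)
  have hKC : K z ≤ C := by rw [hC]; exact w.K_le hz
  have hJC : J ≤ C := by
    rw [hJ]
    refine sup_le hNC ?_
    rw [closure_le]
    rintro y (rfl | rfl | hy)
    · exact hKC hi
    · exact hKC hj
    · rw [Set.mem_singleton_iff] at hy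
      subst hy
      exact hCm.2 hcz
  have hc3 : c ^ 3 ∈ N := by
    rw [hN]
    refine ⟨?_, Odd.of_dvd_nat hco (orderOf_pow_dvd 3)⟩
    have hij : i * j ∈ K z := mul_mem hi hj
    have e1 : c * i = j * c := by rw [← mul_inv_eq_iff_eq_mul]; exact hrel.hti
    have e2 : c * j = i * j * c := by rw [← mul_inv_eq_iff_eq_mul]; exact hrel.htj
    have e4 : j * i = i⁻¹ * j := by rw [← mul_inv_eq_iff_eq_mul]; exact hrel.hji
    have e3 : j * (i * j) = i := by
      rw [← mul_assoc, e4, mul_assoc, hjj, ← hii]; group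
    have f1 : c ^ 3 * i = i * c ^ 3 := by
      calc c ^ 3 * i = c * (c * (c * i)) := by rw [pow_succ, pow_two]; group
        _ = c * ((c * j) * c) := by rw [e1]; group
        _ = (c * i) * j * c * c := by rw [e2]; group
        _ = j * (c * j) * c * c := by rw [e1]; group
        _ = (j * (i * j)) * (c * c * c) := by rw [e2]; group
        _ = i * c ^ 3 := by rw [e3, pow_succ, pow_two]
    have f2 : c ^ 3 * j = j * c ^ 3 := by
      calc c ^ 3 * j = c * (c * (c * j)) := by rw [pow_succ, pow_two]; group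
        _ = c * ((c * i) * j * c) := by rw [e2]; group
        _ = c * (j * (c * j) * c) := by rw [e1]; group
        _ = c * ((j * (i * j)) * (c * c)) := by rw [e2]; group
        _ = (c * i) * (c * c) := by rw [e3]; group
        _ = j * c ^ 3 := by rw [e1, pow_succ, pow_two]; group
    intro k hk
    rw [← hcl] at hk
    have h1 : closure {i, j} ≤ centralizer {c ^ 3} := by
      rw [closure_le]
      rintro y (rfl | hy)
      · exact mem_centralizer_singleton_iff.2 f1.symm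
      · rw [Set.mem_singleton_iff] at hy
        subst hy
        exact mem_centralizer_singleton_iff.2 f2.symm
    exact (mem_centralizer_singleton_iff.1 (h1 hk)).symm
  have hWJ : ∀ {u : G}, Cen K u z → u ∈ normalizer (J : Set G) := by
    have hPJ : ∀ p ∈ P, p ∈ normalizer (J : Set G) := by
      intro p hp
      rw [mem_normalizer_iff_cj]
      refine eq_of_le_of_card_ge ?_ (by rw [card_cj])
      have h1 : J ≤ J.comap (MulAut.conj p).toMonoidHom := by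
        conv_lhs => rw [hJ]
        have hpz := x.cent_z (hPc p hp)
        refine sup_le (fun g hg => hNJ (hNz hpz hg)) ?_
        rw [closure_le]
        have h2 : ∀ {y : G}, y ∈ J → p * y = y * p → y ∈ J.comap (MulAut.conj p).toMonoidHom := by
          intro y hy hpy
          show p * y * p⁻¹ ∈ J
          rw [hpy, mul_inv_cancel_right]
          exact hy
        rintro y (rfl | rfl | hy)
        · exact h2 (hKJ hi) (hPc p hp _ hi)
        · exact h2 (hKJ hj) (hPc p hp _ hj)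
        · rw [Set.mem_singleton_iff] at hy
          subst hy
          exact h2 hcJ' (hcc p hp).symm
      rw [cj_def, map_le_iff_le_comap]
      exact h1
    intro u hu
    obtain ⟨n, hn, p, hp, rfl⟩ := hdec u hu
    exact mul_mem (le_normalizer (hNJ hn)) (hPJ p hp)
  -- the subgroup `C(K z) K_z ⟨c⟩`
  obtain ⟨U, hU⟩ : ∃ U : Subgroup G, U = centralizer (K z : Set G) ⊔ J := ⟨_, rfl⟩
  have hJU : J ≤ U := by rw [hU]; exact le_sup_right
  have hWU : ∀ {g : G}, Cen K g z → g ∈ U := fun {g} hg => by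
    rw [hU]; exact le_sup_left (a := centralizer (K z : Set G)) (x.mem_W.2 hg)
  have hUn : ∀ m ∈ U, m ∈ normalizer (J : Set G) := by
    have h1 : U ≤ normalizer (J : Set G) := by
      rw [hU]
      exact sup_le (fun g hg => hWJ (x.mem_W.1 hg)) le_normalizer
    exact fun m hm => h1 hm
  have hUC : ∀ u ∈ C, ∀ g ∈ U, u * g * u⁻¹ ∈ U := by
    intro u hu
    rw [hCm] at hu
    have h1 : U ≤ U.comap (MulAut.conj u).toMonoidHom := by
      conv_lhs => rw [hU, hJ]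
      refine sup_le (fun g hg => hWU (conj_cen w hz hu (x.mem_W.1 hg))) (sup_le (fun g hg => hJU (hNJ (hNz hu hg))) ?_)
      rw [closure_le]
      rintro y (rfl | rfl | hy)
      · exact hJU (hKJ (w.norm_mem hz hu hi))
      · exact hJU (hKJ (w.norm_mem hz hu hj))
      · rw [Set.mem_singleton_iff] at hy
        subst hy
        show u * y * u⁻¹ ∈ U
        obtain ⟨k, hk, v, hv, h2 | h2⟩ := conj_rot w hz hu hcz hco hcK
        · rw [h2]
          exact mul_mem (mul_mem (hWU hv) (hJU (hKJ hk))) (hJU hcJ')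
        · rw [h2]
          exact mul_mem (mul_mem (hWU hv) (hJU (hKJ hk))) (mul_mem (hJU hcJ') (hJU hcJ'))
    exact fun g hg => h1 hg
  unfold IndDefs.Three
  rw [w.zz_K hz, ← hC]
  refine ⟨J, hJC, hKJ, ?_, sl23_quot hNo (hJC.trans hCN) hJ hrel (by rw [pow_two, hii]; exact w.ne z hz) hc3⟩
  have hUn' : (U.subgroupOf C).Normal := ⟨fun g hg u => mem_subgroupOf.2 (hUC u u.2 g (mem_subgroupOf.1 hg))⟩
  refine Subgroup.IsSubnormal.step _ (U.subgroupOf C) (fun g hg => mem_subgroupOf.2 (hJU (mem_subgroupOf.1 hg))) hUn'.isSubnormal ⟨?_⟩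
  rintro ⟨g, hgU⟩ hg ⟨m, hmU⟩
  exact mem_subgroupOf.2 ((mem_normalizer_iff.1 (hUn _ (mem_subgroupOf.1 hmU)) _).1 (mem_subgroupOf.1 hg))

end Hq

/-- **(P3)**, with `card_le`, `rot_two` of (P1) as hypotheses -/
theorem XW.three_of_clique [Finite G] {D : Subgroup G} (x : XW Z K D) (hz : z ∈ Z)
    (le8 : ∀ P : Subgroup G, IsPGroup 2 P → (∀ p ∈ P, Cen K p z) → Nat.card P ≤ 8)
    (rt : ∀ (P : Subgroup G) (g : G), IsPGroup 2 P → (∀ p ∈ P, Cen K p z) → g * z = z * g → Odd (orderOf g) →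
      (∀ p ∈ P, g * p * g⁻¹ ∈ P) → (∃ p ∈ P, g * p ≠ p * g) →
      Nat.card P = 8 ∧ ∃ r ∈ P, ∃ v ∈ K z, v * v = z ∧ r * r = z ∧ v * r ∈ Z ∧
        (g * r * g⁻¹) * r = z * (r * (g * r * g⁻¹)))
    (hq : ∀ t ∈ Z, ∀ t' ∈ Z, t ≠ z → t' ≠ z → t * z = z * t → t' * z = z * t' → t * t' = t' * t →
      t' = t ∨ t' = z * t) : IndDefs.Three (K z) :=
  (Hq.mk x.w hz le8 rt (x.rot z hz) hq).three

end main

end Cfsg.Agent.Cit.Nil.Comp.AO
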