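import Cfsg.Agent.Cit.Nil.Comp.AO.Defs
import Cfsg.Agent.Cit.Nil.Comp.AO.BenCen
import Cfsg.Agent.Cit.CloEnd
import Cfsg.Agent.Lib.SylowNormalInf
import Cfsg.Agent.TwoFusion.StronglyEmbeddedBasic

/-!
# S1309 (6b), `r = 1`, COMP, AllOne, (M2), piece (P2): the commuting graph on `Z` is connected (helper815)

`XW.connected` (bb R18 #19884): `h : XW Z K D`, Bender's theorem and Glauberman's criterion for `D` (`CloEnd.Bend ↥D`,
`CloEnd.Crit1175 ↥D`) ==> the commuting graph on `Z` is connected.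

The stabiliser `M` of a component `Γ ∋ a` contains `C(x)` for `x ∈ Γ`, and `M ∩ Z = Γ` (`OW.rch_of_mem`); if `Γ ≠ Z`
then S1175 gives a strongly embedded subgroup of `D` (`XW.exists_strong`), all involutions of `D` are `D`-conjugate and
`G = K_a D`; `K_a ∩ D` is `K_a` (`XW.false_of_le`) or `<a>` (`XW.false_of_inf`).
-/

set_option autoImplicit false
set_option linter.style.haveILetI false
set_option linter.unusedSectionVars false

namespace Cfsg.Agent.Cit.Nil.Comp.AO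

open Subgroup Cfsg Cfsg.Agent.Cit Cfsg.Agent.Cit.Nil.ROne

variable {G : Type*} [Group G] {Z : Set G} {K : G → Subgroup G} {D : Subgroup G} {a b g u x y t : G}

/-- adjacency in the commuting graph on `Z` -/
def Adj (Z : Set G) (a b : G) : Prop := a ∈ Z ∧ b ∈ Z ∧ a * b = b * a

theorem Adj.symm (h : Adj Z a b) : Adj Z b a := ⟨h.2.1, h.1, h.2.2.symm⟩

/-- connected in the commuting graph on `Z` -/
def Rch (Z : Set G) (a b : G) : Prop := Relation.ReflTransGen (Adj Z) a b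

theorem Rch.refl : Rch Z a a := Relation.ReflTransGen.refl

theorem Rch.of_adj (h : Adj Z a b) : Rch Z a b := Relation.ReflTransGen.single h

theorem Rch.trans (h1 : Rch Z a b) (h2 : Rch Z b u) : Rch Z a u := Relation.ReflTransGen.trans h1 h2

theorem Rch.symm (h : Rch Z a b) : Rch Z b a := by
  induction h with
  | refl => exact Rch.refl
  | tail _ h2 ih => exact (Rch.of_adj h2.symm).trans ih

theorem Rch.mem (h : Rch Z a b) (ha : a ∈ Z) : b ∈ Z := by
  induction h with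
  | refl => exact ha
  | tail _ h2 _ => exact h2.2.1

theorem Rch.conj (hZ : ∀ z ∈ Z, ∀ g, g * z * g⁻¹ ∈ Z) (h : Rch Z a b) (g : G) :
    Rch Z (g * a * g⁻¹) (g * b * g⁻¹) := by
  have key : ∀ {x y : G}, Adj Z x y → Adj Z (g * x * g⁻¹) (g * y * g⁻¹) := by
    rintro x y ⟨hx, hy, hxy⟩
    refine ⟨hZ x hx g, hZ y hy g, ?_⟩
    calc g * x * g⁻¹ * (g * y * g⁻¹) = g * (x * y) * g⁻¹ := by group
      _ = g * (y * x) * g⁻¹ := by rw [hxy]
      _ = g * y * g⁻¹ * (g * x * g⁻¹) := by group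
  induction h with
  | refl => exact Rch.refl
  | tail _ h2 ih => exact ih.trans (Rch.of_adj (key h2))

/-- the stabiliser of the component of `a` -/
def stab (hZ : ∀ z ∈ Z, ∀ g, g * z * g⁻¹ ∈ Z) (a : G) : Subgroup G where
  carrier := {g | Rch Z a (g * a * g⁻¹)}
  one_mem' := by
    change Rch Z a (1 * a * 1⁻¹)
    rw [one_mul, inv_one, mul_one]
    exact Rch.refl
  mul_mem' := by
    intro g h hg hh
    change Rch Z a (g * h * a * (g * h)⁻¹)
    have h1 := Rch.conj hZ (show Rch Z a (h * a * h⁻¹) from hh) g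
    have h2 : g * h * a * (g * h)⁻¹ = g * (h * a * h⁻¹) * g⁻¹ := by group
    rw [h2]
    exact Rch.trans hg h1
  inv_mem' := by
    intro g hg
    change Rch Z a (g⁻¹ * a * g⁻¹⁻¹)
    have h1 := Rch.conj hZ (show Rch Z a (g * a * g⁻¹) from hg) g⁻¹
    have h2 : g⁻¹ * (g * a * g⁻¹) * g⁻¹⁻¹ = a := by group
    rw [h2] at h1
    exact h1.symm

section stab

variable (hZ : ∀ z ∈ Z, ∀ g, g * z * g⁻¹ ∈ Z)

theorem mem_stab : g ∈ stab hZ a ↔ Rch Z a (g * a * g⁻¹) := Iff.rfl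

theorem mem_stab_of_conj (hx : Rch Z a x) (hg : Rch Z a (g * x * g⁻¹)) : g ∈ stab hZ a :=
  (mem_stab hZ).2 (hg.trans (Rch.conj hZ hx g).symm)

theorem cent_le_stab (hx : Rch Z a x) : centralizer {x} ≤ stab hZ a := by
  intro c hc
  rw [mem_centralizer_singleton_iff] at hc
  refine mem_stab_of_conj hZ hx ?_
  rwa [hc, mul_inv_cancel_right]

end stab

/-- an element of prime power order of a subgroup `M` containing the Sylow subgroup `R` lies in an `M`-conjugate of `R` -/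
theorem exists_conj_mem_sylow [Finite G] (R : Sylow 2 G) {M : Subgroup G} (hRM : (R : Subgroup G) ≤ M) (hx : x ∈ M)
    (h2 : IsPGroup 2 (zpowers x)) : ∃ m ∈ M, m * x * m⁻¹ ∈ R := by
  haveI : Fact (Nat.Prime 2) := ⟨Nat.prime_two⟩
  have h3 : IsPGroup 2 ((zpowers x).subgroupOf M) := h2.comap_subtype
  obtain ⟨P, hP⟩ := h3.exists_le_sylow
  obtain ⟨m, hm⟩ := MulAction.exists_smul_eq M P (R.subtype hRM)
  refine ⟨m, m.2, ?_⟩
  have h4 : m * (⟨x, hx⟩ : M) * m⁻¹ ∈ (R.subtype hRM : Sylow 2 M) := by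
    rw [← hm, ← SetLike.mem_coe, Sylow.coe_smul]
    exact ⟨⟨x, hx⟩, hP (by rw [mem_subgroupOf]; exact mem_zpowers x), rfl⟩
  exact h4

/-- two elements of order 4 on different axes generate `K z` -/
theorem gen_of_axes (w : W Z K) {z p q : G} (hz : z ∈ Z) (hp : p ∈ K z) (hq : q ∈ K z) (hpp : p * p = z)
    (hqq : q * q = z) (h1 : q ≠ p) (h2 : q ≠ p⁻¹) (hy : y ∈ K z) {H : Subgroup G} (hpH : p ∈ H) (hqH : q ∈ H) :
    y ∈ H := by
  have key : ∀ p q x : QEight.Q, p * p = QuaternionGroup.a 2 → q * q = QuaternionGroup.a 2 → q ≠ p → q ≠ p⁻¹ →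
      ∃ i j : Fin 4, x = p ^ i.val * q ^ j.val := by decide
  have hsq : ∀ {y : G} (hy : y ∈ K z), y * y = z → w.e hz ⟨y, hy⟩ * w.e hz ⟨y, hy⟩ = QuaternionGroup.a 2 := by
    intro y hy h4
    rw [← w.e_mul hz hy hy, ← w.e_z hz]
    exact congrArg (w.e hz) (Subtype.ext h4)
  obtain ⟨i, j, hij⟩ := key _ _ (w.e hz ⟨y, hy⟩) (hsq hp hpp) (hsq hq hqq) (fun h5 => h1 (w.e_inj hz _ _ h5))
    (fun h5 => h2 (by rw [← w.e_inv hz hp] at h5; exact w.e_inj hz _ _ h5))
  rw [← map_pow, ← map_pow, ← map_mul] at hij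
  have h3 := congrArg Subtype.val ((w.e hz).injective hij)
  have h4 : y = p ^ i.val * q ^ j.val := h3
  rw [h4]
  exact mul_mem (pow_mem hpH _) (pow_mem hqH _)

namespace OW

variable (o : OW Z K)

include o

/-- an N-partner -/
theorem npOf (hz : a ∈ Z) (hu : u ∈ Z) (hne : a ≠ u) (hc : a * u = u * a) : NP K a u :=
  ⟨hne, hc, o.nc a hz u hu⟩

/-- a Sylow subgroup containing `K a` centralises `a` -/
theorem sylow_le [Finite G] (ha : a ∈ Z) {S : Subgroup G} (hS : IsPGroup 2 S) (h : K a ≤ S) :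
    S ≤ centralizer {a} := by
  intro r hr
  rw [mem_centralizer_singleton_iff]
  by_contra hne
  have h1 : r * a * r⁻¹ ≠ a := fun h2 => hne (by rw [mul_inv_eq_iff_eq_mul] at h2; exact h2)
  have h2 : K (r * a * r⁻¹) ≤ S := by
    rw [o.w.conjK a ha r]
    intro x hx
    rw [mem_cj] at hx
    have h3 : x = r * (r⁻¹ * x * r) * r⁻¹ := by group
    rw [h3]
    exact mul_mem (mul_mem hr (h hx)) (inv_mem hr)
  exact o.nc a ha _ (o.w.conjZ a ha r) (o.w.com ha (o.w.conjZ a ha r) hS h h2 h1.symm)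

/-- `M ∩ Z = Γ` -/
theorem rch_of_mem [Finite G] (ha : a ∈ Z) (hx : x ∈ Z) (hM : x ∈ stab o.w.conjZ a) : Rch Z a x := by
  haveI : Fact (Nat.Prime 2) := ⟨Nat.prime_two⟩
  obtain ⟨R, hR⟩ := (o.w.two ha).exists_le_sylow
  have hRc := o.sylow_le ha R.isPGroup' hR
  have hRM : (R : Subgroup G) ≤ stab o.w.conjZ a := hRc.trans (cent_le_stab o.w.conjZ Rch.refl)
  obtain ⟨m, hm, hmx⟩ := exists_conj_mem_sylow R hRM hM (CloEnd.isPGroup_zpowers (o.w.sq x hx))
  -- `m x m⁻¹` commutes with `a`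
  have h1 := mem_centralizer_singleton_iff.1 (hRc hmx)
  have h2 : Rch Z a (m * x * m⁻¹) := Rch.of_adj ⟨ha, o.w.conjZ x hx m, h1.symm⟩
  have h3 := Rch.conj o.w.conjZ h2 m⁻¹
  have h4 : m⁻¹ * (m * x * m⁻¹) * m⁻¹⁻¹ = x := by group
  rw [h4] at h3
  exact ((mem_stab o.w.conjZ).1 (inv_mem hm)).trans h3

end OW

namespace XW

variable (h : XW Z K D)

include h

/-- if the graph is not connected then `D` has a strongly embedded subgroup -/
theorem exists_strong [Finite G] (h75 : CloEnd.Crit1175 ↥D) (ha : a ∈ Z) (hu : u ∈ Z) (hn : ¬ Rch Z a u) :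
    ∃ H : Subgroup ↥D, IsStronglyEmbedded H := by
  haveI : Fact (Nat.Prime 2) := ⟨Nat.prime_two⟩
  haveI := h.f.nor
  have hZ := h.w.conjZ
  set M := stab hZ a with hM
  have haD := h.mem a ha
  have hxM : ∀ {v}, v ∈ Z → v ∈ M → Rch Z a v := fun hv hvM => h.toOW.rch_of_mem ha hv hvM
  refine h75 (M.subgroupOf D) ?_ ⟨a, haD⟩ ?_ ?_ ?_ ?_ ?_
  · intro h1
    rw [subgroupOf_eq_top] at h1
    exact hn (hxM hu (h1 (h.mem u hu)))
  · rw [orderOf_mk]
    exact h.w.ord ha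
  · rw [mem_subgroupOf]
    exact cent_le_stab hZ Rch.refl (mem_centralizer_singleton_iff.2 rfl)
  · obtain ⟨R, hR⟩ := (h.w.two ha).exists_le_sylow
    have hRc := h.toOW.sylow_le ha R.isPGroup' hR
    refine ⟨(Lib.SylowNormalInf.isPGroup_subgroupOf R D).toSylow (Lib.SylowNormalInf.not_dvd_relIndex R D), ?_, ?_⟩
    · change (⟨a, haD⟩ : D) ∈ (R : Subgroup G).subgroupOf D
      rw [mem_subgroupOf]
      exact hR (h.w.mem a ha)
    · intro s hs
      change s ∈ (R : Subgroup G).subgroupOf D at hs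
      exact Subtype.ext (mem_centralizer_singleton_iff.1 (hRc (mem_subgroupOf.1 hs)))
  · intro g hg
    rw [mem_subgroupOf] at hg ⊢
    exact (mem_stab hZ).2 (hxM (hZ a ha g) hg)
  · intro g hg hne
    have hc : a * (g * a * g⁻¹) = g * a * g⁻¹ * a := congrArg Subtype.val hg.eq
    have hne' : a ≠ (g : G) * a * (g : G)⁻¹ := fun h' => hne (Subtype.ext h'.symm)
    have hgZ := hZ a ha g
    have hnp := h.toOW.npOf ha hgZ hne' hc
    have hmZ := h.w.mul_mem_of_np ha hgZ hnp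
    have h1 : Rch Z a (a * (g * a * g⁻¹)) := by
      refine Rch.of_adj ⟨ha, hmZ, ?_⟩
      rw [mul_assoc a, ← hc]
    intro c hcc
    rw [mem_subgroupOf]
    apply cent_le_stab hZ h1
    rw [mem_centralizer_singleton_iff] at hcc ⊢
    exact congrArg Subtype.val hcc

/-- the involution `t ∈ D` commuting with `a` acts on `K a` as an inner automorphism; so does `C_D(a)` -/
theorem false_of_inf [Finite G] (ha : a ∈ Z) (hK : ∀ k ∈ K a, k * k = a → k ∉ D) (hG : ∀ g : G, ∃ k ∈ K a, ∃ d ∈ D, g = k * d) :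
    False := by
  haveI := h.f.nor
  -- `[K a, C_D(a)] ≤ <a>`
  have key : ∀ d ∈ D, d * a = a * d → ∀ k ∈ K a, d * k * d⁻¹ = k ∨ d * k * d⁻¹ = k⁻¹ := by
    intro d hd hda k hk
    have h1 : d * k * d⁻¹ * k⁻¹ ∈ K a := mul_mem (h.w.norm_mem ha hda hk) (inv_mem hk)
    have h2 : d * k * d⁻¹ * k⁻¹ ∈ D := by
      have h3 : d * k * d⁻¹ * k⁻¹ = d * (k * d⁻¹ * k⁻¹) := by group
      rw [h3]
      exact mul_mem hd (h.f.nor.conj_mem _ (inv_mem hd) k)
    by_cases h3 : d * k * d⁻¹ * k⁻¹ = 1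
    · left
      exact mul_inv_eq_one.1 h3
    by_cases h4 : d * k * d⁻¹ * k⁻¹ = a
    · by_cases hk1 : k * k = a
      · right
        have h5 : d * k * d⁻¹ = a * k := by rw [← h4]; group
        rw [h5, ← hk1]
        have h6 : k * k * (k * k) = 1 := by rw [hk1, h.w.sq a ha]
        calc k * k * k = k * k * (k * k) * k⁻¹ := by group
          _ = k⁻¹ := by rw [h6, one_mul]
      · exfalso
        apply h3
        -- `k = 1` or `k = a`
        have h5 : k = 1 ∨ k = a := by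
          by_contra h5
          rw [not_or] at h5
          exact hk1 (h.w.sq_eq ha hk h5.1 h5.2)
        rcases h5 with h5 | h5
        · rw [h5]; group
        · rw [h5, hda]; group
    · exact absurd h2 (hK _ h1 (h.w.sq_eq ha h1 h3 h4))
  obtain ⟨t, ht, hta, hc⟩ := h.np a ha
  have hnp := h.toOW.npOf ha ht hta.symm hc
  have hti : TI K a t := by
    rcases h.w.np_cases ha ht hnp with h1 | ⟨b, b', h1, -⟩
    · exact h1
    · exfalso
      obtain ⟨c, hcK, hcc, h2, h3, -, -⟩ := h.w.exists_inv ha h1.mem h1.sq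
      obtain ⟨h4, h5⟩ := h1.ne c hcK hcc h2 h3
      rcases key t (h.mem t ht) hc.symm c hcK with h6 | h6
      · exact h4 h6
      · exact h5 h6
  obtain ⟨c, hcK, hcc, hca⟩ := h.w.ti_four hti
  obtain ⟨y, y', h1, -⟩ := hti
  obtain ⟨h2, h3⟩ := h.w.ti_act ha h1 hcc hca
  obtain ⟨b, hbK, hbb, hb1, hb2, -, -⟩ := h.w.exists_inv ha h1.mem h1.sq
  obtain ⟨h4, h5⟩ := h3 b hbK hbb hb1 hb2
  obtain ⟨k, hk, d, hd, hckd⟩ := hG c
  have hka := h.w.cent ha hk
  have hda : d * a = a * d := by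
    have h6 : d = k⁻¹ * c := by rw [hckd]; group
    have h7 : k⁻¹ * a = a * k⁻¹ := by rw [inv_mul_eq_iff_eq_mul, ← mul_assoc, hka, mul_inv_cancel_right]
    rw [h6, mul_assoc, hca, ← mul_assoc, h7, mul_assoc]
  -- `c b c⁻¹ = k (d b d⁻¹) k⁻¹ = k b^± k⁻¹ = b^±`
  have hkb : ∀ k ∈ K a, k * b * k⁻¹ = b ∨ k * b * k⁻¹ = b⁻¹ := by
    intro k hk
    by_cases h6 : k * k = a
    · by_cases h7 : b = k
      · left; rw [h7, mul_inv_cancel_right]
      by_cases h8 : b = k⁻¹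
      · left; rw [h8]; group
      right
      exact h.w.inv_of_ne ha hk h6 hbK hbb h7 h8
    · left
      have h5 : k = 1 ∨ k = a := by
        by_contra h5
        rw [not_or] at h5
        exact h6 (h.w.sq_eq ha hk h5.1 h5.2)
      rcases h5 with h5 | h5
      · rw [h5]; group
      · rw [h5, ← h.w.cent ha hbK, mul_inv_cancel_right]
  have h6 : c * b * c⁻¹ = k * (d * b * d⁻¹) * k⁻¹ := by rw [hckd]; group
  rcases key d hd hda b hbK with h7 | h7
  · rw [h7] at h6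
    rcases hkb k hk with h8 | h8
    · exact h4 (h6.trans h8)
    · exact h5 (h6.trans h8)
  · rw [h7] at h6
    rcases hkb k hk with h8 | h8
    · refine h5 (h6.trans ?_)
      have h9 : k * b⁻¹ * k⁻¹ = (k * b * k⁻¹)⁻¹ := by group
      rw [h9, h8]
    · refine h4 (h6.trans ?_)
      have h9 : k * b⁻¹ * k⁻¹ = (k * b * k⁻¹)⁻¹ := by group
      rw [h9, h8, inv_inv]

/-- `K a ≤ D` is impossible -/
theorem false_of_le [Finite G] (hc : Cfsg.Agent.BenderType.Classify.Concl ↥D) (ha : a ∈ Z) (hK : K a ≤ D) : False := by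
  haveI : Fact (Nat.Prime 2) := ⟨Nat.prime_two⟩
  obtain ⟨t, ht, hta, hc'⟩ := h.np a ha
  have hnp := h.toOW.npOf ha ht hta.symm hc'
  have h1 : IsPGroup 2 (zpowers t ⊔ K a : Subgroup G) := by
    refine IsPGroup.to_sup_of_normal_right' (CloEnd.isPGroup_zpowers (h.w.sq t ht)) (h.w.two ha) ?_
    rw [zpowers_le]
    exact h.w.mem_norm ha hc'.symm
  have h2 : IsPGroup 2 ((zpowers t ⊔ K a : Subgroup G).subgroupOf D) := h1.comap_subtype
  apply hnp.2.2
  refine h.w.csymm ha ht hta.symm fun k hk => ?_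
  have h3 := comm_of_concl hc h2 (x := ⟨t, h.mem t ht⟩) (y := ⟨k, hK hk⟩)
    (by rw [mem_subgroupOf]; exact mem_sup_left (mem_zpowers t))
    (by rw [mem_subgroupOf]; exact mem_sup_right hk) (Subtype.ext (h.w.sq t ht))
  exact congrArg Subtype.val h3

/-- **(P2)** : the commuting graph on `Z` is connected -/
theorem connected [Finite G] (hB : CloEnd.Bend ↥D) (h75 : CloEnd.Crit1175 ↥D) :
    ∀ z ∈ Z, ∀ u ∈ Z, Relation.ReflTransGen (fun a b => a ∈ Z ∧ b ∈ Z ∧ a * b = b * a) z u := by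
  intro a ha u hu
  by_contra hn
  obtain ⟨H, hH⟩ := h.exists_strong h75 ha hu hn
  haveI := h.f.nor
  have haD := h.mem a ha
  -- all members are conjugate under `D`
  have h1 : ∀ v ∈ Z, ∃ d ∈ D, d * a * d⁻¹ = v := by
    intro v hv
    obtain ⟨d, hd⟩ := isConj_iff.1 (TwoFusion.StronglyEmbeddedBasic.isConj_of_involutions hH ⟨a, haD⟩ ⟨v, h.mem v hv⟩
      (by rw [orderOf_mk]; exact h.w.ord ha) (by rw [orderOf_mk]; exact h.w.ord hv))
    exact ⟨d, d.2, congrArg Subtype.val hd⟩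
  -- `G = K a D`
  have h2 : K a ⊔ D = ⊤ := by
    refine h.top _ fun v hv => ?_
    obtain ⟨d, hd, rfl⟩ := h1 v hv
    intro y hy
    rw [h.w.conjK a ha d, mem_cj] at hy
    have h3 : y = d * (d⁻¹ * y * d) * d⁻¹ := by group
    rw [h3]
    exact mul_mem (mul_mem (mem_sup_right hd) (mem_sup_left hy)) (inv_mem (mem_sup_right hd))
  have h3 : ∀ g : G, ∃ k ∈ K a, ∃ d ∈ D, g = k * d := by
    intro g
    have h4 : g ∈ ((K a ⊔ D : Subgroup G) : Set G) := by rw [h2]; exact mem_top g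
    rw [mul_normal] at h4
    obtain ⟨k, hk, d, hd, hkd⟩ := Set.mem_mul.1 h4
    exact ⟨k, hk, d, hd, hkd.symm⟩
  by_cases h4 : ∃ k ∈ K a, k * k = a ∧ k ∈ D
  · -- `K a ≤ D`
    obtain ⟨k, hk, hkk, hkD⟩ := h4
    obtain ⟨c, hc, hodd, hcen⟩ := h.rot a ha
    obtain ⟨h5, h6⟩ := h.w.axes ha hc hodd hcen hk hkk
    refine h.false_of_le (hB H hH) ha fun y hy => ?_
    refine gen_of_axes h.w ha hk (h.w.norm_mem ha hc hk) hkk ?_ h5 h6 hy hkD (h.f.nor.conj_mem _ hkD c)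
    have h7 : c * k * c⁻¹ * (c * k * c⁻¹) = c * (k * k) * c⁻¹ := by group
    rw [h7, hkk, hc, mul_inv_cancel_right]
  · push Not at h4
    exact h.false_of_inf ha h4 h3

end XW

end Cfsg.Agent.Cit.Nil.Comp.AO
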