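import Cfsg.Agent.Cit.Nil.ROne.FStar
import Cfsg.Agent.Cit.Nil.IndDefs

/-!
# S1309 (6b), `r = 1`, COMP, the AllOne branch, (M2): the world of one class (helper61, bb R18 #19026)

`OW Z K` : members of order 8 without C-pairs, `F = 1` (a 2-element centralising `K z` and `K t`, `z t = t z`, is `1`);
`XW Z K D` : moreover one class of members, they generate the group, `D` is a simple normal subgroup with trivial
centraliser, every member has an N-partner and is rotated by an element of odd order.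

(`X = X_z / Z(X_z)`, `X_z` generated by the members `K u`, `(z, u)` a C-pair.)
-/

set_option autoImplicit false

namespace Cfsg.Agent.Cit.Nil.Comp.AO

open Subgroup Cfsg Cfsg.Agent.Cit Cfsg.Agent.Cit.Nil.ROne

/-- members of order 8, no C-pairs, `F = 1` -/
structure OW {G : Type*} [Group G] (Z : Set G) (K : G → Subgroup G) : Prop where
  w : W Z K
  nc : ∀ z ∈ Z, ∀ u ∈ Z, ¬ CP K z u
  f1 : ∀ z ∈ Z, ∀ t ∈ Z, z ≠ t → z * t = t * z → ∀ b : G, IsPGroup 2 (zpowers b) → Cen K b z → Cen K b t → b = 1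

/-- see the head of the file -/
structure XW {G : Type*} [Group G] (Z : Set G) (K : G → Subgroup G) (D : Subgroup G) : Prop extends OW Z K where
  cls : OneCls Z
  f : FSimp D
  mem : ∀ z ∈ Z, z ∈ D
  top : ∀ H : Subgroup G, (∀ z ∈ Z, K z ≤ H) → H = ⊤
  np : ∀ z ∈ Z, ∃ t ∈ Z, t ≠ z ∧ z * t = t * z
  rot : ∀ z ∈ Z, ∃ c : G, c * z = z * c ∧ Odd (orderOf c) ∧ ¬ Cen K c z

end Cfsg.Agent.Cit.Nil.Comp.AO
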