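import Cfsg.Agent.Cit.Nil.Comp.AO.StructTS
import Cfsg.Agent.Cit.LemmaB
import Cfsg.Agent.Cit.Nil.Three.Base

/-!
# S1309 (6b), `r = 1`, COMP, AllOne, (M2): 2-subgroups of `C(K z)` (helper61)

`OW Z K`, `z ∈ Z` with an N-partner:

* `OW.exists_shape` : all 2-subgroups of `C(K z)` are conjugate into one of shape `Shape Z K z P`;
* `OW.uniq` : an involution centralising `K z` is `z`;
* `OW.card_le` : a 2-subgroup of `C(K z)` has order at most 8;
* `OW.rot_two` : if an element of odd order acts non-trivially on it, it has order 8 and contains `r` with `w r ∈ Z`,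
  `w ∈ K z`, moved to an anticommuting element.
-/

set_option autoImplicit false
set_option linter.style.haveILetI false
set_option linter.unusedSectionVars false

namespace Cfsg.Agent.Cit.Nil.Comp.AO

open Subgroup Cfsg Cfsg.Agent.Cit Cfsg.Agent.Cit.Nil.ROne

variable {G : Type*} [Group G] {Z : Set G} {K : G → Subgroup G} {z t u v w g b p r x y k l m σ h ρ : G}

theorem cen_iff_mem : Cen K x z ↔ x ∈ centralizer (K z : Set G) := by
  rw [mem_centralizer_iff]
  exact ⟨fun h k hk => (h k hk).symm, fun h k hk => (h k hk).symm⟩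

namespace Shape

variable {P : Subgroup G}

/-- the elements different from `1`, `z` have square `z` -/
theorem sq (S : Shape Z K z P) (zz1 : z * z = 1) (hc : ∀ p ∈ P, p * z = z * p) (hp : p ∈ P) (h1 : p ≠ 1) (h2 : p ≠ z) :
    p * p = z := by
  have sqz : ∀ {q : G}, q * z = z * q → q * z * (q * z) = q * q := by
    intro q hq
    calc q * z * (q * z) = q * (z * q) * z := by group
      _ = q * q * (z * z) := by rw [← hq]; group
      _ = q * q := by rw [zz1, mul_one]
  rcases S with ⟨ρ, hρ, hρρ, hall⟩ | ⟨r, hr, σ, hσ, w, -, -, hrr, -, hσσ, hinv, hall⟩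
  · rcases hall p hp with h3 | h3 | h3 | h3
    · exact absurd h3 h1
    · exact absurd h3 h2
    · rcases hρρ with h4 | h4
      · exact absurd (h3.trans h4) h1
      · rw [h3, h4]
    · rcases hρρ with h4 | h4
      · exfalso; apply h2; rw [h3, h4, one_mul]
      · rw [h3, sqz (hc ρ hρ), h4]
  · have hrσ : σ * r * (σ * r) = z := by
      have e : σ * r = r⁻¹ * σ := by rw [← hinv]; group
      calc σ * r * (σ * r) = r⁻¹ * σ * (σ * r) := by rw [← e]
        _ = r⁻¹ * (σ * σ) * r := by group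
        _ = z := by rw [hσσ, mul_assoc, ← hc r hr]; group
    rcases hall p hp with h3 | h3
    · rcases h3 with h3 | h3 | h3 | h3
      · exact absurd h3 h1
      · exact absurd h3 h2
      · rw [h3, hrr]
      · rw [h3, sqz (hc r hr), hrr]
    · rcases h3 with h3 | h3 | h3 | h3
      · rw [inv_mul_eq_one] at h3
        rw [← h3, hσσ]
      · rw [inv_mul_eq_iff_eq_mul] at h3
        rw [h3, sqz (hc σ hσ), hσσ]
      · rw [inv_mul_eq_iff_eq_mul] at h3
        rw [h3, hrσ]
      · rw [inv_mul_eq_iff_eq_mul, ← mul_assoc] at h3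
        rw [h3, sqz (hc _ (mul_mem hσ hr)), hrσ]

theorem card_le [Finite G] (S : Shape Z K z P) : Nat.card P ≤ 8 := by
  classical
  have key : ∀ l : List G, (∀ p ∈ P, p ∈ l) → Nat.card P ≤ l.length := by
    intro l hl
    have h1 : (P : Set G) ⊆ (l.toFinset : Set G) := fun p hp => by
      rw [Finset.mem_coe, List.mem_toFinset]; exact hl p hp
    have h2 := Set.ncard_le_ncard h1 (Finset.finite_toSet _)
    rw [Set.ncard_coe_finset] at h2
    exact h2.trans (List.toFinset_card_le l)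
  rcases S with ⟨ρ, hρ, hρρ, hall⟩ | ⟨r, hr, σ, hσ, w, -, -, hrr, -, hσσ, hinv, hall⟩
  · refine (key [1, z, ρ, ρ * z] fun p hp => ?_).trans (by simp)
    simp only [List.mem_cons, List.not_mem_nil, or_false]
    exact hall p hp
  · refine (key [1, z, r, r * z, σ, σ * z, σ * r, σ * (r * z)] fun p hp => ?_).trans (by simp)
    simp only [List.mem_cons, List.not_mem_nil, or_false]
    rcases hall p hp with h1 | h1
    · rcases h1 with h1 | h1 | h1 | h1 <;> rw [h1] <;> simp
    · rcases h1 with h1 | h1 | h1 | h1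
      · rw [inv_mul_eq_one] at h1
        rw [← h1]; simp
      · rw [inv_mul_eq_iff_eq_mul] at h1
        rw [h1]; simp
      · rw [inv_mul_eq_iff_eq_mul] at h1
        rw [h1]; simp
      · rw [inv_mul_eq_iff_eq_mul] at h1
        rw [h1]; simp

end Shape

namespace OW

variable [Finite G] (o : OW Z K)

include o

/-- the 2-subgroups of `C(K z)` -/
theorem exists_shape (hz : z ∈ Z) (hnp : ∃ t ∈ Z, t ≠ z ∧ z * t = t * z) : ∃ P : Subgroup G, Shape Z K z P ∧
    IsPGroup 2 P ∧ (∀ p ∈ P, Cen K p z) ∧ ∀ P0 : Subgroup G, IsPGroup 2 P0 → (∀ p ∈ P0, Cen K p z) →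
      ∃ h, Cen K h z ∧ cj h P0 ≤ P := by
  haveI : Fact (Nat.Prime 2) := ⟨Nat.prime_two⟩
  have hCH : centralizer (K z : Set G) ≤ centralizer {z} := centralizer_le (by simpa using o.w.mem z hz)
  have hHC : centralizer {z} ≤ normalizer (centralizer (K z : Set G) : Set G) := by
    intro x hx
    have hxz : x * z = z * x := mem_centralizer_singleton_iff.1 hx
    refine mem_normalizer_iff.2 fun y => ?_
    rw [← cen_iff_mem, ← cen_iff_mem]
    have e : x * z * x⁻¹ = z := by rw [hxz, mul_inv_cancel_right]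
    have e' : x⁻¹ * z * x⁻¹⁻¹ = z := by rw [inv_inv, mul_assoc, ← hxz, inv_mul_cancel_left]
    constructor
    · intro h1
      have h2 := o.w.cen_conj hz x h1
      rwa [e] at h2
    · intro h1
      have h2 := o.w.cen_conj hz x⁻¹ h1
      have e2 : x⁻¹ * (x * y * x⁻¹) * x⁻¹⁻¹ = y := by group
      rwa [e', e2] at h2
  -- the Sylow group of `C(K z)` in a Sylow group `R` of `C(z)`
  have main : ∀ Q : Subgroup G, IsPGroup 2 Q → Q ≤ centralizer {z} → ∃ R : Subgroup G, IsPGroup 2 R ∧ Q ≤ R ∧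
      R ≤ centralizer {z} ∧ Syl (R ⊓ centralizer (K z : Set G)) (centralizer (K z : Set G)) := by
    intro Q hQ hQH
    obtain ⟨R, hR, hQR⟩ := LB.exists_syl_ge hQ hQH
    exact ⟨R, hR.2.1, hQR, hR.1, LB.syl_inf_normal hR hCH hHC⟩
  have conj : ∀ P : Subgroup G, Syl P (centralizer (K z : Set G)) → ∀ P0 : Subgroup G, IsPGroup 2 P0 →
      (∀ p ∈ P0, Cen K p z) → ∃ h, Cen K h z ∧ cj h P0 ≤ P := by
    intro P hP P0 hP0 hc
    obtain ⟨R0, hR0, hPR⟩ := LB.exists_syl_ge hP0 (M := centralizer (K z : Set G)) fun p hp => cen_iff_mem.1 (hc p hp)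
    obtain ⟨n, hn, h1⟩ := hR0.exists_conj hP
    exact ⟨n, cen_iff_mem.2 hn, by rw [← h1]; exact cj_mono n hPR⟩
  by_cases hTI : ∃ t ∈ Z, z ≠ t ∧ z * t = t * z ∧ TI K z t
  · obtain ⟨t, ht, hne, hc, w, g, hw, hg⟩ := hTI
    have T : TC Z K z t w g := ⟨o, hz, ht, hne, hc, hw, hg⟩
    have h1 : IsPGroup 2 (zpowers g ⊔ zpowers (w⁻¹ * t) : Subgroup G) := by
      refine OneBasic.isPGroup_sup_of_normalizes (isPGroup_zp (o.w.two ht) hg.mem) ?_ ?_
      · have e : (w⁻¹ * t) ^ 2 ^ 2 = 1 := by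
          have e1 : (w⁻¹ * t) ^ 2 ^ 2 = (w⁻¹ * t * (w⁻¹ * t)) * (w⁻¹ * t * (w⁻¹ * t)) := by
            rw [show (2 : ℕ) ^ 2 = 4 by norm_num, pow_succ, pow_succ, pow_two]; group
          rw [e1, T.r_sq, o.w.sq z hz]
        intro ⟨x, hx⟩
        obtain ⟨n, rfl⟩ := hx
        refine ⟨2, Subtype.ext ?_⟩
        change ((w⁻¹ * t) ^ n) ^ 2 ^ 2 = 1
        rw [← zpow_natCast, ← zpow_mul, mul_comm, zpow_mul, zpow_natCast, e, one_zpow]
      · rw [zpowers_le]
        refine mem_normalizer_iff_cj.2 ?_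
        have key : ∀ x ∈ zpowers (w⁻¹ * t), g * x = x * g := by
          rintro _ ⟨n, rfl⟩
          exact ((show Commute g (w⁻¹ * t) from T.r_g).zpow_right n).eq
        ext x
        rw [mem_cj]
        constructor
        · intro hx
          have h2 := key _ hx
          have e : x = g⁻¹ * x * g := by
            have h3 : g * (g⁻¹ * x * g) * g⁻¹ = g⁻¹ * x * g := by rw [h2]; group
            calc x = g * (g⁻¹ * x * g) * g⁻¹ := by group
              _ = _ := h3
          rw [e]; exact hx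
        · intro hx
          have h2 := key _ hx
          have e : g⁻¹ * x * g = x := by rw [mul_assoc, ← h2, inv_mul_cancel_left]
          rw [e]; exact hx
    have h2 : (zpowers g ⊔ zpowers (w⁻¹ * t) : Subgroup G) ≤ centralizer {z} := by
      refine sup_le (zpowers_le.2 (mem_centralizer_singleton_iff.2 T.gz)) (zpowers_le.2 ?_)
      exact mem_centralizer_singleton_iff.2 (T.r_cen z (o.w.mem z hz))
    obtain ⟨R, hR, hQR, hRH, hsyl⟩ := main _ h1 h2
    have hgR : g ∈ R := hQR (mem_sup_left (mem_zpowers g))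
    have hrR : w⁻¹ * t ∈ R := hQR (mem_sup_right (mem_zpowers _))
    refine ⟨R ⊓ centralizer (K z : Set G), T.struct (r := w⁻¹ * t) hR inf_le_left hgR ?_ ?_ rfl
      ⟨hrR, cen_iff_mem.1 T.r_cen⟩, hsyl.2.1, fun p hp => cen_iff_mem.2 hp.2, conj _ hsyl⟩
    · intro p hp
      exact mem_inf.2 ⟨mul_mem (mul_mem hgR (mem_inf.1 hp).1) (inv_mem hgR), (mem_normalizer_iff.1 (hHC (hRH hgR)) p).1 (mem_inf.1 hp).2⟩
    · intro p hp
      exact cen_iff_mem.2 hp.2
  · have all : ∀ u ∈ Z, z ≠ u → z * u = u * z → (∃ b, Trn K u z b) ∧ ∃ b, Trn K z u b := by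
      intro u hu hne hc
      rcases o.w.tri hz hu hne hc with h1 | h1 | h1
      · exact absurd h1 (o.nc z hz u hu)
      · exact absurd ⟨u, hu, hne, hc, h1⟩ hTI
      · obtain ⟨b, b', h2, h3⟩ := h1
        exact ⟨⟨b, h2⟩, b', h3⟩
    obtain ⟨t, ht, hne, hc⟩ := hnp
    obtain ⟨⟨b, hb⟩, -⟩ := all t ht hne.symm hc
    have T : TSW Z K z t b := ⟨o, hz, ht, hne.symm, hc, hb, all⟩
    obtain ⟨R, hR, hQR, hRH, hsyl⟩ := main (zpowers t) (isPGroup_of_sq (o.w.sq t ht))
      (zpowers_le.2 (mem_centralizer_singleton_iff.2 hc.symm))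
    have htR : t ∈ R := hQR (mem_zpowers t)
    refine ⟨R ⊓ centralizer (K z : Set G), T.struct hR inf_le_left htR ?_ fun p hp => cen_iff_mem.2 hp.2, hsyl.2.1,
      fun p hp => cen_iff_mem.2 hp.2, conj _ hsyl⟩
    intro p hp
    exact mem_inf.2 ⟨mul_mem (mul_mem htR (mem_inf.1 hp).1) (inv_mem htR), (mem_normalizer_iff.1 (hHC (hRH htR)) p).1 (mem_inf.1 hp).2⟩

/-- **an involution centralising `K z` is `z`** -/
theorem uniq (hz : z ∈ Z) (hnp : ∃ t ∈ Z, t ≠ z ∧ z * t = t * z) (hb : Cen K b z) (hbb : b * b = 1) : b = 1 ∨ b = z := by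
  obtain ⟨P, S, -, hPc, hall⟩ := o.exists_shape hz hnp
  have zz1 := o.w.sq z hz
  obtain ⟨h, hh, h1⟩ := hall (zpowers b) (isPGroup_of_sq hbb) (by
    rintro _ ⟨n, rfl⟩ k hk
    exact ((show Commute b k from hb k hk).zpow_left n).eq)
  have hhz : h * z = z * h := hh z (o.w.mem z hz)
  have h2 : h * b * h⁻¹ ∈ P := h1 (conj_mem_cj (mem_zpowers b))
  have h3 : h * b * h⁻¹ * (h * b * h⁻¹) = 1 := by
    calc h * b * h⁻¹ * (h * b * h⁻¹) = h * (b * b) * h⁻¹ := by group
      _ = 1 := by rw [hbb]; group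
  by_contra hcon
  push Not at hcon
  have e : h⁻¹ * z * h = z := by rw [mul_assoc, ← hhz, inv_mul_cancel_left]
  have h4 := S.sq zz1 (fun p hp => hPc p hp z (o.w.mem z hz)) h2 (fun h4 => hcon.1 (by
    calc b = h⁻¹ * (h * b * h⁻¹) * h := by group
      _ = 1 := by rw [h4]; group)) (fun h4 => hcon.2 (by
    calc b = h⁻¹ * (h * b * h⁻¹) * h := by group
      _ = z := by rw [h4, e]))
  rw [h3] at h4
  exact o.w.ne z hz h4.symm

/-- a 2-subgroup of `C(K z)` has order at most 8 -/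
theorem card_le (hz : z ∈ Z) (hnp : ∃ t ∈ Z, t ≠ z ∧ z * t = t * z) {P : Subgroup G} (hP : IsPGroup 2 P)
    (hPc : ∀ p ∈ P, Cen K p z) : Nat.card P ≤ 8 := by
  obtain ⟨P', S, -, -, hall⟩ := o.exists_shape hz hnp
  obtain ⟨h, -, h1⟩ := hall P hP hPc
  rw [← card_cj h P]
  exact (Nat.le_of_dvd Nat.card_pos (card_dvd_of_le h1)).trans S.card_le

/-- **the odd automorphisms** -/
theorem rot_two (hz : z ∈ Z) (hnp : ∃ t ∈ Z, t ≠ z ∧ z * t = t * z) {P : Subgroup G} (hP : IsPGroup 2 P)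
    (hPc : ∀ p ∈ P, Cen K p z) (hgz : g * z = z * g) (ho : Odd (orderOf g)) (hgP : ∀ p ∈ P, g * p * g⁻¹ ∈ P)
    (hne : ∃ p ∈ P, g * p ≠ p * g) : Nat.card P = 8 ∧ ∃ r ∈ P, ∃ w ∈ K z, w * w = z ∧ r * r = z ∧ w * r ∈ Z ∧
      g * r * g⁻¹ * r = z * (r * (g * r * g⁻¹)) := by
  classical
  haveI : Fact (Nat.Prime 2) := ⟨Nat.prime_two⟩
  obtain ⟨P', S, hP', hPc', hall⟩ := o.exists_shape hz hnp
  have zz1 := o.w.sq z hz
  have z1 := o.w.ne z hz
  have hpz : ∀ p ∈ P, p * z = z * p := fun p hp => hPc p hp z (o.w.mem z hz)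
  have hpz' : ∀ p ∈ P', p * z = z * p := fun p hp => hPc' p hp z (o.w.mem z hz)
  obtain ⟨h, hh, h1⟩ := hall P hP hPc
  have hhz : h * z = z * h := hh z (o.w.mem z hz)
  -- odd order
  have odd2 : ∀ {p : G}, Sm z (g * p * g⁻¹) p → g * p = p * g := by
    intro p hp
    rcases hp with h2 | h2
    · exact mul_inv_eq_iff_eq_mul.1 h2
    · refine Three.comm_of_pow_two (n := 1) ho ?_
      have h3 : g ^ 2 ^ 1 * p * (g ^ 2 ^ 1)⁻¹ = p := by
        rw [pow_one, pow_two]
        calc g * g * p * (g * g)⁻¹ = g * (g * p * g⁻¹) * g⁻¹ := by group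
          _ = g * (p * z) * g⁻¹ := by rw [h2]
          _ = (g * p * g⁻¹) * (g * z * g⁻¹) := by group
          _ = p * z * z := by rw [h2, hgz, mul_inv_cancel_right]
          _ = p := by rw [mul_assoc, zz1, mul_one]
      exact mul_inv_eq_iff_eq_mul.1 h3
  obtain ⟨p, hp, hgp⟩ := hne
  obtain ⟨p1, hp1⟩ : ∃ p1, p1 = g * p * g⁻¹ := ⟨_, rfl⟩
  have hp1P : p1 ∈ P := by rw [hp1]; exact hgP p hp
  have hnS : ¬ Sm z p1 p := fun h2 => hgp (odd2 (by rw [← hp1]; exact h2))
  have hpn1 : p ≠ 1 := by rintro rfl; exact hgp (by group)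
  have hpnz : p ≠ z := by rintro rfl; exact hgp hgz
  have hp1n1 : p1 ≠ 1 := by
    rw [hp1]
    intro h2
    apply hpn1
    calc p = g⁻¹ * (g * p * g⁻¹) * g := by group
      _ = 1 := by rw [h2]; group
  have hp1nz : p1 ≠ z := by
    rw [hp1]
    intro h2
    apply hpnz
    calc p = g⁻¹ * (g * p * g⁻¹) * g := by group
      _ = g⁻¹ * (g * z) := by rw [h2, mul_assoc, ← hgz]
      _ = z := by group
  obtain ⟨c, hc⟩ : ∃ c : G → G, c = fun x => h * x * h⁻¹ := ⟨_, rfl⟩
  have hcinj : ∀ {a b : G}, c a = c b → a = b := by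
    intro a b hab
    rw [hc] at hab
    exact mul_left_cancel (mul_right_cancel hab)
  have hcz : c z = z := by rw [hc]; change h * z * h⁻¹ = z; rw [hhz, mul_inv_cancel_right]
  have hc1 : c 1 = 1 := by rw [hc]; change h * 1 * h⁻¹ = 1; group
  have hcm : ∀ a b : G, c (a * b) = c a * c b := by
    intro a b
    rw [hc]
    change h * (a * b) * h⁻¹ = h * a * h⁻¹ * (h * b * h⁻¹)
    group
  have hcP : ∀ {a : G}, a ∈ P → c a ∈ P' := fun {a} ha => by rw [hc]; exact h1 (conj_mem_cj ha)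
  have hsq : ∀ {a : G}, a ∈ P → a ≠ 1 → a ≠ z → a * a = z := by
    intro a ha ha1 haz
    have h2 := S.sq zz1 hpz' (hcP ha) (fun h3 => ha1 (hcinj (h3.trans hc1.symm))) (fun h3 => haz (hcinj (h3.trans hcz.symm)))
    rw [← hcm] at h2
    exact hcinj (h2.trans hcz.symm)
  have hpp := hsq hp hpn1 hpnz
  have hzP : z ∈ P := by rw [← hpp]; exact mul_mem hp hp
  -- the order of `P`
  have h5 : 5 ≤ Nat.card P := by
    have hnd : ({1, z, p, p * z, p1} : Finset G).card = 5 := by
      have e1 : p * z ≠ 1 := by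
        intro e
        rw [mul_eq_one_iff_eq_inv, o.w.inv hz] at e
        exact hpnz e
      have e2 : p * z ≠ z := fun e => hpn1 (mul_eq_right.1 e)
      have e3 : p ≠ p * z := fun e => z1 (left_eq_mul.1 e)
      have e4 : p ≠ p1 := fun e => hnS (Or.inl e.symm)
      have e5 : p * z ≠ p1 := fun e => hnS (Or.inr e.symm)
      rw [Finset.card_insert_of_notMem, Finset.card_insert_of_notMem, Finset.card_insert_of_notMem,
        Finset.card_insert_of_notMem, Finset.card_singleton]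
      · simpa using e5
      · simp only [Finset.mem_insert, Finset.mem_singleton]
        push Not
        exact ⟨e3, e4⟩
      · simp only [Finset.mem_insert, Finset.mem_singleton]
        push Not
        exact ⟨hpnz.symm, e2.symm, hp1nz.symm⟩
      · simp only [Finset.mem_insert, Finset.mem_singleton]
        push Not
        exact ⟨z1.symm, hpn1.symm, e1.symm, hp1n1.symm⟩
    have hsub : (({1, z, p, p * z, p1} : Finset G) : Set G) ⊆ (P : Set G) := by
      intro x hx
      simp only [Finset.coe_insert, Finset.coe_singleton, Set.mem_insert_iff, Set.mem_singleton_iff] at hx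
      rcases hx with rfl | rfl | rfl | rfl | rfl
      · exact one_mem _
      · exact hzP
      · exact hp
      · exact mul_mem hp hzP
      · exact hp1P
    have h6 := Set.ncard_le_ncard hsub (Set.toFinite _)
    rw [Set.ncard_coe_finset, hnd] at h6
    exact h6
  have h8 : Nat.card P ≤ 8 := o.card_le hz hnp hP hPc
  have hcard : Nat.card P = 8 := by
    obtain ⟨n, hn⟩ := IsPGroup.iff_card.1 hP
    rw [hn] at h5 h8 ⊢
    have hn2 : n = 3 := by
      have a1 : n < 4 := by
        by_contra hcon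
        have := Nat.pow_le_pow_right (n := 2) (by norm_num) (show 4 ≤ n by omega)
        omega
      have a2 : 2 < n := by
        by_contra hcon
        have := Nat.pow_le_pow_right (n := 2) (by norm_num) (show n ≤ 2 by omega)
        omega
      omega
    rw [hn2]; norm_num
  have hPP' : cj h P = P' := by
    refine Subgroup.eq_of_le_of_card_ge h1 ?_
    rw [card_cj, hcard]
    exact S.card_le
  refine ⟨hcard, ?_⟩
  have hback : ∀ {a : G}, a ∈ P' → ∃ b ∈ P, c b = a := by
    intro a ha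
    rw [← hPP'] at ha
    rw [mem_cj] at ha
    refine ⟨_, ha, ?_⟩
    rw [hc]
    change h * (h⁻¹ * a * h) * h⁻¹ = a
    group
  rcases S with ⟨ρ, hρ, hρρ, hin⟩ | ⟨r, hr, σ, hσ, w, hw, hww, hrr, hwr, hσσ, hinv, hin⟩
  · exfalso
    apply hnS
    obtain ⟨ρ0, hρ0, rfl⟩ := hback hρ
    have key : ∀ a ∈ P, a ≠ 1 → a ≠ z → Sm z a ρ0 := by
      intro a ha ha1 haz
      rcases hin _ (hcP ha) with h2 | h2 | h2 | h2
      · exact absurd (hcinj (h2.trans hc1.symm)) ha1
      · exact absurd (hcinj (h2.trans hcz.symm)) haz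
      · exact Or.inl (hcinj h2)
      · right
        apply hcinj
        rw [h2, hcm, hcz]
    exact (key p1 hp1P hp1n1 hp1nz).trans zz1 ((key p hp hpn1 hpnz).symm zz1)
  · obtain ⟨r0, hr0, hcr⟩ := hback hr
    obtain ⟨σ0, hσ0, hcσ⟩ := hback hσ
    have hci : ∀ a : G, c a⁻¹ = (c a)⁻¹ := fun a => eq_inv_of_mul_eq_one_left (by rw [← hcm, inv_mul_cancel, hc1])
    have hrr0 : r0 * r0 = z := hcinj (by rw [hcm, hcr, hcz, hrr])
    have hinv0 : σ0 * r0 * σ0⁻¹ = r0⁻¹ := hcinj (by rw [hcm, hcm, hci, hci, hcr, hcσ, hinv])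
    have hin0 : ∀ a ∈ P, In4 z r0 a ∨ In4 z r0 (σ0⁻¹ * a) := by
      have key : ∀ a : G, In4 z r (c a) → In4 z r0 a := by
        intro a ha
        rcases ha with h2 | h2 | h2 | h2
        · exact Or.inl (hcinj (h2.trans hc1.symm))
        · exact Or.inr (Or.inl (hcinj (h2.trans hcz.symm)))
        · exact Or.inr (Or.inr (Or.inl (hcinj (h2.trans hcr.symm))))
        · exact Or.inr (Or.inr (Or.inr (hcinj (by rw [h2, hcm, hcr, hcz]))))
      intro a ha
      rcases hin _ (hcP ha) with h2 | h2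
      · exact Or.inl (key a h2)
      · right
        apply key
        rw [hcm, hci, hcσ]
        exact h2
    have hwr0 : w * r0 ∈ Z := by
      have h2 := o.w.conjZ _ hwr h⁻¹
      have e : h⁻¹ * (w * r) * h⁻¹⁻¹ = w * r0 := by
        have e1 : r = h * r0 * h⁻¹ := by rw [← hcr, hc]
        have e2 : h⁻¹ * w = w * h⁻¹ := ((show Commute h w from hh w hw).inv_left).eq
        rw [e1]
        calc h⁻¹ * (w * (h * r0 * h⁻¹)) * h⁻¹⁻¹ = (h⁻¹ * w) * h * r0 := by group
          _ = w * r0 := by rw [e2]; group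
      rwa [e] at h2
    refine ⟨r0, hr0, w, hw, hww, hrr0, hwr0, ?_⟩
    have hr0z : r0 * z = z * r0 := hpz r0 hr0
    have hr0i : r0⁻¹ = z * r0 := by
      rw [inv_eq_iff_mul_eq_one, ← mul_assoc, hr0z, mul_assoc, hrr0, zz1]
    -- elements of `In4` commute with `r0`
    have i4c : ∀ {a : G}, In4 z r0 a → a * r0 = r0 * a := by
      intro a ha
      rcases ha with h2 | h2 | h2 | h2
      · rw [h2, one_mul, mul_one]
      · rw [h2, hr0z]
      · rw [h2]
      · rw [h2, mul_assoc, ← hr0z]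
    have sinv : ∀ {a : G}, In4 z r0 (σ0⁻¹ * a) → a * r0 * a⁻¹ = r0⁻¹ := by
      intro a ha
      have h2 := i4c ha
      calc a * r0 * a⁻¹ = σ0 * (σ0⁻¹ * a * r0) * a⁻¹ := by group
        _ = σ0 * r0 * σ0⁻¹ := by rw [h2]; group
        _ = r0⁻¹ := hinv0
    obtain ⟨q, hq⟩ : ∃ q, q = g * r0 * g⁻¹ := ⟨_, rfl⟩
    have hqP : q ∈ P := by rw [hq]; exact hgP r0 hr0
    have hqq : q * q = z := by
      rw [hq]
      calc g * r0 * g⁻¹ * (g * r0 * g⁻¹) = g * (r0 * r0) * g⁻¹ := by group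
        _ = z := by rw [hrr0, hgz, mul_inv_cancel_right]
    rw [← hq]
    rcases hin0 q hqP with h2 | h2
    swap
    · have h3 := sinv h2
      have h4 : q * r0 = r0⁻¹ * q := mul_inv_eq_iff_eq_mul.1 h3
      rw [h4, hr0i, mul_assoc]
    exfalso
    have hS : Sm z q r0 := by
      rcases h2 with h3 | h3 | h3 | h3
      · exfalso; rw [h3, one_mul] at hqq; exact z1 hqq.symm
      · exfalso; rw [h3, zz1] at hqq; exact z1 hqq.symm
      · exact Or.inl h3
      · exact Or.inr h3
    have hgr : g * r0 = r0 * g := odd2 (by rw [← hq]; exact hS)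
    have hg4 : ∀ {a : G}, In4 z r0 a → g * a = a * g := by
      intro a ha
      rcases ha with h2 | h2 | h2 | h2
      · rw [h2]; group
      · rw [h2, hgz]
      · rw [h2, hgr]
      · rw [h2, ← mul_assoc, hgr, mul_assoc, hgz, ← mul_assoc]
    have hpi : p * r0 * p⁻¹ = r0⁻¹ := by
      rcases hin0 p hp with h3 | h3
      · exact absurd (hg4 h3) hgp
      · exact sinv h3
    have hp1i : p1 * r0 * p1⁻¹ = r0⁻¹ := by
      rcases hin0 p1 hp1P with h3 | h3
      · exfalso
        apply hgp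
        have h4 := hg4 h3
        have e : p = p1 := by
          calc p = g⁻¹ * p1 * g := by rw [hp1]; group
            _ = g⁻¹ * (g * p1) := by rw [mul_assoc, ← h4]
            _ = p1 := by group
        rw [e]; exact h4
      · exact sinv h3
    have hq4 : In4 z r0 (p⁻¹ * p1) := by
      have hqP' : p⁻¹ * p1 ∈ P := mul_mem (inv_mem hp) hp1P
      rcases hin0 _ hqP' with h3 | h3
      · exact h3
      · exfalso
        have h4 := sinv h3
        have h5' : p⁻¹ * p1 * r0 * (p⁻¹ * p1)⁻¹ = r0 := by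
          calc p⁻¹ * p1 * r0 * (p⁻¹ * p1)⁻¹ = p⁻¹ * (p1 * r0 * p1⁻¹) * p := by group
            _ = p⁻¹ * (p * r0 * p⁻¹) * p := by rw [hp1i, hpi]
            _ = r0 := by group
        rw [h5'] at h4
        exact sq_ne_inv o.w hz hrr0 h4
    have hgpp : g * p * g⁻¹ = p * (p⁻¹ * p1) := by rw [← hp1]; group
    have fin : ∀ s : G, s * s = z → g * s = s * g → g * p * g⁻¹ = p * s → False := by
      intro s hs hgs hps
      apply hgp
      refine Three.comm_of_pow_two (n := 2) ho ?_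
      have e1 : g * g * p * (g * g)⁻¹ = p * z := by
        calc g * g * p * (g * g)⁻¹ = g * (g * p * g⁻¹) * g⁻¹ := by group
          _ = g * (p * s) * g⁻¹ := by rw [hps]
          _ = (g * p * g⁻¹) * (g * s * g⁻¹) := by group
          _ = p * (s * s) := by rw [hps, hgs, mul_inv_cancel_right, mul_assoc]
          _ = p * z := by rw [hs]
      have e2 : g ^ 2 ^ 2 * p * (g ^ 2 ^ 2)⁻¹ = p := by
        rw [show (2 : ℕ) ^ 2 = 2 * 2 by norm_num, pow_mul, pow_two, pow_two]
        calc g * g * (g * g) * p * (g * g * (g * g))⁻¹ = (g * g) * (g * g * p * (g * g)⁻¹) * (g * g)⁻¹ := by group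
          _ = (g * g) * (p * z) * (g * g)⁻¹ := by rw [e1]
          _ = (g * g * p * (g * g)⁻¹) * (g * (g * z * g⁻¹) * g⁻¹) := by group
          _ = p := by
            have e3 : g * z * g⁻¹ = z := by rw [hgz, mul_inv_cancel_right]
            rw [e1, e3, e3, mul_assoc, zz1, mul_one]
      exact mul_inv_eq_iff_eq_mul.1 e2
    rcases hq4 with h3 | h3 | h3 | h3
    · rw [h3, mul_one] at hgpp
      exact hgp (mul_inv_eq_iff_eq_mul.1 hgpp)
    · rw [h3] at hgpp
      exact hgp (odd2 (Or.inr hgpp))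
    · exact fin _ hrr0 hgr (by rw [hgpp, h3])
    · refine fin (r0 * z) ?_ ?_ (by rw [hgpp, h3])
      · calc r0 * z * (r0 * z) = r0 * (z * r0) * z := by group
          _ = (r0 * r0) * (z * z) := by rw [← hr0z]; group
          _ = z := by rw [hrr0, zz1, mul_one]
      · rw [← mul_assoc, hgr, mul_assoc, hgz, ← mul_assoc]

end OW

end Cfsg.Agent.Cit.Nil.Comp.AO
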