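import Cfsg.Agent.Cit.Nil.Comp.AO.HWorld
import Cfsg.Agent.Cit.Nil.Comp.AO.Uniq
import Cfsg.Agent.Cit.Nil.Comp.AO.Clique

/-!
# S1309 (6b), `r = 1`, COMP, AllOne, (M2): the group `Y = H / C_H(BG)` (helper61)

`φ : H → Y` surjective with kernel `C_H(BG)`:

* `LC.cen_of` : an element centralising `L` centralises the members;
* `LC.qh` : `φ` is injective on the members and on `Z`;
* `LC.fsimp` : the image of `L` is simple with trivial centraliser;
* `LC.ow` : the world of one class of `Y`.
-/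

set_option autoImplicit false
set_option linter.style.haveILetI false
set_option linter.unusedSectionVars false

namespace Cfsg.Agent.Cit.Nil.Comp.AO

open Subgroup Cfsg Cfsg.Agent.Cit Cfsg.Agent.Cit.Nil.ROne Nil.IndDefs

universe u

section

variable {H : Type u} [Group H] [Finite H] {Z : Set H} {K : H → Subgroup H} {L : Subgroup H} {z g x a b : H}

namespace LC

variable (l : LC Z K L)

include l

/-- an element centralising `L` centralises the members -/
theorem cen_of (w : W Z K) (hg : ∀ y ∈ L, g * y = y * g) (hz : z ∈ Z) : Cen K g z := by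
  have hgz : g * z = z * g := hg z (l.mem z hz)
  intro k hk
  have hn := l.nor
  obtain ⟨c, hc⟩ : ∃ c, c = g * k * g⁻¹ * k⁻¹ := ⟨_, rfl⟩
  have hcK : c ∈ K z := by rw [hc]; exact mul_mem (w.norm_mem hz hgz hk) (inv_mem hk)
  have hcL : ∀ y ∈ L, c * y = y * c := by
    intro y hy
    have h1 : k⁻¹ * y * k ∈ L := by
      have := hn.conj_mem y hy k⁻¹
      rwa [inv_inv] at this
    have h2 := hg _ h1
    have h3 : g⁻¹ * y = y * g⁻¹ := by
      have := hg y hy
      calc g⁻¹ * y = g⁻¹ * (y * g) * g⁻¹ := by group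
        _ = g⁻¹ * (g * y) * g⁻¹ := by rw [this]
        _ = y * g⁻¹ := by group
    calc c * y = g * k * g⁻¹ * k⁻¹ * y := by rw [hc]
      _ = g * k * g⁻¹ * (k⁻¹ * y * k) * k⁻¹ := by group
      _ = g * k * ((k⁻¹ * y * k) * g⁻¹) * k⁻¹ := by
        have h4 : g⁻¹ * (k⁻¹ * y * k) = (k⁻¹ * y * k) * g⁻¹ := by
          calc g⁻¹ * (k⁻¹ * y * k) = g⁻¹ * ((k⁻¹ * y * k) * g) * g⁻¹ := by group
            _ = g⁻¹ * (g * (k⁻¹ * y * k)) * g⁻¹ := by rw [h2]
            _ = _ := by group
        rw [mul_assoc (g * k), h4]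
      _ = (g * y) * k * g⁻¹ * k⁻¹ := by group
      _ = y * (g * k * g⁻¹ * k⁻¹) := by rw [hg y hy]; group
      _ = y * c := by rw [hc]
  have h1 : ∀ b ∈ BG Z K, c * b = b * c := l.cenB c (le_BG hz hcK) hcL
  have h2 : c = 1 := by
    rcases mem_of_cen_cases w hz hcK (fun k' hk' => h1 k' (le_BG hz hk')) with h3 | h3
    · exact h3
    · exfalso
      obtain ⟨b, hb, hne⟩ := l.ncen z hz
      apply hne
      rw [← h3]
      exact h1 b hb
  rw [hc, mul_inv_eq_one, mul_inv_eq_iff_eq_mul] at h2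
  exact h2

/-- `C_H(L) = C_H(BG)` -/
theorem cen_BG (w : W Z K) (hg : ∀ y ∈ L, g * y = y * g) (hb : b ∈ BG Z K) : g * b = b * g := by
  have h1 : BG Z K ≤ centralizer {g} := BG_le fun z hz k hk =>
    mem_centralizer_singleton_iff.2 (l.cen_of w hg hz k hk).symm
  exact (mem_centralizer_singleton_iff.1 (h1 hb)).symm

theorem centralizer_eq (w : W Z K) : centralizer (L : Set H) = centralizer (BG Z K : Set H) := by
  refine le_antisymm ?_ (centralizer_le l.le)
  intro g hg
  rw [mem_centralizer_iff]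
  intro b hb
  exact (l.cen_BG w (fun y hy => (mem_centralizer_iff.1 hg y hy).symm) hb).symm

end LC

section quot

variable {Y : Type u} [Group Y] {φ : H →* Y}

theorem mem_ker_iff (hk : φ.ker = centralizer (BG Z K : Set H)) : φ g = 1 ↔ ∀ b ∈ BG Z K, g * b = b * g := by
  rw [← MonoidHom.mem_ker, hk, mem_centralizer_iff]
  exact ⟨fun h b hb => (h b hb).symm, fun h b hb => (h b hb).symm⟩

theorem cen_of_ker (hk : φ.ker = centralizer (BG Z K : Set H)) (h1 : φ g = 1) (hz : z ∈ Z) : Cen K g z :=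
  fun _ hk' => (mem_ker_iff hk).1 h1 _ (le_BG hz hk')

theorem ker_of_cen (hk : φ.ker = centralizer (BG Z K : Set H)) (h1 : ∀ z ∈ Z, Cen K g z) : φ g = 1 := by
  rw [mem_ker_iff hk]
  intro b hb
  have h2 : BG Z K ≤ centralizer {g} := BG_le fun z hz k hk =>
    mem_centralizer_singleton_iff.2 (h1 z hz k hk).symm
  exact (mem_centralizer_singleton_iff.1 (h2 hb)).symm

theorem LC.qh (l : LC Z K L) (w : W Z K) (nc : ∀ z ∈ Z, ∀ u ∈ Z, ¬ CP K z u) (hs : Function.Surjective φ)
    (hk : φ.ker = centralizer (BG Z K : Set H)) : QH φ Z K where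
  w := w
  surj := hs
  inj := by
    intro u hu k hk' h1
    rcases mem_of_cen_cases w hu hk' (cen_of_ker hk h1 hu) with h2 | h2
    · exact h2
    · exfalso
      obtain ⟨b, hb, hne⟩ := l.ncen u hu
      apply hne
      rw [h2] at h1
      exact (mem_ker_iff hk).1 h1 b hb
  uq := by
    intro u hu v hv h1
    by_contra hne
    have h2 : φ (u⁻¹ * v) = 1 := by rw [map_mul, map_inv, h1, inv_mul_cancel]
    have h3 := cen_of_ker hk h2 hu
    apply nc u hu v hv
    refine w.csymm hu hv hne fun k hk' => ?_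
    have h4 := h3 k hk'
    calc v * k = u * ((u⁻¹ * v) * k) := by group
      _ = u * k * (u⁻¹ * v) := by rw [h4]; group
      _ = k * u * (u⁻¹ * v) := by rw [w.cent hu hk']
      _ = k * v := by group

/-- the image of `L` is simple with trivial centraliser -/
theorem LC.fsimp (l : LC Z K L) (w : W Z K) (hs : Function.Surjective φ)
    (hk : φ.ker = centralizer (BG Z K : Set H)) : FSimp (L.map φ) := by
  have hCL : centralizer (L : Set H) = φ.ker := by rw [l.centralizer_eq w, hk]
  have hperf : Group.IsPerfect L := l.qs.1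
  have hcen : centralizer ((L.map φ : Subgroup Y) : Set Y) = ⊥ := by
    rw [eq_bot_iff]
    intro y hy
    obtain ⟨g, rfl⟩ := hs y
    obtain ⟨X, hX⟩ : ∃ X : Subgroup H, X = (centralizer ((L.map φ : Subgroup Y) : Set Y)).comap φ := ⟨_, rfl⟩
    have hgX : g ∈ X := by rw [hX]; exact hy
    have hn := l.nor
    have h1 : ⁅X, L⁆ ≤ φ.ker := by
      rw [commutator_le]
      intro y hy l' hl
      rw [hX, mem_comap, mem_centralizer_iff] at hy
      have h3 := hy (φ l') ⟨l', hl, rfl⟩
      rw [MonoidHom.mem_ker, commutatorElement_def, map_mul, map_mul, map_mul, ← h3, map_inv, map_inv]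
      group
    have h3 : ⁅⁅X, L⁆, L⁆ = ⊥ := by
      rw [commutator_eq_bot_iff_le_centralizer]
      rw [hCL]
      exact h1
    have h4 := SignalizersComponents.Components.commutator_eq_bot_of_commutator_commutator_eq_bot hperf h3
    rw [commutator_eq_bot_iff_le_centralizer, hCL] at h4
    exact MonoidHom.mem_ker.1 (h4 hgX)
  obtain ⟨g, hg⟩ : ∃ g : ↥L →* ↥(L.map φ), g = φ.subgroupMap L := ⟨_, rfl⟩
  have hgs : Function.Surjective g := by rw [hg]; exact φ.subgroupMap_surjective L
  have hgk : g.ker = center ↥L := by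
    ext y
    rw [MonoidHom.mem_ker, mem_center_iff, hg]
    constructor
    · intro h1 v
      have h3 : (y : H) ∈ φ.ker := congrArg Subtype.val h1
      rw [← hCL, mem_centralizer_iff] at h3
      exact Subtype.ext (h3 v v.2)
    · intro h1
      have h3 : (y : H) ∈ centralizer (L : Set H) := by
        rw [mem_centralizer_iff]
        intro v hv
        exact congrArg Subtype.val (h1 ⟨v, hv⟩)
      rw [hCL] at h3
      exact Subtype.ext (MonoidHom.mem_ker.1 h3)
  have hsimp : IsSimpleGroup ↥(L.map φ) := by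
    have hs : IsSimpleGroup (↥L ⧸ center ↥L) := l.qs.2
    have e : ↥(L.map φ) ≃* ↥L ⧸ center ↥L :=
      ((QuotientGroup.quotientMulEquivOfEq hgk).symm.trans (QuotientGroup.quotientKerEquivOfSurjective g hgs)).symm
    exact e.isSimpleGroup
  refine ⟨l.nor.map φ hs, hsimp, ?_, hcen⟩
  intro hcm
  have h1 : L.map φ ≤ centralizer ((L.map φ : Subgroup Y) : Set Y) := by
    intro a ha
    rw [mem_centralizer_iff]
    intro b hb
    exact hcm b hb a ha
  rw [hcen, le_bot_iff] at h1
  have h3 : Nontrivial ↥(L.map φ) := hsimp.toNontrivial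
  rw [h1] at h3
  exact not_nontrivial _ h3

/-- the world of one class of `Y` -/
theorem LC.ow (l : LC Z K L) (w : W Z K) (nc : ∀ z ∈ Z, ∀ u ∈ Z, ¬ CP K z u) (hs : Function.Surjective φ)
    (hk : φ.ker = centralizer (BG Z K : Set H)) [Finite Y] (h71 : oddCore Y = ⊥ → OneF.H1171 Y)
    (h73 : oddCore Y = ⊥ → OneF.H1173 Y) : OW (φ '' Z) (Kq φ Z K) := by
  have q := l.qh w nc hs hk
  have f := l.fsimp w hs hk
  refine ⟨q.wq, q.nc nc, fun z hz t ht hne hc b hb h1 h2 => ?_⟩
  refine f1_of q.wq (q.nc nc) f ?_ h71 h73 hz ht hne hc hb h1 h2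
  rintro _ ⟨u, hu, rfl⟩
  exact ⟨u, l.mem u hu, rfl⟩

end quot

end

end Cfsg.Agent.Cit.Nil.Comp.AO
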