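import Cfsg.Agent.Cit.Nil.Comp.AO.HTop
import Cfsg.Agent.Cit.CloEnd

/-!
# S1309 (6b), `r = 1`, COMP, AllOne, (M2): the results for `H` (= `C(z)`) (helper61)

* `HW.r1` : two commuting N-partners of `a` (if no member has `Three`);
* `HW.r2` : an involution `b` centralising `K a` : `b` or `b a` centralises all members;
* `HW.r3` : the commuting graph on `Z` is connected.
-/

set_option autoImplicit false
set_option linter.style.haveILetI false
set_option linter.unusedSectionVars false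

namespace Cfsg.Agent.Cit.Nil.Comp.AO

open Subgroup Cfsg Cfsg.Agent.Cit Cfsg.Agent.Cit.Nil.ROne Nil.IndDefs

universe u

/-- the external inputs -/
structure AOIn : Prop where
  hev : ∀ (G : Type u) [Group G] [Finite G], Comp.EvQ G
  h71 : ∀ (G : Type u) [Group G] [Finite G], oddCore G = ⊥ → OneF.H1171 G
  h73 : ∀ (G : Type u) [Group G] [Finite G], oddCore G = ⊥ → OneF.H1173 G
  bend : ∀ (G : Type u) [Group G] [Finite G] [IsSimpleGroup G], CloEnd.Bend G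
  c75 : ∀ (G : Type u) [Group G] [Finite G] [IsSimpleGroup G], CloEnd.Crit1175 G

/-- (P2) -/
def ConnStmt : Prop := ∀ (G : Type u) [Group G] [Finite G] (Z : Set G) (K : G → Subgroup G) (D : Subgroup G),
  XW Z K D → CloEnd.Bend ↥D → CloEnd.Crit1175 ↥D → ∀ z ∈ Z, ∀ u ∈ Z,
    Relation.ReflTransGen (fun a b => a ∈ Z ∧ b ∈ Z ∧ a * b = b * a) z u

section

variable {H : Type u} [Group H] [Finite H] {Z : Set H} {K : H → Subgroup H} {a b z t u v : H}

/-- everything for a good quotient -/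
theorem HW.exists_quot (h : HW Z K) (e : AOIn.{u}) : ∃ (L : Subgroup H) (Y : Type u) (_ : Group Y) (_ : Finite Y)
    (φ : H →* Y), LC Z K L ∧ Function.Surjective φ ∧ φ.ker = centralizer (BG Z K : Set H) ∧ QH φ Z K ∧
      OW (φ '' Z) (Kq φ Z K) ∧ FSimp (L.map φ) := by
  obtain ⟨L, l⟩ := h.exists_lc e.hev
  haveI := BG_normal h.w
  haveI hn : (centralizer (BG Z K : Set H)).Normal := inferInstance
  have hs := QuotientGroup.mk'_surjective (centralizer (BG Z K : Set H))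
  have hk := QuotientGroup.ker_mk' (centralizer (BG Z K : Set H))
  exact ⟨L, _, _, inferInstance, QuotientGroup.mk' (centralizer (BG Z K : Set H)), l, hs, hk, l.qh h.w h.nc hs hk,
    l.ow h.w h.nc hs hk (e.h71 _) (e.h73 _), l.fsimp h.w hs hk⟩

/-- **(R2)** -/
theorem HW.r2 (h : HW Z K) (e : AOIn.{u}) (ha : a ∈ Z) (hb : Cen K b a) (hbb : b * b = 1) :
    (∀ v ∈ Z, Cen K b v) ∨ ∀ v ∈ Z, Cen K (b * a) v := by
  obtain ⟨L, Y, _, _, φ, l, hs, hk, q, o, f⟩ := h.exists_quot e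
  have hnp := np_of o.w f (by
    rintro _ ⟨u, hu, rfl⟩
    exact ⟨u, l.mem u hu, rfl⟩) (φ a) ⟨a, ha, rfl⟩
  rcases o.uniq ⟨a, ha, rfl⟩ hnp (q.cen' ha hb) (by rw [← map_mul, hbb, map_one]) with h1 | h1
  · left
    exact fun v hv => cen_of_ker hk h1 hv
  · right
    have h2 : φ (b * a) = 1 := by rw [map_mul, h1, ← map_mul, h.w.sq a ha, map_one]
    exact fun v hv => cen_of_ker hk h2 hv

/-- **(R3)** -/
theorem HW.r3 (h : HW Z K) (c3 : ROne.C3 Z K) (e : AOIn.{u}) (hc : ConnStmt.{u}) : ∀ z ∈ Z, ∀ u ∈ Z,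
    Relation.ReflTransGen (fun a b => a ∈ Z ∧ b ∈ Z ∧ a * b = b * a) z u := by
  obtain ⟨L, Y, _, _, φ, l, hs, hk, q, o, f⟩ := h.exists_quot e
  have x := l.xw h.w h.nc c3 hs hk (e.h71 _) (e.h73 _)
  haveI := x.f.sim
  have h1 := hc _ _ _ _ x (e.bend _) (e.c75 _)
  intro z hz u hu
  have key : ∀ y, Relation.ReflTransGen (fun a b => a ∈ Zr ((BG Z K).map φ) (φ '' Z) ∧
      b ∈ Zr ((BG Z K).map φ) (φ '' Z) ∧ a * b = b * a) (⟨φ z, ⟨z, le_BG hz (h.w.mem z hz), rfl⟩⟩ : ↥((BG Z K).map φ)) y →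
      ∃ v ∈ Z, φ v = y ∧ Relation.ReflTransGen (fun a b => a ∈ Z ∧ b ∈ Z ∧ a * b = b * a) z v := by
    intro y hy
    induction hy with
    | refl => exact ⟨z, hz, rfl, .refl⟩
    | tail _ h3 ih =>
      obtain ⟨v, hv, hvy, h4⟩ := ih
      obtain ⟨-, ⟨v', hv', hvy'⟩, h5⟩ := h3
      refine ⟨v', hv', hvy', h4.tail ⟨hv, hv', q.comm hv' ?_⟩⟩
      rw [hvy, hvy']
      exact congrArg Subtype.val h5
  obtain ⟨v, hv, hvu, h2⟩ := key ⟨φ u, ⟨u, le_BG hu (h.w.mem u hu), rfl⟩⟩ (h1 _ ⟨z, hz, rfl⟩ _ ⟨u, hu, rfl⟩)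
  rw [q.uq v hv u hu hvu] at h2
  exact h2

/-- `T0` for `H` -/
theorem HW.t0' (h : HW Z K) : T0 (K '' Z) where
  hyp := h.w.hyp
  card := by
    rintro _ ⟨z, hz, rfl⟩
    exact h.w.card8 hz
  core := h.core

/-- `Three` in the image of `BG` lifts to `H` -/
theorem HW.three_lift (h : HW Z K) {Y : Type u} [Group Y] [Finite Y] {φ : H →* Y} {L : Subgroup H} (l : LC Z K L)
    (hs : Function.Surjective φ) (hk : φ.ker = centralizer (BG Z K : Set H)) (q : QH φ Z K) (ha : a ∈ Z)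
    (haT : φ a ∈ (BG Z K).map φ) (h3 : Three (Kr ((BG Z K).map φ) (Kq φ Z K) ⟨φ a, haT⟩)) : Three (K a) := by
  haveI := BG_normal h.w
  obtain ⟨f, hf⟩ : ∃ f : ↥(BG Z K) →* ↥((BG Z K).map φ), f = φ.subgroupMap (BG Z K) := ⟨_, rfl⟩
  have hfs : Function.Surjective f := by rw [hf]; exact φ.subgroupMap_surjective _
  have hfv : ∀ x, ((f x : ↥((BG Z K).map φ)) : Y) = φ x := fun x => by rw [hf]; rfl
  have hfk : f.ker = center ↥(BG Z K) := by
    ext x
    have e1 : x ∈ f.ker ↔ φ x = 1 := by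
      rw [MonoidHom.mem_ker, ← hfv]
      exact ⟨fun h1 => congrArg Subtype.val h1, fun h1 => Subtype.ext h1⟩
    rw [e1, mem_ker_iff hk, mem_center_iff]
    constructor
    · intro h1 b
      exact Subtype.ext (h1 b b.2).symm
    · intro h1 b hb
      exact (congrArg Subtype.val (h1 ⟨b, hb⟩)).symm
  have hmap : ((K a).subgroupOf (BG Z K)).map f = Kr ((BG Z K).map φ) (Kq φ Z K) ⟨φ a, haT⟩ := by
    ext y
    rw [mem_Kr]
    change _ ↔ (y : Y) ∈ Kq φ Z K (φ a)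
    rw [q.Kq_eq ha]
    constructor
    · rintro ⟨x, hx, rfl⟩
      exact ⟨x, mem_subgroupOf.1 hx, (hfv x).symm⟩
    · rintro ⟨k, hk', h1⟩
      exact ⟨⟨k, le_BG ha hk'⟩, mem_subgroupOf.2 hk', Subtype.ext ((hfv _).trans h1)⟩
  have h1 : Three ((K a).subgroupOf (BG Z K)) := by
    refine Ind.three_lift (f := f) (Om := restr (K '' Z) (BG Z K)) ⟨h.t0.hyp, h.t0.card⟩ hfs hfk.le ?_ ?_
      (restr_mem ha) ?_
    · rw [hfk, ← l.p2]
      exact Lib.Cores.pCore_isPGroup 2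
    · intro A hA
      obtain ⟨z, hz, rfl⟩ := mem_restr_BG hA
      rw [eq_bot_iff]
      rintro x ⟨hx1, hx2⟩
      have h2 : φ x = 1 := by rw [← hfv, MonoidHom.mem_ker.1 hx2]; rfl
      exact Subtype.ext (q.inj z hz _ (mem_subgroupOf.1 hx1) h2)
    · rw [hmap]
      exact h3
  have h2 := Ind.SubB.three_map h.t0' (BG_normal h.w).isSubnormal (restr_mem ha) h1
  rwa [map_subgroupOf_eq_of_le (le_BG ha)] at h2

/-- **(R1)** -/
theorem HW.r1 (h : HW Z K) (c3 : ROne.C3 Z K) (e : AOIn.{u}) (ha : a ∈ Z) (h3 : ¬ Three (K a)) :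
    ∃ t ∈ Z, ∃ t' ∈ Z, t ≠ a ∧ t' ≠ a ∧ t * a = a * t ∧ t' * a = a * t' ∧ t * t' = t' * t ∧ t' ≠ t ∧ t' ≠ a * t := by
  obtain ⟨L, Y, _, _, φ, l, hs, hk, q, o, f⟩ := h.exists_quot e
  have x := l.xw h.w h.nc c3 hs hk (e.h71 _) (e.h73 _)
  have haT : φ a ∈ (BG Z K).map φ := ⟨a, le_BG ha (h.w.mem a ha), rfl⟩
  have hz : (⟨φ a, haT⟩ : ↥((BG Z K).map φ)) ∈ Zr ((BG Z K).map φ) (φ '' Z) := ⟨a, ha, rfl⟩
  by_contra hcon
  push Not at hcon
  apply h3
  refine h.three_lift l hs hk q ha haT ?_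
  refine x.three_of_clique hz (fun P hP hPc => x.toOW.card_le hz (x.np _ hz) hP hPc)
    (fun P g hP hPc hgz ho hgP hne => x.toOW.rot_two hz (x.np _ hz) hP hPc hgz ho hgP hne) ?_
  rintro ⟨t, htT⟩ ⟨t0, ht0, rfl⟩ ⟨t', htT'⟩ ⟨t0', ht0', rfl⟩ hne hne' hc hc' hcc
  have k1 : t0 * a = a * t0 := q.comm ha (congrArg Subtype.val hc)
  have k2 : t0' * a = a * t0' := q.comm ha (congrArg Subtype.val hc')
  have k3 : t0 * t0' = t0' * t0 := q.comm ht0' (congrArg Subtype.val hcc)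
  have n1 : t0 ≠ a := fun h1 => hne (Subtype.ext (by change φ t0 = φ a; rw [h1]))
  have n2 : t0' ≠ a := fun h1 => hne' (Subtype.ext (by change φ t0' = φ a; rw [h1]))
  by_cases h4 : t0' = t0
  · left
    exact Subtype.ext (by change φ t0' = φ t0; rw [h4])
  · right
    have h5 := hcon t0 ht0 t0' ht0' n1 n2 k1 k2 k3 h4
    exact Subtype.ext (by change φ t0' = φ a * φ t0; rw [h5, map_mul])

end

end Cfsg.Agent.Cit.Nil.Comp.AO
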