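import Cfsg.Agent.Cit.Nil.Comp.AO.Clique

/-!
# S1309 (6b), `r = 1`, COMP, AllOne, (M2): rotations in a normal subgroup (helper61)

`exists_rot_in` : `T` normal, `s ∈ T` fixes exactly one axis of `K z`, some `g ∈ C(z)` moves it: an element of odd
order of `T ∩ C(z)` acts non-trivially on `K z`.
-/

set_option autoImplicit false
set_option linter.style.haveILetI false
set_option linter.unusedSectionVars false

namespace Cfsg.Agent.Cit.Nil.Comp.AO

open Subgroup Cfsg Cfsg.Agent.Cit Cfsg.Agent.Cit.Nil.ROne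

/-- `F p q` fixes exactly the axis `y` -/
def Tq (p q y : QEight.Q) : Prop :=
  (QEight.F p q y = y ∨ QEight.F p q y = y⁻¹) ∧
    ∀ x : QEight.Q, x * x = QuaternionGroup.a 2 → x ≠ y → x ≠ y⁻¹ → QEight.F p q x ≠ x ∧ QEight.F p q x ≠ x⁻¹

instance (p q y : QEight.Q) : Decidable (Tq p q y) := by unfold Tq; infer_instance

/-- the product moves all axes -/
def Aq (p q r s : QEight.Q) : Prop :=
  ∀ x : QEight.Q, x * x = QuaternionGroup.a 2 →
    QEight.F p q (QEight.F r s x) ≠ x ∧ QEight.F p q (QEight.F r s x) ≠ x⁻¹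

instance (p q r s : QEight.Q) : Decidable (Aq p q r s) := by unfold Aq; infer_instance

set_option maxRecDepth 100000 in
theorem tq_aux : ∀ p q : QEight.Q, QEight.Ok p q → ∀ y : QEight.Q, y * y = QuaternionGroup.a 2 → Tq p q y →
    ∀ r s : QEight.Q, QEight.Ok r s → ∀ y' : QEight.Q, y' * y' = QuaternionGroup.a 2 → Tq r s y' → y' ≠ y →
    y' ≠ y⁻¹ → Aq p q r s := by
  decide +kernel

set_option maxRecDepth 100000 in
theorem ax_three : ∀ p q : QEight.Q, QEight.Ok p q → Ax p q → ∀ x, QEight.F p q (QEight.F p q (QEight.F p q x)) = x := by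
  decide +kernel

section

variable {G : Type*} [Group G] {Z : Set G} {K : G → Subgroup G} {z s g y : G}

theorem tq_of (w : W Z K) (hz : z ∈ Z) (hsz : s * z = z * s) (hy : y ∈ K z)
    (hfix : s * y * s⁻¹ = y ∨ s * y * s⁻¹ = y⁻¹)
    (hmov : ∀ b ∈ K z, b * b = z → b ≠ y → b ≠ y⁻¹ → s * b * s⁻¹ ≠ b ∧ s * b * s⁻¹ ≠ b⁻¹) :
    Tq (w.rho hz s hsz (QuaternionGroup.a 1)) (w.rho hz s hsz (QuaternionGroup.xa 0)) (w.e hz ⟨y, hy⟩) := by
  refine ⟨?_, ?_⟩
  · rw [← QEight.funF, w.rho_e hz hsz hy]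
    rcases hfix with h1 | h1
    · left
      exact congrArg (w.e hz) (Subtype.ext h1)
    · right
      rw [← w.e_inv hz hy]
      exact congrArg (w.e hz) (Subtype.ext h1)
  · intro x hxx h1 h2
    obtain ⟨b, hb, rfl⟩ := w.exists_e hz x
    have hbb : b * b = z := by
      rw [← w.e_mul hz hb hb, ← w.e_z hz] at hxx
      exact w.e_inj hz _ _ hxx
    obtain ⟨h3, h4⟩ := hmov b hb hbb (fun h => h1 (congrArg (w.e hz) (Subtype.ext h))) (fun h => h2 (by
      rw [← w.e_inv hz hy]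
      exact congrArg (w.e hz) (Subtype.ext h)))
    rw [← QEight.funF, w.rho_e hz hsz hb]
    refine ⟨fun h => h3 (w.e_inj hz _ _ h), fun h => h4 ?_⟩
    rw [← w.e_inv hz hb] at h
    exact w.e_inj hz _ _ h

/-- **rotations in a normal subgroup** -/
theorem exists_rot_in [Finite G] (w : W Z K) (hz : z ∈ Z) {T : Subgroup G} (hT : T.Normal) (hs : s ∈ T)
    (hsz : s * z = z * s) (hy : y ∈ K z) (hyy : y * y = z) (hfix : s * y * s⁻¹ = y ∨ s * y * s⁻¹ = y⁻¹)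
    (hmov : ∀ b ∈ K z, b * b = z → b ≠ y → b ≠ y⁻¹ → s * b * s⁻¹ ≠ b ∧ s * b * s⁻¹ ≠ b⁻¹)
    (hg : g * z = z * g) (hg1 : g * y * g⁻¹ ≠ y) (hg2 : g * y * g⁻¹ ≠ y⁻¹) :
    ∃ d ∈ T, d * z = z * d ∧ Odd (orderOf d) ∧ ¬ Cen K d z := by
  obtain ⟨s', hs'⟩ : ∃ s', s' = g * s * g⁻¹ := ⟨_, rfl⟩
  obtain ⟨y', hy'⟩ : ∃ y', y' = g * y * g⁻¹ := ⟨_, rfl⟩
  have hyK' : y' ∈ K z := by rw [hy']; exact w.norm_mem hz hg hy
  have hyy' : y' * y' = z := by
    rw [hy', show g * y * g⁻¹ * (g * y * g⁻¹) = g * (y * y) * g⁻¹ by group, hyy, hg, mul_inv_cancel_right]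
  have hgi : g⁻¹ * z = z * g⁻¹ := by
    calc g⁻¹ * z = g⁻¹ * (z * g) * g⁻¹ := by group
      _ = g⁻¹ * (g * z) * g⁻¹ := by rw [hg]
      _ = z * g⁻¹ := by group
  have hsz' : s' * z = z * s' := by
    calc s' * z = g * s * (g⁻¹ * z) := by rw [hs']; group
      _ = g * (s * z) * g⁻¹ := by rw [hgi]; group
      _ = (g * z) * s * g⁻¹ := by rw [hsz]; group
      _ = z * s' := by rw [hg, hs']; group
  have hfix' : s' * y' * s'⁻¹ = y' ∨ s' * y' * s'⁻¹ = y'⁻¹ := by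
    have e : s' * y' * s'⁻¹ = g * (s * y * s⁻¹) * g⁻¹ := by rw [hs', hy']; group
    rw [e]
    rcases hfix with h1 | h1
    · left; rw [h1, hy']
    · right; rw [h1, hy']; group
  have hmov' : ∀ b ∈ K z, b * b = z → b ≠ y' → b ≠ y'⁻¹ → s' * b * s'⁻¹ ≠ b ∧ s' * b * s'⁻¹ ≠ b⁻¹ := by
    intro b hb hbb h1 h2
    obtain ⟨c, hc⟩ : ∃ c, c = g⁻¹ * b * g := ⟨_, rfl⟩
    have hbc : b = g * c * g⁻¹ := by rw [hc]; group
    have hcK : c ∈ K z := by rw [hc]; exact w.norm_mem' hz hg hb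
    have hcc : c * c = z := by
      rw [hc, show g⁻¹ * b * g * (g⁻¹ * b * g) = g⁻¹ * (b * b) * g by group, hbb, hgi, inv_mul_cancel_right]
    obtain ⟨h3, h4⟩ := hmov c hcK hcc (fun h => h1 (by rw [hbc, h, hy'])) (fun h => h2 (by rw [hbc, h, hy']; group))
    have e : s' * b * s'⁻¹ = g * (s * c * s⁻¹) * g⁻¹ := by rw [hs', hbc]; group
    rw [e, hbc]
    refine ⟨fun h => h3 (mul_left_cancel (mul_right_cancel h)), fun h => h4 ?_⟩
    have h5 : g * (s * c * s⁻¹) * g⁻¹ = g * c⁻¹ * g⁻¹ := by rw [h]; group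
    exact mul_left_cancel (mul_right_cancel h5)
  obtain ⟨d, hd⟩ : ∃ d, d = s * s' := ⟨_, rfl⟩
  have hdT : d ∈ T := by rw [hd, hs']; exact mul_mem hs (hT.conj_mem s hs g)
  have hdz : d * z = z * d := by rw [hd, mul_assoc, hsz', ← mul_assoc, hsz, mul_assoc]
  have hrho : w.rho hz d hdz = w.rho hz s hsz * w.rho hz s' hsz' := by
    subst hd
    exact w.rho_mul hz hsz hsz' hdz
  have hsq : ∀ {y : G} (hy : y ∈ K z), y * y = z → w.e hz ⟨y, hy⟩ * w.e hz ⟨y, hy⟩ = QuaternionGroup.a 2 := by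
    intro y hy h4
    rw [← w.e_mul hz hy hy, ← w.e_z hz]
    exact congrArg (w.e hz) (Subtype.ext h4)
  have haq := tq_aux _ _ (QEight.aut_ok (w.rho hz s hsz)) _ (hsq hy hyy) (tq_of w hz hsz hy hfix hmov) _ _
    (QEight.aut_ok (w.rho hz s' hsz')) _ (hsq hyK' hyy') (tq_of w hz hsz' hyK' hfix' hmov')
    (fun h => hg1 (by rw [← hy']; exact w.e_inj hz _ _ h)) (fun h => hg2 (by
      rw [← hy']
      rw [← w.e_inv hz hy] at h
      exact w.e_inj hz _ _ h))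
  have hax : ∀ x : QEight.Q, x * x = QuaternionGroup.a 2 → w.rho hz d hdz x ≠ x ∧ w.rho hz d hdz x ≠ x⁻¹ := by
    intro x hx
    rw [hrho, MulAut.mul_apply]
    have h1 := haq x hx
    rwa [← QEight.funF, ← QEight.funF] at h1
  have hax' : Ax (w.rho hz d hdz (QuaternionGroup.a 1)) (w.rho hz d hdz (QuaternionGroup.xa 0)) := by
    intro x hx
    rw [← QEight.funF]
    exact hax x hx
  have h3 : w.rho hz d hdz ^ 3 = 1 := by
    have h1 := ax_three _ _ (QEight.aut_ok _) hax'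
    rw [← QEight.funF] at h1
    refine MulEquiv.ext fun x => ?_
    rw [pow_succ, pow_succ, pow_one]
    exact h1 x
  obtain ⟨k, hk⟩ := exists_odd_pow d
  obtain ⟨h4, h5⟩ := w.rho_pow hz hdz (2 ^ k)
  refine ⟨d ^ 2 ^ k, pow_mem hdT _, h4, hk, fun hcen => ?_⟩
  rw [(w.rho_eq_one hz h4).2 hcen] at h5
  have h6 : orderOf (w.rho hz d hdz) ∣ 3 := orderOf_dvd_of_pow_eq_one h3
  have h7 : orderOf (w.rho hz d hdz) ∣ 2 ^ k := orderOf_dvd_of_pow_eq_one h5.symm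
  have h8 : orderOf (w.rho hz d hdz) = 1 := by
    refine Nat.eq_one_of_dvd_coprimes (a := 3) (b := 2 ^ k) ?_ h6 h7
    exact Nat.Coprime.pow_right k (by norm_num)
  rw [orderOf_eq_one_iff] at h8
  have h9 := (hax _ (hsq hy hyy)).1
  rw [h8] at h9
  exact h9 rfl

end

end Cfsg.Agent.Cit.Nil.Comp.AO
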