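import Cfsg.Agent.Cit.Nil.Comp.AO.HQuo
import Cfsg.Agent.Cit.Nil.Comp.AO.HRot
import Cfsg.Agent.Cit.Parab

/-!
# S1309 (6b), `r = 1`, COMP, AllOne, (M2): the world `XW` in the image of `BG` (helper61)

`φ : H → Y` surjective with kernel `C_H(BG)`, `T` the image of `BG`: `LC.xw`.
-/

set_option autoImplicit false
set_option linter.style.haveILetI false
set_option linter.unusedSectionVars false

namespace Cfsg.Agent.Cit.Nil.Comp.AO

open Subgroup Cfsg Cfsg.Agent.Cit Cfsg.Agent.Cit.Nil.ROne Nil.IndDefs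

universe u

/-- no C-pairs: one class -/
theorem oneCls_of_nc {G : Type*} [Group G] [Finite G] {Z : Set G} {K : G → Subgroup G} (w : W Z K)
    (nc : ∀ z ∈ Z, ∀ u ∈ Z, ¬ CP K z u) : OneCls Z := by
  haveI : Fact (Nat.Prime 2) := ⟨Nat.prime_two⟩
  intro z hz u hu
  obtain ⟨S, hS⟩ := (w.two hz).exists_le_sylow
  obtain ⟨S', hS'⟩ := (w.two hu).exists_le_sylow
  obtain ⟨g, hg⟩ := MulAction.exists_smul_eq G S S'
  have hS1 : (S' : Subgroup G) = cj g (S : Subgroup G) := by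
    rw [← hg]
    rfl
  refine ⟨g, ?_⟩
  by_contra hne
  refine nc _ (w.conjZ z hz g) u hu (w.com (w.conjZ z hz g) hu S'.isPGroup' ?_ hS' hne)
  rw [w.conjK z hz, hS1]
  exact cj_mono g hS

/-- the restriction of `OW` -/
theorem OW.restr {G : Type*} [Group G] {Z : Set G} {K : G → Subgroup G} (o : OW Z K) {T : Subgroup G}
    (hle : ∀ u ∈ Z, K u ≤ T) : OW (Zr T Z) (Kr T K) where
  w := wr o.w (fun _ h => h) hle fun u hu g _ => o.w.conjZ u hu g
  nc u hu v hv h := o.nc u hu v hv ((cp_r hle hu hv).1 h)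
  f1 u hu v hv hne hc b hb h1 h2 := by
    refine Subtype.ext (o.f1 u hu v hv (fun h => hne (Subtype.ext h)) (congrArg Subtype.val hc) b ?_
      ((cen_r hle hu).1 h1) ((cen_r hle hv).1 h2))
    have h3 := hb.map T.subtype
    rwa [MonoidHom.map_zpowers] at h3

section quot

variable {H : Type u} [Group H] {Y : Type u} [Group Y] {φ : H →* Y} {Z : Set H} {K : H → Subgroup H}

theorem QH.c3 (q : QH φ Z K) (h : ROne.C3 Z K) : ROne.C3 (φ '' Z) (Kq φ Z K) := by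
  rintro _ ⟨u, hu, rfl⟩ y hy hyy
  rw [q.Kq_eq hu] at hy
  obtain ⟨k, hk, rfl⟩ := hy
  have hkk : k * k = u := by
    have h1 : φ (k * k * u⁻¹) = 1 := by rw [map_mul, map_mul, hyy, map_inv, mul_inv_cancel]
    have h2 := q.inj u hu _ (mul_mem (mul_mem hk hk) (inv_mem (q.w.mem u hu))) h1
    exact mul_inv_eq_one.1 h2
  obtain ⟨g, hg, h1, h2⟩ := h u hu k hk hkk
  have hinj : ∀ {a b : H}, a ∈ K u → b ∈ K u → φ a = φ b → a = b := by
    intro a b ha hb hab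
    have h3 := q.inj u hu (a * b⁻¹) (mul_mem ha (inv_mem hb)) (by rw [map_mul, map_inv, hab, mul_inv_cancel])
    exact mul_inv_eq_one.1 h3
  refine ⟨φ g, by rw [← map_mul, hg, map_mul], fun h3 => h1 ?_, fun h3 => h2 ?_⟩
  · refine hinj (q.w.norm_mem hu hg hk) hk ?_
    rw [map_mul, map_mul, map_inv, h3]
  · refine hinj (q.w.norm_mem hu hg hk) (inv_mem hk) ?_
    rw [map_mul, map_mul, map_inv, h3, map_inv]

variable [Finite H] [Finite Y] {L : Subgroup H}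

theorem Kq_le (q : QH φ Z K) : ∀ y ∈ φ '' Z, Kq φ Z K y ≤ (BG Z K).map φ := by
  rintro _ ⟨u, hu, rfl⟩
  rw [q.Kq_eq hu]
  exact Subgroup.map_mono (le_BG hu)

theorem FSimp.restr {D T : Subgroup Y} (f : FSimp D) (hD : D ≤ T) : FSimp (D.subgroupOf T) where
  nor := f.nor.subgroupOf T
  sim := by
    haveI := f.sim
    exact (subgroupOfEquivOfLe hD).isSimpleGroup
  na hcm := f.na fun x hx y hy =>
    congrArg Subtype.val (hcm ⟨x, hD hx⟩ (mem_subgroupOf.2 hx) ⟨y, hD hy⟩ (mem_subgroupOf.2 hy))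
  cen := by
    rw [eq_bot_iff]
    intro x hx
    have h1 : (x : Y) ∈ centralizer (D : Set Y) := by
      rw [mem_centralizer_iff] at hx ⊢
      intro y hy
      exact congrArg Subtype.val (hx ⟨y, hD hy⟩ (mem_subgroupOf.2 hy))
    rw [f.cen, mem_bot] at h1
    exact Subtype.ext h1

/-- an N-partner -/
theorem np_of {G : Type*} [Group G] [Finite G] {Z : Set G} {K : G → Subgroup G} {D : Subgroup G} (w : W Z K)
    (f : FSimp D) (hD : ∀ z ∈ Z, z ∈ D) : ∀ z ∈ Z, ∃ t ∈ Z, t ≠ z ∧ z * t = t * z := by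
  intro z hz
  by_contra hcon
  push Not at hcon
  obtain ⟨N, hN, hodd, hc⟩ := Parab.zstar (w.ord hz) (fun g hg => by
    by_contra hne
    exact hcon _ (w.conjZ z hz g) hne hg.symm)
  by_cases hN1 : N = ⊥
  · have h1 : z ∈ centralizer (D : Set G) := by
      rw [mem_centralizer_iff]
      intro y _
      have h2 := hc y
      rw [hN1, mem_bot, mul_inv_eq_one, mul_inv_eq_iff_eq_mul] at h2
      exact h2.symm
    rw [f.cen, mem_bot] at h1
    exact w.ne z hz h1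
  · have h1 := f.le (N := N) (fun g _ n hn => hN.conj_mem n hn g) hN1
    have h2 : (2 : ℕ) ∣ Nat.card N := by
      rw [← w.ord hz, ← Subgroup.orderOf_mk z (h1 (hD z hz))]
      exact orderOf_dvd_natCard _
    exact (Nat.not_even_iff_odd.2 hodd) (even_iff_two_dvd.2 h2)

/-- **the world `XW` in the image `T` of `BG`** -/
theorem LC.xw (l : LC Z K L) (w : W Z K) (nc : ∀ z ∈ Z, ∀ u ∈ Z, ¬ CP K z u) (c3 : ROne.C3 Z K)
    (hs : Function.Surjective φ) (hk : φ.ker = centralizer (BG Z K : Set H))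
    (h71 : oddCore Y = ⊥ → OneF.H1171 Y) (h73 : oddCore Y = ⊥ → OneF.H1173 Y) :
    XW (Zr ((BG Z K).map φ) (φ '' Z)) (Kr ((BG Z K).map φ) (Kq φ Z K)) ((L.map φ).subgroupOf ((BG Z K).map φ)) := by
  have q := l.qh w nc hs hk
  have f := l.fsimp w hs hk
  have o := l.ow w nc hs hk h71 h73
  have hle := Kq_le q
  have oT := o.restr hle
  have fT := FSimp.restr f (T := (BG Z K).map φ) (Subgroup.map_mono l.le)
  have hmem : ∀ z ∈ Zr ((BG Z K).map φ) (φ '' Z), z ∈ (L.map φ).subgroupOf ((BG Z K).map φ) := by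
    rintro ⟨z, hzT⟩ ⟨u, hu, hzu⟩
    rw [mem_subgroupOf]
    exact ⟨u, l.mem u hu, hzu⟩
  have np := np_of oT.w fT hmem
  have hTn : ((BG Z K).map φ).Normal := (BG_normal w).map φ hs
  refine ⟨oT, oneCls_of_nc oT.w oT.nc, fT, hmem, ?_, np, ?_⟩
  · -- `top`
    intro H' h1
    rw [eq_top_iff]
    rintro ⟨x, b, hb, rfl⟩ -
    have h2 : BG Z K ≤ (H'.map ((BG Z K).map φ).subtype).comap φ := BG_le fun z hz k hk' => by
      have h3 : φ k ∈ (BG Z K).map φ := ⟨k, le_BG hz hk', rfl⟩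
      refine mem_comap.2 ⟨⟨φ k, h3⟩, ?_, rfl⟩
      refine h1 ⟨φ z, z, le_BG hz (w.mem z hz), rfl⟩ ⟨z, hz, rfl⟩ ?_
      rw [mem_Kr]
      change φ k ∈ Kq φ Z K (φ z)
      rw [q.Kq_eq hz]
      exact ⟨k, hk', rfl⟩
    obtain ⟨y, hy, h3⟩ := h2 hb
    have h4 : y = ⟨φ b, ⟨b, hb, rfl⟩⟩ := Subtype.ext h3
    rwa [← h4]
  · -- `rot`
    intro z hz
    obtain ⟨t, ht, hne, hc⟩ := np z hz
    have hc' : (z : Y) * t = t * z := congrArg Subtype.val hc
    have hne' : (z : Y) ≠ t := fun h => hne (Subtype.ext h.symm)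
    have c3q := q.c3 c3
    have main : ∀ (s y : Y), s ∈ (BG Z K).map φ → s * z = z * s → y ∈ Kq φ Z K z → y * y = z →
        (s * y * s⁻¹ = y ∨ s * y * s⁻¹ = y⁻¹) → (∀ b ∈ Kq φ Z K z, b * b = z → b ≠ y → b ≠ y⁻¹ →
          s * b * s⁻¹ ≠ b ∧ s * b * s⁻¹ ≠ b⁻¹) →
        ∃ c : ↥((BG Z K).map φ), c * z = z * c ∧ Odd (orderOf c) ∧ ¬ Cen (Kr ((BG Z K).map φ) (Kq φ Z K)) c z := by
      intro s y hs' hsz hy hyy h1 h2
      obtain ⟨g, hg, hg1, hg2⟩ := c3q z hz y hy hyy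
      obtain ⟨d, hd, hdz, hdo, hdn⟩ := exists_rot_in o.w hz hTn hs' hsz hy hyy h1 h2 hg hg1 hg2
      refine ⟨⟨d, hd⟩, Subtype.ext hdz, ?_, fun h => hdn ((cen_r hle hz).1 h)⟩
      rwa [Subgroup.orderOf_mk]
    rcases o.w.tri hz ht hne' hc' with h1 | h1 | h1
    · exact absurd h1 (o.nc _ hz _ ht)
    · obtain ⟨y, y', i, i'⟩ := h1
      have hyz : y' * z = z * y' := (o.w.comm_of_inn i').symm
      obtain ⟨h2, h3⟩ := o.w.ti_act hz i i'.sq hyz
      exact main y' y (hle _ ht i'.mem) hyz i.mem i.sq (Or.inl h2) h3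
    · obtain ⟨b, b', i, -⟩ := h1
      exact main t b t.2 hc'.symm i.mem i.sq (Or.inr i.inv) i.ne

end quot

end Cfsg.Agent.Cit.Nil.Comp.AO
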