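import Cfsg.Agent.Cit.Nil.Comp.AO.Quot
import Cfsg.Agent.Cit.Nil.Ind.SubB
import Cfsg.Agent.Cit.Nil.Ind.Quo
import Cfsg.Agent.SignalizersComponents.ComponentNormalize

/-!
# S1309 (6b), `r = 1`, COMP, AllOne, (M2): a class of members in `H` (= `C(z)`) (helper61)

`HW Z K` : no C-pairs, the non-commuting graph is connected, no element of `Z` in `O₂(H)`, `O(H) = 1`.
`BG Z K` : the group generated by the members; `HW.exists_lc` : its component `L`: `LC Z K L`.
-/

set_option autoImplicit false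
set_option linter.style.haveILetI false
set_option linter.unusedSectionVars false

namespace Cfsg.Agent.Cit.Nil.Comp.AO

open Subgroup Cfsg Cfsg.Agent.Cit Cfsg.Agent.Cit.Nil.ROne Nil.IndDefs

universe u

section

variable {H : Type u} [Group H] {Z : Set H} {K : H → Subgroup H}

/-- the group generated by the members -/
def BG (Z : Set H) (K : H → Subgroup H) : Subgroup H := closure {k | ∃ z ∈ Z, k ∈ K z}

/-- see the head of the file -/
structure HW (Z : Set H) (K : H → Subgroup H) : Prop where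
  w : W Z K
  core : pPrimeCore 2 H = ⊥
  nc : ∀ z ∈ Z, ∀ u ∈ Z, ¬ CP K z u
  conn : ∀ z ∈ Z, ∀ u ∈ Z, Relation.ReflTransGen (fun a b => a ∈ Z ∧ b ∈ Z ∧ ¬ IndDefs.Cm (K a) (K b)) z u
  nn : ∀ z ∈ Z, z ∉ pCore 2 H
  ne : Z.Nonempty

/-- the component of `BG` -/
structure LC (Z : Set H) (K : H → Subgroup H) (L : Subgroup H) : Prop where
  nor : L.Normal
  le : L ≤ BG Z K
  mem : ∀ z ∈ Z, z ∈ L
  qs : IsQuasisimple L
  cenB : ∀ x ∈ BG Z K, (∀ l ∈ L, x * l = l * x) → ∀ b ∈ BG Z K, x * b = b * x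
  ncen : ∀ z ∈ Z, ∃ b ∈ BG Z K, z * b ≠ b * z
  p2 : pCore 2 ↥(BG Z K) = center ↥(BG Z K)

theorem le_BG {z : H} (hz : z ∈ Z) : K z ≤ BG Z K := fun _ hk => subset_closure ⟨z, hz, hk⟩

theorem BG_le {N : Subgroup H} (h : ∀ z ∈ Z, K z ≤ N) : BG Z K ≤ N := (closure_le _).2 fun _ ⟨z, hz, hk⟩ => h z hz hk

theorem BG_normal (w : W Z K) : (BG Z K).Normal := by
  refine ⟨fun x hx g => ?_⟩
  have h1 : BG Z K ≤ (BG Z K).comap (MulAut.conj g).toMonoidHom := BG_le fun z hz k hk => by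
    change g * k * g⁻¹ ∈ BG Z K
    exact le_BG (w.conjZ z hz g) (w.conj_mem_K hz g hk)
  exact h1 hx

variable [Finite H]

/-- the family in `BG` -/
theorem mem_restr_BG {A : Subgroup ↥(BG Z K)} (hA : A ∈ restr (K '' Z) (BG Z K)) : ∃ z ∈ Z, A = (K z).subgroupOf (BG Z K) := by
  obtain ⟨z, hz, h1⟩ := mem_restr.1 hA
  refine ⟨z, hz, ?_⟩
  rw [h1, subgroupOf, comap_map_eq_self_of_injective (BG Z K).subtype_injective]

theorem restr_mem {z : H} (hz : z ∈ Z) : (K z).subgroupOf (BG Z K) ∈ restr (K '' Z) (BG Z K) :=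
  subgroupOf_mem_restr ⟨z, hz, rfl⟩ (le_BG hz)

variable (h : HW Z K)

include h

theorem HW.t0 : T0 (restr (K '' Z) (BG Z K)) where
  hyp := h.w.hyp.restr _
  card := by
    intro A hA
    obtain ⟨z, hz, rfl⟩ := mem_restr_BG hA
    rw [Nat.card_congr (subgroupOfEquivOfLe (le_BG hz)).toEquiv]
    exact h.w.card8 hz
  core := by
    have h3 := Lib.PComponents.map_pPrimeCore_le_of_isSubnormal (p := 2) (BG_normal h.w).isSubnormal
    rw [h.core, le_bot_iff, Subgroup.map_eq_bot_iff_of_injective _ (Subgroup.subtype_injective _)] at h3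
    exact h3

theorem HW.top : sSup (restr (K '' Z) (BG Z K)) = ⊤ := by
  have h1 : BG Z K ≤ (sSup (restr (K '' Z) (BG Z K))).map (BG Z K).subtype := BG_le fun z hz k hk =>
    ⟨⟨k, le_BG hz hk⟩, le_sSup (restr_mem hz) hk, rfl⟩
  rw [eq_top_iff]
  intro x _
  obtain ⟨y, hy, hyx⟩ := h1 x.2
  have : y = x := Subtype.ext hyx
  rwa [← this]

theorem HW.conn' : ∀ A ∈ restr (K '' Z) (BG Z K), ∀ C ∈ restr (K '' Z) (BG Z K), C ∈ comp (restr (K '' Z) (BG Z K)) A := by
  intro A hA C hC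
  obtain ⟨z, hz, rfl⟩ := mem_restr_BG hA
  obtain ⟨u, hu, rfl⟩ := mem_restr_BG hC
  have h1 := h.conn z hz u hu
  clear hA hC hu
  induction h1 with
  | refl => exact mem_comp_self
  | tail h2 h3 ih =>
    refine Relation.ReflTransGen.tail ih ⟨restr_mem h3.1, restr_mem h3.2.1, fun h4 => h3.2.2 ?_⟩
    have h5 := Ind.SubB.cm_map_iff.2 h4
    rwa [map_subgroupOf_eq_of_le (le_BG h3.1), map_subgroupOf_eq_of_le (le_BG h3.2.1)] at h5

theorem HW.zz_r {z : H} (hz : z ∈ Z) : ((zz ((K z).subgroupOf (BG Z K)) : ↥(BG Z K)) : H) = z := by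
  rw [zz_map h.w.hyp (restr_mem hz), map_subgroupOf_eq_of_le (le_BG hz), h.w.zz_K hz]

theorem HW.exists_lc (hev : ∀ (G : Type u) [Group G] [Finite G], Comp.EvQ G) : ∃ L, LC Z K L := by
  haveI : Fact (Nat.Prime 2) := ⟨Nat.prime_two⟩
  haveI hBn : (BG Z K).Normal := BG_normal h.w
  obtain ⟨z0, hz0⟩ := h.ne
  have hN : ¬ NIL ((K z0).subgroupOf (BG Z K)) := by
    intro h1
    apply h.nn z0 hz0
    have h2 : (pCore 2 ↥(BG Z K)).map (BG Z K).subtype ≤ pCore 2 H := by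
      refine Lib.Cores.le_pCore ?_ ?_
      · haveI := Lib.Cores.pCore_characteristic (G := ↥(BG Z K)) 2
        infer_instance
      · exact (Lib.Cores.pCore_isPGroup 2).map _
    have h3 : ((zz ((K z0).subgroupOf (BG Z K)) : ↥(BG Z K)) : H) ∈ pCore 2 H := h2 ⟨_, h1, rfl⟩
    rwa [h.zz_r hz0] at h3
  obtain ⟨hZ, L, hL, hLn, huni, hzL, hzc⟩ := Ind.Red.exists_comp h.t0 h.top h.conn' (hev _) (hev _) (restr_mem hz0) hN
  have hCL : centralizer (L : Set ↥(BG Z K)) = center ↥(BG Z K) := Ind.centralizer_eq huni h.t0.core hZ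
  refine ⟨L.map (BG Z K).subtype, ?_, map_subtype_le _, ?_, ?_, ?_, ?_, hZ⟩
  · refine ⟨fun x hx g => ?_⟩
    obtain ⟨l, hl, rfl⟩ := hx
    have h1 := SignalizersComponents.Components.isComponent_map_equiv (MulAut.conjNormal g : MulAut ↥(BG Z K)) hL
    have h2 := huni _ h1
    refine ⟨MulAut.conjNormal g l, ?_, rfl⟩
    rw [← h2]
    exact ⟨l, hl, rfl⟩
  · intro z hz
    exact ⟨_, hzL _ (restr_mem hz), h.zz_r hz⟩
  · exact SignalizersComponents.ComponentNormalize.quasisimple_congr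
      (L.equivMapOfInjective (BG Z K).subtype (BG Z K).subtype_injective) hL.2
  · intro x hx h1 b hb
    have h2 : (⟨x, hx⟩ : ↥(BG Z K)) ∈ centralizer (L : Set ↥(BG Z K)) := by
      rw [mem_centralizer_iff]
      intro l hl
      exact Subtype.ext (h1 l ⟨l, hl, rfl⟩).symm
    rw [hCL, mem_center_iff] at h2
    exact (congrArg Subtype.val (h2 ⟨b, hb⟩)).symm
  · intro z hz
    by_contra hcon
    push Not at hcon
    apply hzc _ (restr_mem hz)
    rw [mem_center_iff]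
    intro b
    refine Subtype.ext ?_
    have h1 := hcon b b.2
    have h2 := h.zz_r hz
    change (b : H) * ((zz ((K z).subgroupOf (BG Z K)) : ↥(BG Z K)) : H) = _ * (b : H)
    rw [h2]
    exact h1.symm

end

end Cfsg.Agent.Cit.Nil.Comp.AO
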