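import Cfsg.Agent.Cit.Nil.Comp.AO.Defs
import Cfsg.Agent.Cit.Nil.Comp.TBEnd

/-!
# S1309 (6b), `r = 1`, COMP, AllOne, (M2): 2-subgroups of `C(K z)`, type I (helper61)

* `OW.p3`, `OW.no_inv` : an involution centralising `K z` and an N-partner `t` of `z` is `z`;
* `TC` : a type I pair `(z, t)`, `t = w r`; `TC.cP` : `C_P(r) = ⟨r⟩`; `TC.scal`; `TC.sig` : elements of `P` inverting `r`
  have square `z`; `TC.struct` : a `g`-invariant 2-subgroup `P ∋ r` of `C(K z)` is `⟨r⟩` or `⟨r, σ⟩`, a quaternion group.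
-/

set_option autoImplicit false
set_option linter.style.haveILetI false
set_option linter.unusedSectionVars false

namespace Cfsg.Agent.Cit.Nil.Comp.AO

open Subgroup Cfsg Cfsg.Agent.Cit Cfsg.Agent.Cit.Nil.ROne

variable {G : Type*} [Group G] {Z : Set G} {K : G → Subgroup G} {z t u v w g b p r x y k l m σ : G}

theorem isPGroup_of_sq (hbb : b * b = 1) : IsPGroup 2 (zpowers b) := by
  haveI : Fact (Nat.Prime 2) := ⟨Nat.prime_two⟩
  rw [IsPGroup]
  rintro ⟨_, n, rfl⟩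
  refine ⟨1, Subtype.ext ?_⟩
  change ((fun x : ℤ => b ^ x) n) ^ 2 ^ 1 = 1
  change (b ^ n) ^ 2 ^ 1 = 1
  rw [pow_one, ← zpow_natCast, ← zpow_mul, mul_comm, zpow_mul]
  have h1 : b ^ ((2 : ℕ) : ℤ) = 1 := by rw [zpow_natCast, pow_two]; exact hbb
  rw [h1, one_zpow]

theorem isPGroup_zp {P : Subgroup G} (hP : IsPGroup 2 P) (hp : p ∈ P) : IsPGroup 2 (zpowers p) :=
  hP.to_le (zpowers_le.2 hp)

section W

variable (h : W Z K)

include h

/-- two axes generate `K u` -/
theorem cen_of_two (hu : u ∈ Z) (hk : k ∈ K u) (hkk : k * k = u) (hl : l ∈ K u) (hll : l * l = u) (h1 : l ≠ k)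
    (h2 : l ≠ k⁻¹) (hxk : x * k = k * x) (hxl : x * l = l * x) : Cen K x u := by
  intro m hm
  have hxu : x * u = u * x := by rw [← hkk, ← mul_assoc, hxk, mul_assoc, hxk, ← mul_assoc]
  have inv : ∀ {m : G}, x * m = m * x → x * m⁻¹ = m⁻¹ * x := fun {m} hm => ((show Commute x m from hm).inv_right).eq
  by_cases e1 : m = 1
  · rw [e1, mul_one, one_mul]
  by_cases e2 : m = u
  · rw [e2]; exact hxu
  have hmm := h.sq_eq hu hm e1 e2
  by_cases e3 : m = k
  · rw [e3]; exact hxk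
  by_cases e4 : m = k⁻¹
  · rw [e4]; exact inv hxk
  by_cases e5 : m = l
  · rw [e5]; exact hxl
  by_cases e6 : m = l⁻¹
  · rw [e6]; exact inv hxl
  have hkl : x * (k * l) = k * l * x := by rw [← mul_assoc, hxk, mul_assoc, hxl, ← mul_assoc]
  rcases third_axis h hu hk hkk hl hll h1 h2 hm hmm e3 e4 e5 e6 with e | e
  · rw [e]; exact hkl
  · rw [e]; exact inv hkl

theorem sq_ne_inv (hu : u ∈ Z) (hkk : k * k = u) : k ≠ k⁻¹ := by
  intro e
  apply h.ne u hu
  rw [← hkk]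
  nth_rewrite 1 [e]
  exact inv_mul_cancel k

theorem inv_eq (hu : u ∈ Z) (hkk : k * k = u) : k⁻¹ = u * k := by
  rw [inv_eq_iff_mul_eq_one, ← hkk]
  calc k * (k * k * k) = (k * k) * (k * k) := by group
    _ = 1 := by rw [hkk, h.sq u hu]

theorem not_cen_four (hu : u ∈ Z) (hk : k ∈ K u) (hkk : k * k = u) : ¬ Cen K k u := by
  intro hc
  obtain ⟨c, hcK, hcc, -, -, h1, -⟩ := h.exists_inv hu hk hkk
  rw [hc c hcK, mul_inv_cancel_right] at h1
  exact sq_ne_inv h hu hcc h1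

end W

namespace OW

variable (o : OW Z K)

include o

theorem np (hz : z ∈ Z) (ht : t ∈ Z) (hne : z ≠ t) (hc : z * t = t * z) : NP K z t := ⟨hne, hc, o.nc z hz t ht⟩

theorem not_cen (hz : z ∈ Z) (ht : t ∈ Z) (hne : z ≠ t) : ¬ Cen K t z := fun hc =>
  o.nc z hz t ht (o.w.csymm hz ht hne hc)

/-- the product of commuting elements of `Z` -/
theorem mulZ (hz : z ∈ Z) (ht : t ∈ Z) (hne : z ≠ t) (hc : z * t = t * z) : z * t ∈ Z :=
  o.w.mul_mem_of_np hz ht (o.np hz ht hne hc)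

/-- (P3) -/
theorem p3 (hz : z ∈ Z) (ht : t ∈ Z) (hne : z ≠ t) (hc : z * t = t * z) (hb : Cen K b z) (hbt : b * t = t * b)
    (hbb : b * b = 1) : Cen K b t ∨ Cen K (b * z) t := by
  have hn := o.np hz ht hne hc
  obtain ⟨c, hcK, hcc, -, hcz, -⟩ := o.w.flip ht hz hn.symm
  obtain ⟨f, hfK, hff, -, -, hft⟩ := o.w.flip hz ht hn
  have hbz : b * z = z * b := hb z (o.w.mem z hz)
  have hct : c * t = t * c := o.w.cent ht hcK
  have hbf : b * f = f * b := hb f hfK
  have hfz : f * z = z * f := o.w.cent hz hfK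
  have htz : t * z ∈ Z := o.mulZ ht hz hne.symm hc.symm
  obtain ⟨k, hk⟩ : ∃ k, k = b⁻¹ * (c * b * c⁻¹) := ⟨_, rfl⟩
  have hkK : k ∈ K t := by
    have e : k = (b⁻¹ * c * b) * c⁻¹ := by rw [hk]; group
    rw [e]
    exact mul_mem (o.w.norm_mem' ht hbt hcK) (inv_mem hcK)
  have hbk : b * k = c * b * c⁻¹ := by rw [hk]; group
  -- `b k` centralises `K (t z)`
  have h1 : Cen K (c * b * c⁻¹) (t * z) := by
    have h2 := o.w.cen_conj hz c hb
    rwa [hcz] at h2
  have h2 : c * b * c⁻¹ * (t * z) = t * z * (c * b * c⁻¹) := h1 _ (o.w.mem _ htz)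
  have h3 : c * b * c⁻¹ * t = t * (c * b * c⁻¹) := by
    have q1 : Commute t c := hct.symm
    have q2 : Commute t b := hbt.symm
    exact ((q1.mul_right q2).mul_right q1.inv_right).eq.symm
  have h4 : c * b * c⁻¹ * z = z * (c * b * c⁻¹) := by
    have q1 : Commute (c * b * c⁻¹) (t * z) := h2
    have q2 : Commute (c * b * c⁻¹) t := h3
    have q3 := q2.inv_right.mul_right q1
    rw [← mul_assoc, inv_mul_cancel, one_mul] at q3
    exact q3
  have hkz : k * z = z * k := by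
    have q1 : Commute z b := hbz.symm
    have q2 : Commute z (c * b * c⁻¹) := h4.symm
    rw [hk]
    exact (q1.inv_right.mul_right q2).eq.symm
  -- conjugation by `f⁻¹`
  have h5 : Cen K (b * (f⁻¹ * k * f)) t := by
    have h6 := o.w.cen_conj htz f⁻¹ h1
    have e1 : f⁻¹ * (t * z) * f⁻¹⁻¹ = t := by
      have : f⁻¹ * (t * z) * f⁻¹⁻¹ = (f⁻¹ * t * f) * (f⁻¹ * (z * f)) := by group
      rw [this, hft, ← hfz]
      calc z * t * (f⁻¹ * (f * z)) = z * (t * z) := by group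
        _ = z * z * t := by rw [← hc]; group
        _ = t := by rw [o.w.sq z hz, one_mul]
    have e2 : f⁻¹ * (c * b * c⁻¹) * f⁻¹⁻¹ = b * (f⁻¹ * k * f) := by
      rw [← hbk]
      calc f⁻¹ * (b * k) * f⁻¹⁻¹ = (f⁻¹ * b) * k * f := by group
        _ = (b * f⁻¹) * k * f := by rw [((show Commute b f from hbf).inv_right).eq]
        _ = b * (f⁻¹ * k * f) := by group
    rwa [e1, e2] at h6
  by_cases e1 : k = 1
  · left
    rw [e1] at h5
    have e : b * (f⁻¹ * 1 * f) = b := by group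
    rwa [e] at h5
  by_cases e2 : k = t
  · right
    rw [e2, hft] at h5
    have h6 : Cen K t⁻¹ t := (o.w.cen_iff ht ht).2 (Or.inl rfl) |>.inv
    have h7 := h5.mul h6
    have e : b * (z * t) * t⁻¹ = b * z := by group
    rwa [e] at h7
  · exfalso
    have hkk := o.w.sq_eq ht hkK e1 e2
    apply o.not_cen hz ht hne
    intro q hq
    have hkq : k * q * k⁻¹ ∈ K z := o.w.norm_mem hz hkz hq
    have h6 : b * k * (b * k) = 1 := by
      rw [hbk]
      calc c * b * c⁻¹ * (c * b * c⁻¹) = c * (b * b) * c⁻¹ := by group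
        _ = 1 := by rw [hbb]; group
    have h7 : ∀ q ∈ K z, b * k * q * (b * k)⁻¹ = k * q * k⁻¹ := by
      intro q hq
      calc b * k * q * (b * k)⁻¹ = (b * (k * q * k⁻¹)) * b⁻¹ := by group
        _ = k * q * k⁻¹ := by rw [hb _ (o.w.norm_mem hz hkz hq)]; group
    have h8 : q = t * q * t⁻¹ := by
      calc q = (b * k * (b * k)) * q * (b * k * (b * k))⁻¹ := by rw [h6]; group
        _ = b * k * (b * k * q * (b * k)⁻¹) * (b * k)⁻¹ := by group
        _ = k * (k * q * k⁻¹) * k⁻¹ := by rw [h7 q hq, h7 _ hkq]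
        _ = (k * k) * q * (k * k)⁻¹ := by group
        _ = t * q * t⁻¹ := by rw [hkk]
    rw [eq_mul_inv_iff_mul_eq] at h8
    exact h8.symm

/-- an involution centralising `K z` and `t` is `z` -/
theorem no_inv (hz : z ∈ Z) (ht : t ∈ Z) (hne : z ≠ t) (hc : z * t = t * z) (hb : Cen K b z) (hbt : b * t = t * b)
    (hbb : b * b = 1) : b = 1 ∨ b = z := by
  rcases o.p3 hz ht hne hc hb hbt hbb with h1 | h1
  · exact Or.inl (o.f1 z hz t ht hne hc b (isPGroup_of_sq hbb) hb h1)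
  · right
    have hbz : b * z = z * b := hb z (o.w.mem z hz)
    have h2 : Cen K z z := (o.w.cen_iff hz hz).2 (Or.inl rfl)
    have h3 : b * z * (b * z) = 1 := by
      calc b * z * (b * z) = b * (z * b) * z := by group
        _ = (b * b) * (z * z) := by rw [← hbz]; group
        _ = 1 := by rw [hbb, o.w.sq z hz, one_mul]
    have h4 := o.f1 z hz t ht hne hc (b * z) (isPGroup_of_sq h3) (hb.mul h2) h1
    rw [mul_eq_one_iff_eq_inv, o.w.inv hz] at h4
    exact h4

end OW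

/-- a type I pair -/
structure TC (Z : Set G) (K : G → Subgroup G) (z t w g : G) : Prop where
  o : OW Z K
  hz : z ∈ Z
  ht : t ∈ Z
  ne : z ≠ t
  c : z * t = t * z
  hw : Inn K t z w
  hg : Inn K z t g

namespace TC

variable (T : TC Z K z t w g)

include T

theorem wt : w * t = t * w := (T.o.w.comm_of_inn T.hw).symm

theorem gz : g * z = z * g := (T.o.w.comm_of_inn T.hg).symm

theorem gw : g * w = w * g := by
  have h1 := (T.o.w.ti_act T.hz T.hw T.hg.sq T.gz).1
  exact mul_inv_eq_iff_eq_mul.1 h1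

theorem wz : w * z = z * w := T.o.w.cent T.hz T.hw.mem

theorem gt : g * t = t * g := T.o.w.cent T.ht T.hg.mem

/-- `r = w⁻¹ t` centralises `K z` -/
theorem r_cen : Cen K (w⁻¹ * t) z := by
  intro k hk
  have h1 := T.hw.act k hk
  calc w⁻¹ * t * k = w⁻¹ * (t * k * t⁻¹) * t := by group
    _ = k * (w⁻¹ * t) := by rw [h1]; group

theorem r_sq : w⁻¹ * t * (w⁻¹ * t) = z := by
  calc w⁻¹ * t * (w⁻¹ * t) = w⁻¹ * (t * w⁻¹) * t := by group
    _ = w⁻¹ * (w⁻¹ * t) * t := by rw [((show Commute t w from T.wt.symm).inv_right).eq]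
    _ = (w * w)⁻¹ * (t * t) := by group
    _ = z := by rw [T.hw.sq, T.o.w.sq t T.ht, mul_one, T.o.w.inv T.hz]

theorem r_g : g * (w⁻¹ * t) = w⁻¹ * t * g := by
  have q1 : Commute g w := T.gw
  have q2 : Commute g t := T.gt
  exact (q1.inv_right.mul_right q2).eq

/-- the elements of order 4 of `K t` commuting with `z` -/
theorem eq_g (hx : x ∈ K t) (hxx : x * x = t) (hxz : x * z = z * x) : x = g ∨ x = g⁻¹ := by
  by_contra hcon
  push Not at hcon
  have h1 := T.o.w.inv_of_ne T.ht T.hg.mem T.hg.sq hx hxx hcon.1 hcon.2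
  have h2 := T.hg.act x hx
  rw [h1, ← hxz, mul_inv_cancel_right] at h2
  exact sq_ne_inv T.o.w T.ht hxx h2

theorem conj_g (hxt : x * t = t * x) (hxz : x * z = z * x) : x * g * x⁻¹ = g ∨ x * g * x⁻¹ = g⁻¹ := by
  refine T.eq_g (T.o.w.norm_mem T.ht hxt T.hg.mem) ?_ ?_
  · calc x * g * x⁻¹ * (x * g * x⁻¹) = x * (g * g) * x⁻¹ := by group
      _ = t := by rw [T.hg.sq, hxt, mul_inv_cancel_right]
  · have q1 : Commute z x := hxz.symm
    have q2 : Commute z g := T.gz.symm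
    exact ((q1.mul_right q2).mul_right q1.inv_right).eq.symm

/-- **`C_P(r) = ⟨r⟩`** -/
theorem cP {P : Subgroup G} (hP : IsPGroup 2 P) (hr : r = w⁻¹ * t) (hrP : r ∈ P) (hpP : p ∈ P) (hp : Cen K p z)
    (hpr : p * r = r * p) : p = 1 ∨ p = z ∨ p = r ∨ p = r * z := by
  obtain ⟨o, hz, ht, hne, hc, hw, hg⟩ := id T
  have hcr : Cen K r z := by rw [hr]; exact T.r_cen
  have hrz : r * z = z * r := hcr z (o.w.mem z hz)
  have hpz : p * z = z * p := hp z (o.w.mem z hz)
  have htr : t = w * r := by rw [hr]; group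
  have hpt : p * t = t * p := by
    have q1 : Commute p w := hp w hw.mem
    have q2 : Commute p r := hpr
    rw [htr]
    exact (q1.mul_right q2).eq
  have hrt : r * t = t * r := by
    have q1 : Commute r w := hcr w hw.mem
    rw [htr]
    exact (q1.mul_right (Commute.refl r)).eq
  obtain ⟨j, hj, hjj, hj1, hj2, hgj, hjg⟩ := o.w.exists_inv ht hg.mem hg.sq
  -- axes
  have sqc : ∀ {x y : G}, x * t = t * x → y * y = t → x * y * x⁻¹ * (x * y * x⁻¹) = t := by
    intro x y hx hy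
    calc x * y * x⁻¹ * (x * y * x⁻¹) = x * (y * y) * x⁻¹ := by group
      _ = t := by rw [hy, hx, mul_inv_cancel_right]
  have ginv : ∀ {x : G}, x * t = t * x → x * z = z * x → x * j * x⁻¹ ≠ g ∧ x * j * x⁻¹ ≠ g⁻¹ := by
    intro x hx hxz
    have h1 := T.conj_g hx hxz
    have e : ∀ {y y' : G}, x * y * x⁻¹ = x * y' * x⁻¹ → y = y' := fun h => mul_left_cancel (mul_right_cancel h)
    have e' : x * g⁻¹ * x⁻¹ = (x * g * x⁻¹)⁻¹ := by group
    rcases h1 with h1 | h1
    · refine ⟨fun h2 => hj1 (e (h2.trans h1.symm)), fun h2 => hj2 (e ?_)⟩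
      rw [e', h1]; exact h2
    · refine ⟨fun h2 => hj2 (e ?_), fun h2 => hj1 (e (h2.trans h1.symm))⟩
      rw [e', h1, inv_inv]; exact h2
  -- `r` moves the axis of `j`
  have hrj : r * j * r⁻¹ ≠ j ∧ r * j * r⁻¹ ≠ j⁻¹ := by
    have h1 := (o.w.ti_act ht hg hw.sq T.wt).2 j hj hjj hj1 hj2
    have htj : t * j = j * t := (o.w.cent ht hj).symm
    have e : w⁻¹ * j * w = r * j * r⁻¹ := by
      rw [hr]
      calc w⁻¹ * j * w = w⁻¹ * (j * t) * t⁻¹ * w := by group
        _ = w⁻¹ * t * j * (w⁻¹ * t)⁻¹ := by rw [← htj]; group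
    rw [← e]
    refine ⟨fun h2 => h1.1 ?_, fun h2 => h1.2 ?_⟩
    · calc w * j * w⁻¹ = w * (w⁻¹ * j * w) * w⁻¹ := by rw [h2]
        _ = j := by group
    · calc w * j * w⁻¹ = (w * j⁻¹ * w⁻¹)⁻¹ := by group
        _ = (w * (w⁻¹ * j * w) * w⁻¹)⁻¹ := by rw [h2]
        _ = j⁻¹ := by group
  -- the key: elements preserving the axis of `j`
  have key : ∀ q ∈ P, Cen K q z → q * t = t * q → (q * j * q⁻¹ = j ∨ q * j * q⁻¹ = j⁻¹) → q = 1 ∨ q = z := by
    intro q hqP hqz hqt hqj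
    have hqz' : q * z = z * q := hqz z (o.w.mem z hz)
    have hqg := T.conj_g hqt hqz'
    have sq : ∀ {y : G}, (q * y * q⁻¹ = y ∨ q * y * q⁻¹ = y⁻¹) → q * q * y = y * (q * q) := by
      intro y hy
      have h1 : q * q * y * (q * q)⁻¹ = y := by
        have e : q * q * y * (q * q)⁻¹ = q * (q * y * q⁻¹) * q⁻¹ := by group
        rw [e]
        rcases hy with h2 | h2
        · rw [h2, h2]
        · rw [h2]
          have e' : q * y⁻¹ * q⁻¹ = (q * y * q⁻¹)⁻¹ := by group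
          rw [e', h2, inv_inv]
      exact mul_inv_eq_iff_eq_mul.1 h1
    have h2 : Cen K (q * q) t := cen_of_two o.w ht hg.mem hg.sq hj hjj hj1 hj2 (sq hqg) (sq hqj)
    have h3 := o.f1 z hz t ht hne hc (q * q) (isPGroup_zp hP (mul_mem hqP hqP)) (hqz.mul hqz) h2
    exact o.no_inv hz ht hne hc hqz hqt h3
  by_cases hcase : p * j * p⁻¹ = j ∨ p * j * p⁻¹ = j⁻¹
  · rcases key p hpP hp hpt hcase with h1 | h1
    · exact Or.inl h1
    · exact Or.inr (Or.inl h1)
  · push Not at hcase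
    have m1 := ginv hpt hpz
    have m2 := ginv hrt hrz
    have h3 := third_axis o.w ht hg.mem hg.sq hj hjj hj1 hj2 (o.w.norm_mem ht hpt hj) (sqc hpt hjj) m1.1 m1.2 hcase.1 hcase.2
    have h4 := third_axis o.w ht hg.mem hg.sq hj hjj hj1 hj2 (o.w.norm_mem ht hrt hj) (sqc hrt hjj) m2.1 m2.2 hrj.1 hrj.2
    have h5 : p * j * p⁻¹ = r * j * r⁻¹ ∨ p * j * p⁻¹ = r * j⁻¹ * r⁻¹ := by
      have e' : r * j⁻¹ * r⁻¹ = (r * j * r⁻¹)⁻¹ := by group
      rw [e']
      rcases h3 with h3 | h3 <;> rcases h4 with h4 | h4 <;> rw [h3, h4]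
      · exact Or.inl rfl
      · right; rw [inv_inv]
      · exact Or.inr rfl
      · exact Or.inl rfl
    have h6 : r⁻¹ * p * j * (r⁻¹ * p)⁻¹ = j ∨ r⁻¹ * p * j * (r⁻¹ * p)⁻¹ = j⁻¹ := by
      have e : r⁻¹ * p * j * (r⁻¹ * p)⁻¹ = r⁻¹ * (p * j * p⁻¹) * r := by group
      rw [e]
      rcases h5 with h5 | h5
      · left; rw [h5]; group
      · right; rw [h5]; group
    have hrt' : r⁻¹ * p * t = t * (r⁻¹ * p) := by
      have q1 : Commute t r := hrt.symm
      have q2 : Commute t p := hpt.symm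
      exact (q1.inv_right.mul_right q2).eq.symm
    rcases key (r⁻¹ * p) (mul_mem (inv_mem hrP) hpP) (hcr.inv.mul hp) hrt' h6 with h7 | h7
    · right; right; left
      rw [inv_mul_eq_one] at h7
      exact h7.symm
    · right; right; right
      rw [inv_mul_eq_iff_eq_mul] at h7
      exact h7

/-- scalars -/
theorem scal (huz : u * z = z * u) (hut : u * t = t * u) (huw : u * w * u⁻¹ = w⁻¹) : u * g * u⁻¹ = g⁻¹ := by
  obtain ⟨o, hz, ht, hne, hc, hw, hg⟩ := id T
  rcases T.conj_g hut huz with h1 | h1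
  swap
  · exact h1
  exfalso
  obtain ⟨y, hy, hyy, hy1, hy2, hwy, hyw⟩ := o.w.exists_inv hz hw.mem hw.sq
  have hyz : y * z = z * y := o.w.cent hz hy
  have hwi := inv_eq o.w hz hw.sq
  -- `y t y⁻¹ = t z`
  have hyt : y * t * y⁻¹ = t * z := by
    have h2 := hw.act y hy
    rw [hwy] at h2
    have h3 : t * y = y⁻¹ * t := by rw [← h2]; group
    have h4 : y * t = t * y⁻¹ := by
      calc y * t = y * (t * y) * y⁻¹ := by group
        _ = t * y⁻¹ := by rw [h3]; group
    rw [h4, mul_assoc, ← mul_inv_rev, hyy, o.w.inv hz]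
  -- `y g y⁻¹ = e g`
  have hyg : ∃ e, (e = w ∨ e = w⁻¹) ∧ y * g * y⁻¹ = e * g := by
    have hgy : g * y * g⁻¹ ∈ K z := o.w.norm_mem hz T.gz hy
    have hgy2 : g * y * g⁻¹ * (g * y * g⁻¹) = z := by
      calc g * y * g⁻¹ * (g * y * g⁻¹) = g * (y * y) * g⁻¹ := by group
        _ = z := by rw [hyy, T.gz, mul_inv_cancel_right]
    have h3 := (o.w.ti_act hz hw hg.sq T.gz).2 y hy hyy hy1 hy2
    have hgw : g * w * g⁻¹ = w := by rw [T.gw, mul_inv_cancel_right]
    have n1 : g * y * g⁻¹ ≠ w := by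
      intro e
      rw [← hgw] at e
      exact hy1 (mul_left_cancel (mul_right_cancel e))
    have n2 : g * y * g⁻¹ ≠ w⁻¹ := by
      intro e
      have e' : w⁻¹ = g * w⁻¹ * g⁻¹ := by
        have : g * w⁻¹ * g⁻¹ = (g * w * g⁻¹)⁻¹ := by group
        rw [this, hgw]
      rw [e'] at e
      exact hy2 (mul_left_cancel (mul_right_cancel e))
    rcases third_axis o.w hz hw.mem hw.sq hy hyy hy1 hy2 hgy hgy2 n1 n2 h3.1 h3.2 with h4 | h4
    · refine ⟨w⁻¹, Or.inr rfl, ?_⟩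
      have h5 : g * y = w * y * g := by rw [← h4]; group
      have h6 : w⁻¹ * (g * y) = y * g := by rw [h5]; group
      have h7 : w⁻¹ * g = g * w⁻¹ := ((show Commute w g from T.gw.symm).inv_left).eq
      rw [← h6]; group
    · refine ⟨w, Or.inl rfl, ?_⟩
      have h5 : g * y = (w * y)⁻¹ * g := by rw [← h4]; group
      have h6 : (w * y)⁻¹ = w⁻¹ * y := by
        have e1 : y⁻¹ = w * y * w⁻¹ := hwy.symm
        calc (w * y)⁻¹ = y⁻¹ * w⁻¹ := by group
          _ = w * y * w⁻¹ * w⁻¹ := by rw [e1]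
          _ = w * y * (w * w)⁻¹ := by group
          _ = w * y * z := by rw [hw.sq, o.w.inv hz]
          _ = w * z * y := by rw [mul_assoc, hyz, mul_assoc]
          _ = w⁻¹ * y := by rw [T.wz, ← hwi]
      rw [h6] at h5
      have h7 : w * (g * y) = y * g := by rw [h5]; group
      rw [← h7]; group
  obtain ⟨e, he, hyg⟩ := hyg
  have hue : u * e * u⁻¹ = e⁻¹ := by
    rcases he with rfl | rfl
    · exact huw
    · have : u * w⁻¹ * u⁻¹ = (u * w * u⁻¹)⁻¹ := by group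
      rw [this, huw]
  have heg : e * g = g * e := by
    rcases he with rfl | rfl
    · exact T.gw.symm
    · exact ((show Commute w g from T.gw.symm).inv_left).eq
  -- `u' = y⁻¹ u y`
  have hut' : y⁻¹ * u * y * t = t * (y⁻¹ * u * y) := by
    have h2 : y * t = t * z * y := by rw [← hyt]; group
    have h3 : u * (t * z) = t * z * u := by
      have q1 : Commute u t := hut
      have q2 : Commute u z := huz
      exact (q1.mul_right q2).eq
    have h4 : y⁻¹ * (t * z) = t * y⁻¹ := by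
      have h5 : t * z * y = y * t := h2.symm
      calc y⁻¹ * (t * z) = y⁻¹ * (t * z * y) * y⁻¹ := by group
        _ = t * y⁻¹ := by rw [h5]; group
    calc y⁻¹ * u * y * t = y⁻¹ * u * (y * t) := by group
      _ = y⁻¹ * (u * (t * z)) * y := by rw [h2]; group
      _ = y⁻¹ * (t * z) * u * y := by rw [h3]; group
      _ = t * (y⁻¹ * u * y) := by rw [h4]; group
  have huz' : y⁻¹ * u * y * z = z * (y⁻¹ * u * y) := by
    have q1 : Commute z y := hyz.symm
    have q2 : Commute z u := huz.symm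
    exact ((q1.inv_right.mul_right q2).mul_right q1).eq.symm
  have h2 : u * (y * g * y⁻¹) * u⁻¹ = e⁻¹ * g := by
    rw [hyg]
    have : u * (e * g) * u⁻¹ = (u * e * u⁻¹) * (u * g * u⁻¹) := by group
    rw [this, hue, h1]
  have h3 : u * (y * g * y⁻¹) * u⁻¹ = y * (y⁻¹ * u * y * g * (y⁻¹ * u * y)⁻¹) * y⁻¹ := by group
  rw [h3] at h2
  rcases T.conj_g hut' huz' with h4 | h4
  · rw [h4, hyg] at h2
    have h5 : e = e⁻¹ := mul_right_cancel h2
    have h6 : e * e = z := by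
      rcases he with rfl | rfl
      · exact hw.sq
      · rw [← mul_inv_rev, hw.sq, o.w.inv hz]
    exact sq_ne_inv o.w hz h6 h5
  · rw [h4] at h2
    have h5 : y * g⁻¹ * y⁻¹ = (y * g * y⁻¹)⁻¹ := by group
    rw [h5, hyg, heg, mul_inv_rev] at h2
    have h6 : g⁻¹ = g := mul_left_cancel h2
    exact sq_ne_inv o.w ht hg.sq h6.symm

/-- an element of `P` inverting `r` has square `z` -/
theorem sig {P : Subgroup G} (hP : IsPGroup 2 P) (hr : r = w⁻¹ * t) (hrP : r ∈ P) (hσP : σ ∈ P) (hσ : Cen K σ z)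
    (hσr : σ * r * σ⁻¹ = r⁻¹) : σ * σ = z := by
  obtain ⟨o, hz, ht, hne, hc, hw, hg⟩ := id T
  have hcr : Cen K r z := by rw [hr]; exact T.r_cen
  have hrr : r * r = z := by rw [hr]; exact T.r_sq
  have htr : t = w * r := by rw [hr]; group
  have hri : r ≠ r⁻¹ := sq_ne_inv o.w hz hrr
  obtain ⟨y, hy, hyy, hy1, hy2, hwy, hyw⟩ := o.w.exists_inv hz hw.mem hw.sq
  have hyσ : σ * y = y * σ := hσ y hy
  have hwσ : σ * w = w * σ := hσ w hw.mem
  have hyr : r * y = y * r := hcr y hy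
  have hwr : r * w = w * r := hcr w hw.mem
  have hyz : y * z = z * y := o.w.cent hz hy
  have hσz : σ * z = z * σ := hσ z (o.w.mem z hz)
  have huz : y * σ * z = z * (y * σ) := by
    have q1 : Commute z y := hyz.symm
    have q2 : Commute z σ := hσz.symm
    exact (q1.mul_right q2).eq.symm
  have huw : y * σ * w * (y * σ)⁻¹ = w⁻¹ := by
    calc y * σ * w * (y * σ)⁻¹ = y * (σ * w) * σ⁻¹ * y⁻¹ := by group
      _ = y * w * y⁻¹ := by rw [hwσ]; group
      _ = w⁻¹ := hyw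
  have hur : y * σ * r * (y * σ)⁻¹ = r⁻¹ := by
    calc y * σ * r * (y * σ)⁻¹ = y * (σ * r * σ⁻¹) * y⁻¹ := by group
      _ = y * r⁻¹ * y⁻¹ := by rw [hσr]
      _ = r⁻¹ := by rw [((show Commute y r from hyr.symm).inv_right).eq]; group
  have hut : y * σ * t = t * (y * σ) := by
    have h1 : y * σ * t * (y * σ)⁻¹ = t := by
      have e : y * σ * t * (y * σ)⁻¹ = (y * σ * w * (y * σ)⁻¹) * (y * σ * r * (y * σ)⁻¹) := by rw [htr]; group
      rw [e, huw, hur, ← mul_inv_rev, hwr, ← htr, o.w.inv ht]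
    exact mul_inv_eq_iff_eq_mul.1 h1
  have h1 := T.scal huz hut huw
  have hσσr : σ * σ * r = r * (σ * σ) := by
    have h2 : σ * σ * r * (σ * σ)⁻¹ = r := by
      calc σ * σ * r * (σ * σ)⁻¹ = σ * (σ * r * σ⁻¹) * σ⁻¹ := by group
        _ = (σ * r * σ⁻¹)⁻¹ := by rw [hσr]; nth_rewrite 2 [← hσr]; group
        _ = r := by rw [hσr, inv_inv]
    exact mul_inv_eq_iff_eq_mul.1 h2
  rcases T.cP hP hr hrP (mul_mem hσP hσP) (hσ.mul hσ) hσσr with h2 | h2 | h2 | h2
  · exfalso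
    have h3 : y * σ * (y * σ) = z := by
      calc y * σ * (y * σ) = y * (σ * y) * σ := by group
        _ = (y * y) * (σ * σ) := by rw [hyσ]; group
        _ = z := by rw [hyy, h2, mul_one]
    have h4 := (o.w.ti_act ht hg h3 hut).1
    rw [h1] at h4
    exact sq_ne_inv o.w ht hg.sq h4.symm
  · exact h2
  · exfalso
    apply hri
    rw [← hσr, ← h2]; group
  · exfalso
    apply hri
    have hrz : r * z = z * r := hcr z (o.w.mem z hz)
    have h3 : r = σ * σ * z := by rw [h2, mul_assoc, o.w.sq z hz, mul_one]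
    rw [← hσr]
    nth_rewrite 2 [h3]
    have h4 : σ * (σ * σ * z) * σ⁻¹ = σ * σ * (σ * z) * σ⁻¹ := by group
    rw [h4, hσz]
    calc r = σ * σ * z := h3
      _ = σ * σ * (z * σ) * σ⁻¹ := by group

end TC

end Cfsg.Agent.Cit.Nil.Comp.AO
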