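import Cfsg.Agent.Cit.Nil.Comp.AO.TriRot
import Cfsg.Agent.Cit.Nil.Comp.AO.AOEnd
import Cfsg.Agent.Cit.Nil.CompR.QuoC
import Cfsg.Agent.Cit.Nil.RTwo.BThree
import Cfsg.Agent.Cit.Nil.RTwo.ElevenA
import Cfsg.Agent.Cit.Nil.RTwo.World
import Cfsg.Agent.Cit.Nil.RTwo.SMain

/-!
# S1309 (6b), `r = 1`, COMP, AllOne, (M3), `a` conjugate to `b` in `C(z)` (helper454 #20695 (ii); helper61)

`TI2.false_of`.
-/

set_option autoImplicit false
set_option linter.style.haveILetI false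
set_option linter.unusedSectionVars false

namespace Cfsg.Agent.Cit.Nil.Comp.AO

open Subgroup Cfsg Cfsg.Agent.Cit Cfsg.Agent.Cit.Nil.ROne Cfsg.Agent.Cit.Nil.AN
open Cfsg.Agent.OddOrderLocal.NilParts
open CompR (OmB BlkC)
open RTwoM.Quo (QM QT)

universe u

/-! ### 3-elements -/

set_option maxRecDepth 100000 in
theorem pow_twelve : ∀ p q : QEight.Q, QEight.Ok p q → ∀ x, (QEight.F p q)^[12] x = x := by
  decide +kernel

section

variable {G : Type*} [Group G] {Z : Set G} {K : G → Subgroup G} {z a b d g u v u' v' x k0 l0 : G}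

/-- the 3-part of a rotation -/
theorem exists_three [Finite G] (w : W Z K) (hz : z ∈ Z) (hg : g * z = z * g) (ho : Odd (orderOf g))
    (hk : ∃ k ∈ K z, g * k ≠ k * g) : ∃ n : ℕ, IsPGroup 3 (zpowers (g ^ n)) ∧ g ^ n * z = z * g ^ n ∧
      ∃ k ∈ K z, g ^ n * k ≠ k * g ^ n := by
  haveI : Fact (Nat.Prime 3) := ⟨Nat.prime_three⟩
  obtain ⟨r, hr⟩ : ∃ r, r = w.rho hz g hg := ⟨_, rfl⟩
  have hit : ∀ (n : ℕ) (x : QEight.Q), (r ^ n) x =
      (QEight.F (r (QuaternionGroup.a 1)) (r (QuaternionGroup.xa 0)))^[n] x := by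
    intro n
    induction n with
    | zero => intro x; rfl
    | succ n ih =>
      intro x
      rw [pow_succ, MulAut.mul_apply, ih, Function.iterate_succ_apply, ← QEight.aut_eq r x]
  have h12 : r ^ 12 = 1 := by
    refine MulEquiv.ext fun x => ?_
    rw [hit 12 x]
    exact pow_twelve _ _ (QEight.aut_ok r) x
  have hdv : orderOf r ∣ orderOf g := by
    obtain ⟨h4, h5⟩ := w.rho_pow hz hg (orderOf g)
    apply orderOf_dvd_of_pow_eq_one
    rw [hr, ← h5, w.rho_eq_one hz h4]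
    intro k _
    rw [pow_orderOf_eq_one, one_mul, mul_one]
  have h3 : orderOf r ∣ 3 := by
    have h1 : orderOf r ∣ 4 * 3 := orderOf_dvd_of_pow_eq_one h12
    refine Nat.Coprime.dvd_of_dvd_mul_left ?_ h1
    exact (Nat.coprime_two_right.2 (ho.of_dvd_nat hdv)).pow_right 2
  obtain ⟨m, hm, e⟩ : ∃ m, ¬ 3 ∣ m ∧ orderOf g = 3 ^ (orderOf g).factorization 3 * m :=
    ⟨_, Nat.not_dvd_ordCompl Nat.prime_three (orderOf_pos _).ne', (Nat.ordProj_mul_ordCompl_eq_self _ 3).symm⟩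
  obtain ⟨h4, h5⟩ := w.rho_pow hz hg m
  refine ⟨m, ?_, h4, ?_⟩
  · have h1 : (g ^ m) ^ (3 ^ (orderOf g).factorization 3) = 1 := by
      rw [← pow_mul, mul_comm, ← e, pow_orderOf_eq_one]
    obtain ⟨j, -, hj⟩ := (Nat.dvd_prime_pow Nat.prime_three).1 (orderOf_dvd_of_pow_eq_one h1)
    exact IsPGroup.of_card (n := j) (by rw [Nat.card_zpowers, hj])
  · by_contra hcon
    push Not at hcon
    have h6 : w.rho hz (g ^ m) h4 = 1 := (w.rho_eq_one hz h4).2 hcon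
    rw [h5, ← hr] at h6
    have h7 : orderOf r ∣ m := orderOf_dvd_of_pow_eq_one h6
    have h8 : orderOf r = 1 := by
      rcases (Nat.dvd_prime Nat.prime_three).1 h3 with h9 | h9
      · exact h9
      · rw [h9] at h7
        exact absurd h7 hm
    rw [orderOf_eq_one_iff, hr, w.rho_eq_one hz hg] at h8
    obtain ⟨k, hk, hne⟩ := hk
    exact hne (h8 k hk)

/-- **the element `c`** -/
theorem exists_c_of [Finite G] (w : W Z K) (ao : AllOne Z K) (t : Tri Z K z a b) (hx : x ∈ Z) (hxz : CP K z x)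
    (ha : Inn K x a k0) (hb : Inn K x b l0) : ∃ c : G, c * c = z ∧ Cen K c z ∧ Cen K c a ∧ Cen K c b := by
  have hk0 := ha.mem
  have hl0 := hb.mem
  have hk02 := ha.sq
  have hl02 := hb.sq
  have actA := ha.act
  have actB := hb.act
  have hkl : k0 * l0 = l0 * k0 := t.cab.2 k0 hk0 l0 hl0
  have hxk0 : x * k0 = k0 * x := by
    have h1 := actA k0 hk0
    rw [mul_inv_cancel_right, mul_inv_eq_iff_eq_mul] at h1
    exact h1
  have hxl0 : x * l0 = l0 * x := by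
    have h1 := actB l0 hl0
    rw [mul_inv_cancel_right, mul_inv_eq_iff_eq_mul] at h1
    exact h1
  have hxx : x * x = 1 := w.sq x hx
  refine ⟨x * (k0 * l0)⁻¹, ?_, ?_, ?_, ?_⟩
  · have c1 : Commute x (k0 * l0)⁻¹ := ((show Commute x k0 from hxk0).mul_right hxl0).inv_right
    have e1 : x * (k0 * l0)⁻¹ * (x * (k0 * l0)⁻¹) = (x * x) * ((k0 * l0) * (k0 * l0))⁻¹ := by
      calc x * (k0 * l0)⁻¹ * (x * (k0 * l0)⁻¹) = x * ((k0 * l0)⁻¹ * x) * (k0 * l0)⁻¹ := by group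
        _ = x * (x * (k0 * l0)⁻¹) * (k0 * l0)⁻¹ := by rw [← c1.eq]
        _ = _ := by group
    have e2 : (k0 * l0) * (k0 * l0) = z := by
      calc (k0 * l0) * (k0 * l0) = k0 * (l0 * k0) * l0 := by group
        _ = (k0 * k0) * (l0 * l0) := by rw [← hkl]; group
        _ = z := by rw [hk02, hl02, t.mul w ao]
    rw [e1, hxx, e2, one_mul, w.inv t.hz]
  · intro k hk'
    have c1 : Commute x k := (hxz.2 k hk' x (w.mem x hx)).symm
    have c2 : Commute k0 k := (t.cza.2 k hk' k0 hk0).symm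
    have c3 : Commute l0 k := (t.czb.2 k hk' l0 hl0).symm
    exact (c1.mul_left (c2.mul_left c3).inv_left).eq
  · intro k hk'
    have h1 : k0⁻¹ * k * k0 ∈ K a := mul_mem (mul_mem (inv_mem hk0) hk') hk0
    have e1 : (k0 * l0)⁻¹ * k = (k0⁻¹ * k * k0) * (k0 * l0)⁻¹ := by
      have c4 : l0⁻¹ * (k0⁻¹ * k * k0) = (k0⁻¹ * k * k0) * l0⁻¹ :=
        (show Commute l0⁻¹ (k0⁻¹ * k * k0) from ((show Commute l0 _ from (t.cab.2 _ h1 l0 hl0).symm).inv_left)).eq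
      calc (k0 * l0)⁻¹ * k = l0⁻¹ * (k0⁻¹ * k * k0) * k0⁻¹ := by group
        _ = (k0⁻¹ * k * k0) * (k0 * l0)⁻¹ := by rw [c4]; group
    have e2 := actA _ h1
    have e3 : k0 * (k0⁻¹ * k * k0) * k0⁻¹ = k := by group
    rw [e3, mul_inv_eq_iff_eq_mul] at e2
    calc x * (k0 * l0)⁻¹ * k = x * ((k0 * l0)⁻¹ * k) := by group
      _ = (x * (k0⁻¹ * k * k0)) * (k0 * l0)⁻¹ := by rw [e1]; group
      _ = k * (x * (k0 * l0)⁻¹) := by rw [e2]; group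
  · intro k hk'
    have h1 : l0⁻¹ * k * l0 ∈ K b := mul_mem (mul_mem (inv_mem hl0) hk') hl0
    have e1 : (k0 * l0)⁻¹ * k = (l0⁻¹ * k * l0) * (k0 * l0)⁻¹ := by
      have c4 : k0⁻¹ * k = k * k0⁻¹ :=
        (show Commute k0⁻¹ k from ((show Commute k0 _ from (t.cab.2 k0 hk0 k hk')).inv_left)).eq
      calc (k0 * l0)⁻¹ * k = l0⁻¹ * (k0⁻¹ * k) := by group
        _ = (l0⁻¹ * k * l0) * (k0 * l0)⁻¹ := by rw [c4]; group
    have e2 := actB _ h1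
    have e3 : l0 * (l0⁻¹ * k * l0) * l0⁻¹ = k := by group
    rw [e3, mul_inv_eq_iff_eq_mul] at e2
    calc x * (k0 * l0)⁻¹ * k = x * ((k0 * l0)⁻¹ * k) := by group
      _ = (x * (l0⁻¹ * k * l0)) * (k0 * l0)⁻¹ := by rw [e1]; group
      _ = k * (x * (k0 * l0)⁻¹) := by rw [e2]; group

/-- an element of `Z` which acts on `K u` trivially modulo `u`, and not trivially -/
theorem exists_inn [Finite G] (w : W Z K) (hu : u ∈ Z) (hx : x ∈ Z) (hn : ¬ Cen K x u)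
    (h : ∀ k ∈ K u, x * k * x⁻¹ = k ∨ x * k * x⁻¹ = u * k) : ∃ k0, Inn K x u k0 := by
  have hxu : x * u = u * x := by
    rcases h u (w.mem u hu) with h1 | h1
    · exact mul_inv_eq_iff_eq_mul.1 h1
    · exfalso
      rw [w.sq u hu] at h1
      have h2 : x * u = x := mul_inv_eq_one.1 h1
      exact w.ne u hu (mul_left_cancel (h2.trans (mul_one x).symm))
  rcases w.inv_cases hu hxu (fun k _ => by rw [w.sq x hx, one_mul, mul_one]) with h1 | ⟨y, h1⟩ | ⟨y, h1⟩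
  · exact absurd h1 hn
  · exact ⟨y, h1⟩
  · exfalso
    obtain ⟨i, hi, j, hj, hii, hjj, hji, -⟩ := w.exists_ij hu
    have key : ∀ k ∈ K u, k * k = u → k = y ∨ k = y⁻¹ := by
      intro k hk hkk
      by_contra hcon
      push Not at hcon
      obtain ⟨h2, h3⟩ := h1.ne k hk hkk hcon.1 hcon.2
      rcases h k hk with h4 | h4
      · exact h2 h4
      · apply h3
        rw [h4]
        exact eq_inv_of_mul_eq_one_left (by rw [mul_assoc, hkk, w.sq u hu])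
    have hcomm : i * j = j * i := by
      rcases key i hi hii with h2 | h2 <;> rcases key j hj hjj with h3 | h3 <;> rw [h2, h3] <;> group
    rw [← hcomm] at hji
    have h2 : u = 1 := by
      have h3 : 1 * (i * j) = u * (i * j) := by rw [one_mul]; exact hji
      exact (mul_right_cancel h3).symm
    exact w.ne u hu h2

end

/-- the world -/
structure TI2 {G : Type*} [Group G] [Finite G] (Ω : Set (Subgroup G)) (z a b : G) : Prop where
  t0 : IndDefs.T0 Ω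
  w : W (RG.ZZ Ω) (RG.RR Ω)
  ao : AllOne (RG.ZZ Ω) (RG.RR Ω)
  c3 : ROne.C3 (RG.ZZ Ω) (RG.RR Ω)
  core : pPrimeCore 2 ↥(centralizer ({z} : Set G)) = ⊥
  t : Tri (RG.ZZ Ω) (RG.RR Ω) z a b
  hy : ∃ g, g * z = z * g ∧ g * a * g⁻¹ = b
  no : ∀ L ∈ restr Ω (centralizer {z}), ¬ IndDefs.Three L

/-- the member over `u` in `C(z)` -/
def Mu {G : Type*} [Group G] (Ω : Set (Subgroup G)) (z u : G) : Subgroup ↥(centralizer ({z} : Set G)) :=
  (RG.RR Ω u).subgroupOf (centralizer {z})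

namespace TI2

section

variable {G : Type*} [Group G] [Finite G] {Ω : Set (Subgroup G)} {z a b x g u v c h : G} (m : TI2 Ω z a b)
  {A B L : Subgroup ↥(centralizer ({z} : Set G))}

include m

theorem wr : RG.WR Ω := RG.WR.of_hyp m.t0.hyp m.t0.card

theorem cpi : CP (RG.RR Ω) u v ↔ RG.CP Ω u v := CompR.cp_iff_wr m.wr

theorem blk : BlkC Ω z :=
  ⟨m.t0, ⟨m.ao.not_nil, m.ao.cls, m.ao.one, m.ao.three⟩, m.core, m.t.hz, ⟨a, m.t.ha, m.cpi.1 m.t.cza⟩⟩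

theorem eq_rr {L : Subgroup G} (hL : L ∈ Ω) : L = RG.RR Ω (zz L) :=
  eq_of_le_of_card_ge (RG.WR.le_RR ⟨hL, rfl⟩) (by rw [m.t0.card L hL, m.w.card8 ⟨L, hL, rfl⟩])

theorem rr_mem (hu : u ∈ RG.ZZ Ω) : RG.RR Ω u ∈ Ω := ROne.rr_mem m.wr m.w hu

theorem hle (hc : CP (RG.RR Ω) z u) : RG.RR Ω u ≤ centralizer {z} := fun k hk =>
  mem_centralizer_singleton_iff.2 (hc.2 z (m.w.mem z m.t.hz) k hk).symm

theorem memC (hu : u ∈ RG.ZZ Ω) (hc : CP (RG.RR Ω) z u) : u ∈ centralizer ({z} : Set G) :=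
  m.hle hc (m.w.mem u hu)

theorem mu_mem (hu : u ∈ RG.ZZ Ω) (hc : CP (RG.RR Ω) z u) : Mu Ω z u ∈ OmB Ω z :=
  CompR.mem_OmB m.wr m.t.hz (m.rr_mem hu) (by rw [m.w.zz_K hu]; exact m.cpi.1 hc)

theorem eq_mu (hA : A ∈ OmB Ω z) : ∃ u ∈ RG.ZZ Ω, CP (RG.RR Ω) z u ∧ A = Mu Ω z u := by
  refine ⟨_, ⟨_, hA.1, rfl⟩, m.cpi.2 hA.2, ?_⟩
  rw [Mu, ← m.eq_rr hA.1]
  exact CompR.OmB_eq A

theorem zz_mu (hu : u ∈ RG.ZZ Ω) (hc : CP (RG.RR Ω) z u) : zz (Mu Ω z u) = ⟨u, m.memC hu hc⟩ := by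
  apply Subtype.ext
  rw [CompR.zzB m.t0.hyp (m.mu_mem hu hc), Mu, map_subgroupOf_eq_of_le (m.hle hc), m.w.zz_K hu]

theorem mem_mu {k : ↥(centralizer ({z} : Set G))} : k ∈ Mu Ω z u ↔ (k : G) ∈ RG.RR Ω u := Iff.rfl

/-- `B(z)` is one orbit -/
theorem exists_orb (hu : u ∈ RG.ZZ Ω) (hc : CP (RG.RR Ω) z u) : ∃ h : G, h * z = z * h ∧ h * a * h⁻¹ = u := by
  haveI : Fact (Nat.Prime 2) := ⟨Nat.prime_two⟩
  have w := m.w
  have t := m.t
  have hP : IsPGroup 2 (RG.RR Ω a ⊔ RG.RR Ω b : Subgroup G) := by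
    obtain ⟨S, hS1, hS2⟩ := w.exists_sylow_of_cp t.ha t.hb t.cab
    exact S.isPGroup'.to_le (sup_le hS1.2 hS2.2)
  obtain ⟨R, hR, hR1⟩ := LB.exists_syl_ge (M := centralizer {z}) hP (sup_le (m.hle t.cza) (m.hle t.czb))
  obtain ⟨R', hR', hR2⟩ := LB.exists_syl_ge (M := centralizer {z}) (w.two hu) (m.hle hc)
  obtain ⟨x, hx, h5⟩ := hR.exists_conj hR'
  have hxz := mem_centralizer_singleton_iff.1 hx
  have hzz : x * z * x⁻¹ = z := by rw [hxz, mul_inv_cancel_right]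
  have c1 := cp_conj w t.hz t.ha t.cza x
  have c2 := cp_conj w t.hz t.hb t.czb x
  have c3 := cp_conj w t.ha t.hb t.cab x
  rw [hzz] at c1 c2
  have ha' := w.conjZ a t.ha x
  have hb' := w.conjZ b t.hb x
  have l1 : RG.RR Ω (x * a * x⁻¹) ≤ R' := by
    rw [w.conjK a t.ha, ← h5]
    exact cj_mono x (le_sup_left.trans hR1)
  by_cases hua : u = x * a * x⁻¹
  · exact ⟨x, hxz, hua.symm⟩
  have e1 : CP (RG.RR Ω) (x * a * x⁻¹) u := w.com ha' hu hR'.2.1 l1 hR2 (Ne.symm hua)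
  have e2 := m.ao.three z t.hz _ ha' u hu c1 hc e1
  have e3 := m.ao.three z t.hz _ ha' _ hb' c1 c2 c3
  have e4 : u = x * b * x⁻¹ := mul_left_cancel (e2.trans e3.symm)
  obtain ⟨g, hg, hga⟩ := m.hy
  refine ⟨x * g, ?_, ?_⟩
  · rw [mul_assoc, hg, ← mul_assoc, hxz, mul_assoc]
  · calc x * g * a * (x * g)⁻¹ = x * (g * a * g⁻¹) * x⁻¹ := by group
      _ = u := by rw [hga, e4]

theorem tri_of (hu : u ∈ RG.ZZ Ω) (hc : CP (RG.RR Ω) z u) : ∃ v, Tri (RG.ZZ Ω) (RG.RR Ω) z u v := by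
  obtain ⟨h, hz, rfl⟩ := m.exists_orb hu hc
  have w := m.w
  have t := m.t
  have hzz : h * z * h⁻¹ = z := by rw [hz, mul_inv_cancel_right]
  have c1 := cp_conj w t.hz t.ha t.cza h
  have c2 := cp_conj w t.hz t.hb t.czb h
  rw [hzz] at c1 c2
  exact ⟨h * b * h⁻¹, t.hz, hu, w.conjZ b t.hb h, c1, c2, cp_conj w t.ha t.hb t.cab h⟩

theorem mulz {u v : G} (t : Tri (RG.ZZ Ω) (RG.RR Ω) z u v) : v = z * u := by
  have h1 := t.mul m.w m.ao
  have h2 := m.w.comm_of_cp t.ha t.hb t.cab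
  calc v = v * (u * u) := by rw [m.w.sq u t.ha, mul_one]
    _ = (v * u) * u := by group
    _ = z * u := by rw [← h2, h1]

end

section

variable {G : Type*} [Group G] [Finite G] {Ω : Set (Subgroup G)} {z a b x g u v c h : G} (m : TI2 Ω z a b)
  {A B L : Subgroup ↥(centralizer ({z} : Set G))} {Y : Type*} [Group Y] [Finite Y]
  {f : ↥(centralizer ({z} : Set G)) →* Y} (q : QM (OmB Ω z) f)

include m q

theorem f_z (hz : z ∈ centralizer ({z} : Set G)) : f ⟨z, hz⟩ = 1 := by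
  rw [q.ker]
  intro A hA k hk
  obtain ⟨u, hu, hc, rfl⟩ := m.eq_mu hA
  exact Subtype.ext (hc.2 z (m.w.mem z m.t.hz) k hk)

theorem f_tri (t : Tri (RG.ZZ Ω) (RG.RR Ω) z u v) : f ⟨v, m.memC t.hb t.czb⟩ = f ⟨u, m.memC t.ha t.cza⟩ := by
  have hz : z ∈ centralizer ({z} : Set G) := mem_centralizer_singleton_iff.2 rfl
  have e : (⟨v, m.memC t.hb t.czb⟩ : ↥(centralizer ({z} : Set G))) = ⟨z, hz⟩ * ⟨u, m.memC t.ha t.cza⟩ :=
    Subtype.ext (m.mulz t)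
  rw [e, map_mul, m.f_z q hz, one_mul]

theorem zz_fmu (hu : u ∈ RG.ZZ Ω) (hc : CP (RG.RR Ω) z u) : zz ((Mu Ω z u).map f) = f ⟨u, m.memC hu hc⟩ := by
  rw [q.zz_map (m.mu_mem hu hc), m.zz_mu hu hc]

theorem fib (hu : u ∈ RG.ZZ Ω) (hc : CP (RG.RR Ω) z u) (hv : v ∈ RG.ZZ Ω) (hc' : CP (RG.RR Ω) z v)
    (he : f ⟨u, m.memC hu hc⟩ = f ⟨v, m.memC hv hc'⟩) : v = u ∨ CP (RG.RR Ω) u v := by
  by_cases huv : v = u
  · exact Or.inl huv
  right
  rcases q.fib (m.mu_mem hu hc) (m.mu_mem hv hc') (by rw [m.zz_mu hu hc, m.zz_mu hv hc']; exact he) with h1 | h1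
  · exfalso
    have h2 := congrArg zz h1
    rw [m.zz_mu hu hc, m.zz_mu hv hc'] at h2
    exact huv (congrArg Subtype.val h2).symm
  · refine ⟨Ne.symm huv, fun k hk l hl => ?_⟩
    exact congrArg Subtype.val (h1 ⟨k, m.hle hc hk⟩ hk ⟨l, m.hle hc' hl⟩ hl)

/-- the members over `f u` -/
theorem fib_tri (t : Tri (RG.ZZ Ω) (RG.RR Ω) z u v) (hx : x ∈ RG.ZZ Ω) (hc : CP (RG.RR Ω) z x)
    (he : f ⟨u, m.memC t.ha t.cza⟩ = f ⟨x, m.memC hx hc⟩) : x = u ∨ x = v := by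
  rcases m.fib q t.ha t.cza hx hc he with h1 | h1
  · exact Or.inl h1
  · right
    have e1 := m.ao.three z t.hz u t.ha x hx t.cza hc h1
    have e2 := m.ao.three z t.hz u t.ha v t.hb t.cza t.czb t.cab
    exact mul_left_cancel (e1.trans e2.symm)

theorem inj_k (hu : u ∈ RG.ZZ Ω) (hc : CP (RG.RR Ω) z u) {k l : G} (hk : k ∈ RG.RR Ω u) (hl : l ∈ RG.RR Ω u)
    (he : f ⟨k, m.hle hc hk⟩ = f ⟨l, m.hle hc hl⟩) : k = l := by
  have h1 := q.inj (m.mu_mem hu hc) (k := ⟨k, m.hle hc hk⟩ * ⟨l, m.hle hc hl⟩⁻¹)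
    (mul_mem (show (⟨k, m.hle hc hk⟩ : ↥(centralizer ({z} : Set G))) ∈ Mu Ω z u from hk)
      (inv_mem (show (⟨l, m.hle hc hl⟩ : ↥(centralizer ({z} : Set G))) ∈ Mu Ω z u from hl)))
    (by rw [map_mul, map_inv, he, mul_inv_cancel])
  exact congrArg Subtype.val (mul_inv_eq_one.1 h1)

/-- **the world `W2` of the image** -/
theorem w2 (hs : Function.Surjective f) (hf : f.ker = CompR.NC (OmB Ω z)) : RTwo.W2 (img f (OmB Ω z)) where
  hyp := m.blk.hyp_img hs hf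
  card := m.blk.card_img hf
  one := m.blk.mone hf
  two := by
    rintro _ ⟨A, hA, rfl⟩
    obtain ⟨u, hu, hc, rfl⟩ := m.eq_mu hA
    obtain ⟨v, t⟩ := m.tri_of hu hc
    refine ⟨_, ⟨_, m.mu_mem t.hb t.czb, rfl⟩, fun h1 => ?_, ?_, ?_⟩
    · have h2 := q.map_inj (m.mu_mem t.hb t.czb) (m.mu_mem hu hc) h1.le
      have h3 := congrArg zz h2
      rw [m.zz_mu hu hc, m.zz_mu t.hb t.czb] at h3
      exact t.cab.1 (congrArg Subtype.val h3).symm
    · rw [m.zz_fmu q hu hc, m.zz_fmu q t.hb t.czb]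
      exact m.f_tri q t
    · rintro _ ⟨B, hB, rfl⟩ hBz
      obtain ⟨x, hx, hcx, rfl⟩ := m.eq_mu hB
      rw [m.zz_fmu q hu hc, m.zz_fmu q hx hcx] at hBz
      rcases m.fib_tri q t hx hcx hBz.symm with rfl | rfl
      · exact Or.inl rfl
      · exact Or.inr rfl

theorem oneCls : RTwo.OneCls (img f (OmB Ω z)) := by
  rintro _ ⟨A, hA, rfl⟩ _ ⟨B, hB, rfl⟩
  obtain ⟨u, hu, hc, rfl⟩ := m.eq_mu hA
  obtain ⟨v, hv, hc', rfl⟩ := m.eq_mu hB
  obtain ⟨g, hg, hgu⟩ := m.exists_orb hu hc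
  obtain ⟨h, hh, hhv⟩ := m.exists_orb hv hc'
  have hgz : h * g⁻¹ ∈ centralizer ({z} : Set G) := by
    refine mul_mem (mem_centralizer_singleton_iff.2 hh) (inv_mem (mem_centralizer_singleton_iff.2 hg))
  refine ⟨f ⟨h * g⁻¹, hgz⟩, ?_⟩
  rw [← cj_map]
  congr 1
  apply map_injective (centralizer ({z} : Set G)).subtype_injective
  rw [cj_map]
  show cj (h * g⁻¹) ((Mu Ω z u).map (centralizer {z}).subtype) = (Mu Ω z v).map (centralizer {z}).subtype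
  rw [Mu, Mu, map_subgroupOf_eq_of_le (m.hle hc), map_subgroupOf_eq_of_le (m.hle hc'), ← m.w.conjK u hu]
  congr 1
  rw [← hgu, ← hhv]
  group

theorem rot : RTwo.Rot (img f (OmB Ω z)) := by
  rintro _ ⟨A, hA, rfl⟩
  obtain ⟨u, hu, hc, rfl⟩ := m.eq_mu hA
  obtain ⟨v, t⟩ := m.tri_of hu hc
  have t' : Tri (RG.ZZ Ω) (RG.RR Ω) u z v := ⟨t.ha, t.hz, t.hb, cp_sym t.cza, t.cab, t.czb⟩
  obtain ⟨g, hgz, -, hgu, ho, hk⟩ := tri_rot m.w m.ao m.c3 t'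
  obtain ⟨n, h3, hnu, k, hk, hne⟩ := exists_three m.w hu hgu ho hk
  have hnz : g ^ n ∈ centralizer ({z} : Set G) := pow_mem (mem_centralizer_singleton_iff.2 hgz) n
  refine ⟨f ⟨g ^ n, hnz⟩, ?_, ?_, f ⟨k, m.hle hc hk⟩, ⟨_, hk, rfl⟩, fun h1 => ?_⟩
  · rw [mem_normalizer_iff_cj, ← cj_map]
    congr 1
    apply map_injective (centralizer ({z} : Set G)).subtype_injective
    rw [cj_map]
    show cj (g ^ n) ((Mu Ω z u).map (centralizer {z}).subtype) = (Mu Ω z u).map (centralizer {z}).subtype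
    rw [Mu, map_subgroupOf_eq_of_le (m.hle hc), ← m.w.conjK u hu, hnu, mul_inv_cancel_right]
  · have h4 : zpowers (⟨g ^ n, hnz⟩ : ↥(centralizer ({z} : Set G))) = (zpowers (g ^ n)).subgroupOf (centralizer {z}) := by
      apply map_injective (centralizer ({z} : Set G)).subtype_injective
      rw [MonoidHom.map_zpowers, map_subgroupOf_eq_of_le]
      · rfl
      · rw [zpowers_le]
        exact hnz
    have h5 : IsPGroup 3 (zpowers (⟨g ^ n, hnz⟩ : ↥(centralizer ({z} : Set G)))) := by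
      rw [h4]
      exact h3.comap_of_injective _ (centralizer {z}).subtype_injective
    rw [← MonoidHom.map_zpowers]
    exact h5.map f
  · apply hne
    have h2 := m.w.norm_mem hu hnu hk
    have h5 : g ^ n * k * (g ^ n)⁻¹ = k := by
      refine m.inj_k q hu hc h2 hk ?_
      have e : (⟨g ^ n * k * (g ^ n)⁻¹, m.hle hc h2⟩ : ↥(centralizer ({z} : Set G))) =
        ⟨g ^ n, hnz⟩ * ⟨k, m.hle hc hk⟩ * ⟨g ^ n, hnz⟩⁻¹ := rfl
      rw [e, map_mul, map_mul, map_inv, h1, mul_inv_cancel_right]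
    exact mul_inv_eq_iff_eq_mul.1 h5

/-- `X_{f a}` -/
theorem mem_cx (hcC : c ∈ centralizer ({z} : Set G)) (hca : Cen (RG.RR Ω) c a) (hcb : Cen (RG.RR Ω) c b) :
    f ⟨c, hcC⟩ ∈ RTwo.CX (img f (OmB Ω z)) (f ⟨a, m.memC m.t.ha m.t.cza⟩) := by
  rw [RTwo.mem_CX]
  rintro _ ⟨⟨A, hA, rfl⟩, hAz⟩ _ ⟨k, hk, rfl⟩
  obtain ⟨u, hu, hc, rfl⟩ := m.eq_mu hA
  rw [m.zz_fmu q hu hc] at hAz
  have h1 : c * (k : G) = k * c := by
    rcases m.fib_tri q m.t hu hc hAz.symm with rfl | rfl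
    · exact hca _ hk
    · exact hcb _ hk
  rw [← map_mul, ← map_mul]
  congr 1
  exact Subtype.ext h1

/-- **STEP 1** -/
theorem exists_c {s : Y}
    (hti : RTwo.TI (img f (OmB Ω z)) (f ⟨a, m.memC m.t.ha m.t.cza⟩) s) :
    ∃ c : G, c * c = z ∧ Cen (RG.RR Ω) c z ∧ Cen (RG.RR Ω) c a ∧ Cen (RG.RR Ω) c b := by
  have w := m.w
  have t := m.t
  obtain ⟨-, ⟨P, ⟨A, hA, rfl⟩, hs⟩, hne, -, hinn⟩ := hti
  obtain ⟨x, hx, hxc, rfl⟩ := m.eq_mu hA
  rw [m.zz_fmu q hx hxc] at hs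
  subst hs
  have hxa : x ≠ a := by
    rintro rfl
    exact hne rfl
  have hxb : x ≠ b := by
    rintro rfl
    exact hne (m.f_tri q t).symm
  have key : ∀ u (hu : u ∈ RG.ZZ Ω) (hc : CP (RG.RR Ω) z u), f ⟨u, m.memC hu hc⟩ = f ⟨a, m.memC t.ha t.cza⟩ →
      ∀ k ∈ RG.RR Ω u, x * k * x⁻¹ = k ∨ x * k * x⁻¹ = u * k := by
    intro u hu hc he k hk
    have hM : RTwo.Mem (img f (OmB Ω z)) (f ⟨a, m.memC t.ha t.cza⟩) ((Mu Ω z u).map f) :=
      ⟨⟨_, m.mu_mem hu hc, rfl⟩, by rw [m.zz_fmu q hu hc, he]⟩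
    have hin := hinn _ hM
    have hxC := m.memC hx hxc
    have hcj : cj (⟨x, hxC⟩ : ↥(centralizer ({z} : Set G))) (Mu Ω z u) = Mu Ω z u := by
      refine q.cj_eq (m.mu_mem hu hc) ?_
      intro y hy
      rw [mem_cj] at hy
      have h1 := hin _ hy
      have h2 : f ⟨x, hxC⟩ * ((f ⟨x, hxC⟩)⁻¹ * y * f ⟨x, hxC⟩) * (f ⟨x, hxC⟩)⁻¹ = y := by group
      rw [h2] at h1
      rcases h1 with h1 | h1
      · rw [h1]; exact hy
      · rw [h1]
        refine mul_mem ?_ hy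
        rw [← he]
        exact ⟨⟨u, m.memC hu hc⟩, w.mem u hu, rfl⟩
    have h3 : x * k * x⁻¹ ∈ RG.RR Ω u := by
      have h4 : (⟨x, hxC⟩ : ↥(centralizer ({z} : Set G))) * ⟨k, m.hle hc hk⟩ * ⟨x, hxC⟩⁻¹ ∈
          cj (⟨x, hxC⟩ : ↥(centralizer ({z} : Set G))) (Mu Ω z u) := conj_mem_cj hk
      rw [hcj] at h4
      exact h4
    have e : (⟨x * k * x⁻¹, m.hle hc h3⟩ : ↥(centralizer ({z} : Set G))) =
      ⟨x, hxC⟩ * ⟨k, m.hle hc hk⟩ * ⟨x, hxC⟩⁻¹ := rfl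
    rcases hin (f ⟨k, m.hle hc hk⟩) ⟨_, hk, rfl⟩ with h4 | h4
    · left
      refine m.inj_k q hu hc h3 hk ?_
      rw [e, map_mul, map_mul, map_inv, h4]
    · right
      refine m.inj_k q hu hc h3 (mul_mem (w.mem u hu) hk) ?_
      rw [e, map_mul, map_mul, map_inv, h4, ← he, ← map_mul]
      rfl
  have kA := key a t.ha t.cza rfl
  have kB := key b t.hb t.czb (m.f_tri q t)
  have nA : ¬ Cen (RG.RR Ω) x a := by
    intro h1
    have h2 := w.csymm t.ha hx hxa.symm h1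
    have e1 := m.ao.three z t.hz a t.ha x hx t.cza hxc h2
    have e2 := m.ao.three z t.hz a t.ha b t.hb t.cza t.czb t.cab
    exact hxb (mul_left_cancel (e1.trans e2.symm))
  have nB : ¬ Cen (RG.RR Ω) x b := by
    intro h1
    have h2 := w.csymm t.hb hx hxb.symm h1
    have e1 := m.ao.three z t.hz b t.hb x hx t.czb hxc h2
    have e2 := m.ao.three z t.hz b t.hb a t.ha t.czb t.cza (cp_sym t.cab)
    exact hxa (mul_left_cancel (e1.trans e2.symm))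
  obtain ⟨k0, hk0⟩ := exists_inn w t.ha hx nA kA
  obtain ⟨l0, hl0⟩ := exists_inn w t.hb hx nB kB
  exact exists_c_of w m.ao t hx hxc hk0 hl0

/-- **the end** -/
theorem false_of_c (one : ROne.OneCls (RG.ZZ Ω))
    (bx : ∀ x, x ∈ RTwo.CX (img f (OmB Ω z)) (f ⟨a, m.memC m.t.ha m.t.cza⟩) → x * x = 1)
    (hc : ∃ c : G, c * c = z ∧ Cen (RG.RR Ω) c z ∧ Cen (RG.RR Ω) c a ∧ Cen (RG.RR Ω) c b) : False := by
  have w := m.w
  have t := m.t
  obtain ⟨c, hcc, hcz, hca, hcb⟩ := hc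
  obtain ⟨h, h1, h2⟩ := tri_trans w m.ao one t
  have e1 := w.cen_conj t.hz h hcz
  have e2 := w.cen_conj t.ha h hca
  have e3 := w.cen_conj t.hb h hcb
  rw [h1] at e1
  have e4 : h * c * h⁻¹ * (h * c * h⁻¹) = b := by
    calc h * c * h⁻¹ * (h * c * h⁻¹) = h * (c * c) * h⁻¹ := by group
      _ = b := by rw [hcc, h1]
  have key : ∀ d : G, d * d = b → Cen (RG.RR Ω) d z → Cen (RG.RR Ω) d a → Cen (RG.RR Ω) d b → False := by
    intro d hdd hdz hda hdb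
    have hdC : d ∈ centralizer ({z} : Set G) := mem_centralizer_singleton_iff.2 (hdz z (w.mem z t.hz))
    have h3 := m.mem_cx q hdC hda hdb
    have h4 := bx _ h3
    rw [← map_mul] at h4
    have e : (⟨d, hdC⟩ * ⟨d, hdC⟩ : ↥(centralizer ({z} : Set G))) = ⟨b, m.memC t.hb t.czb⟩ := Subtype.ext hdd
    rw [e] at h4
    have h5 := q.no _ (m.mu_mem t.hb t.czb)
    rw [m.zz_mu t.hb t.czb] at h5
    exact h5 h4
  rcases h2 with ⟨h2, h3⟩ | ⟨h2, h3⟩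
  · rw [h2] at e2
    rw [h3] at e3
    exact key _ e4 e2 e3 e1
  · rw [h2] at e2
    rw [h3] at e3
    exact key _ e4 e3 e2 e1

end

end TI2

/-- an inner `SL(2,3)` over a member (literally `RTwo.IThree`) -/
def IThr {G : Type*} [Group G] (Om : Set (Subgroup G)) : Prop :=
  ∃ (z : G) (K J : Subgroup G), RTwo.Mem Om z K ∧ K ≤ J ∧ J ≤ sSup Om ∧ J ≤ centralizer ({z} : Set G) ∧
    (J.subgroupOf (centralizer ({z} : Set G))).IsSubnormal ∧ oddCore ↥J = ⊥ ∧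
    Nonempty (↥J ≃* Matrix.SpecialLinearGroup (Fin 2) (ZMod 3))

/-- the inputs of case (ii): `r = 2` for the section, and the lift of an inner `SL(2,3)` -/
structure TwoIn : Prop where
  cfa : ∀ (Y : Type u) [Group Y] [Finite Y] (F : Subgroup Y), FSimp F → 2 ∣ Nat.card F →
    ∀ Om : Set (Subgroup Y), Hyp Om → (∀ K ∈ Om, Nat.card K = 8) → ∀ K ∈ Om, ∀ L ∈ Om, K ≠ L → zz K = zz L → RTwo.CFA Y
  bx : ∀ (Y : Type u) [Group Y] [Finite Y] (X : Subgroup Y) (Om : Set (Subgroup Y)), RTwo.W2 Om → RTwo.OneCls Om →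
    RTwo.Rot Om → RTwo.CFA Y → Om.Nonempty → FSimp X → 2 ∣ Nat.card X → ¬ IThr Om →
    ∀ z, RTwo.InZ Om z → (∀ x, x ∈ RTwo.CX Om z → x * x = 1) ∧ RTwo.BTh Om z
  lift : ∀ (M Y : Type u) [Group M] [Finite M] [Group Y] [Finite Y] (Om : Set (Subgroup M)) (f : M →* Y), QM Om f →
    pPrimeCore 2 M = ⊥ → RTwo.W2 (img f Om) → IThr (img f Om) → ∃ K ∈ Om, IndDefs.Three K

/-- **(M3), case (ii)** -/
theorem TI2.false_of {G : Type u} [Group G] [Finite G] {Ω : Set (Subgroup G)} {z a b : G} (m : TI2 Ω z a b)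
    (one : ROne.OneCls (RG.ZZ Ω)) (hev : ∀ (G : Type u) [Group G] [Finite G], Comp.EvQ G) (i : TwoIn.{u}) : False := by
  have hN : (CompR.NC (OmB Ω z)).Normal := ⟨fun n hn g => CompR.NC_conj m.blk.wr hn g⟩
  obtain ⟨f, hf⟩ : ∃ f, f = QuotientGroup.mk' (CompR.NC (OmB Ω z)) := ⟨_, rfl⟩
  have hs : Function.Surjective f := by rw [hf]; exact QuotientGroup.mk'_surjective _
  have hk : f.ker = CompR.NC (OmB Ω z) := by rw [hf]; exact QuotientGroup.ker_mk' _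
  have qt := m.blk.qt hs hk
  have q := qt.qm hev
  obtain ⟨X, fs, -, h2⟩ := qt.fsimp hev
  have w2 := m.w2 q hs hk
  have t := m.t
  have hA : (Mu Ω z a).map f ∈ img f (OmB Ω z) := ⟨_, m.mu_mem t.ha t.cza, rfl⟩
  have hB : (Mu Ω z b).map f ∈ img f (OmB Ω z) := ⟨_, m.mu_mem t.hb t.czb, rfl⟩
  have hne : (Mu Ω z a).map f ≠ (Mu Ω z b).map f := by
    intro h1
    have h2 := q.map_inj (m.mu_mem t.ha t.cza) (m.mu_mem t.hb t.czb) h1.le
    have h3 := congrArg zz h2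
    rw [m.zz_mu t.ha t.cza, m.zz_mu t.hb t.czb] at h3
    exact t.cab.1 (congrArg Subtype.val h3)
  have hcfa : RTwo.CFA _ := i.cfa _ X fs h2 _ w2.hyp w2.card _ hA _ hB hne (by
    rw [m.zz_fmu q t.ha t.cza, m.zz_fmu q t.hb t.czb, m.f_tri q t])
  have h3 : ¬ IThr (img f (OmB Ω z)) := by
    intro h3
    obtain ⟨L, hL, hL3⟩ := i.lift _ _ _ f q m.core w2 h3
    exact m.no L hL.1 hL3
  have hin : RTwo.InZ (img f (OmB Ω z)) (f ⟨a, m.memC t.ha t.cza⟩) := ⟨_, hA, m.zz_fmu q t.ha t.cza⟩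
  obtain ⟨bx, s, s', hb⟩ := i.bx _ X _ w2 (m.oneCls q) (m.rot q) hcfa ⟨_, hA⟩ fs h2 h3 _ hin
  exact m.false_of_c q one bx (m.exists_c q hb.ts)

end Cfsg.Agent.Cit.Nil.Comp.AO
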