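import Cfsg.Agent.Cit.Nil.Comp.AO.TriI
import Cfsg.Agent.Cit.Nil.Comp.AO.TriII

/-!
# S1309, the node `r = 1`: (M3) and `AOStmt` (helper61)

* `MThreeStmt.of` : (M3), from the external inputs;
* `AOStmt.of_in` : the branch `AllOne` is impossible.
-/

set_option autoImplicit false
set_option linter.style.haveILetI false
set_option linter.unusedSectionVars false

namespace Cfsg.Agent.Cit.Nil.ROne

open Subgroup Cfsg Cfsg.Agent.Cit
open Cfsg.Agent.Cit.Nil.Comp (TP AllOne Tri)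
open Cfsg.Agent.Cit.Nil.Comp.AO (M2 AOIn TI1 TI2 TwoIn)
open IndDefs (SCW Three)

universe u

/-- **(M3)** -/
theorem MThreeStmt.of (e : AOIn.{u}) (i : TwoIn.{u}) : MThreeStmt.{u} := by
  intro G _ _ K s w tp n3 ao z a b t
  have h : RG.WR (cls K) := RG.WR.of_hyp s.t0.hyp s.t0.card
  have core : pPrimeCore 2 ↥(centralizer ({z} : Set G)) = ⊥ := w.oddCore_cent (w.w.ord t.hz)
  by_cases hy : ∃ g, g * z = z * g ∧ g * a * g⁻¹ = b
  · have no : ∀ L ∈ restr (cls K) (centralizer {z}), ¬ Three L :=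
      n3 (RG.RR (cls K) z) (w.w.two t.hz) z
        (subset_closure ⟨RG.RR (cls K) z, rr_mem h w.w t.hz, le_rfl, w.w.zz_K t.hz⟩) (w.w.ne z t.hz)
    exact TI2.false_of ⟨s.t0, w.w, ao, w.c3, core, t, hy, no⟩ w.one e.hev i
  · exact TI1.false_of ⟨w.w, ao, w.c3, w.one, core, t, hy⟩ e

/-- **`AOStmt`** -/
theorem AOStmt.of_in (e : AOIn.{u}) (n : N1In.{u}) (i : TwoIn.{u}) : AOStmt.{u} :=
  AOStmt.of_mthree e n (MThreeStmt.of e i)

end Cfsg.Agent.Cit.Nil.ROne
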