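import Cfsg.Agent.Cit.Nil.Comp.AO.MTwoG
import Cfsg.Agent.Cit.Nil.ROne.WorldN

/-!
# S1309 (6b), `r = 1`, COMP, AllOne: **(M2)** (helper61)

`WorldN.false_of_mtwo` : all C-pairs are ONE and there is no triple of pairwise C-pairs: contradiction.
-/

set_option autoImplicit false
set_option linter.style.haveILetI false
set_option linter.unusedSectionVars false

namespace Cfsg.Agent.Cit.Nil.ROne

open Subgroup Cfsg Cfsg.Agent.Cit
open Cfsg.Agent.Cit.Nil.Comp (TP AllOne)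
open Cfsg.Agent.Cit.Nil.Comp.AO (M2 AOIn)

universe u

namespace WorldN

variable {G : Type u} [Group G] [Finite G] {Z : Set G} {K : G → Subgroup G}

/-- every `z ∈ Z` has a C-partner -/
theorem exists_cp (w : WorldN Z K) {z : G} (hz : z ∈ Z) : ∃ a ∈ Z, CP K z a := by
  obtain ⟨S, z₀, hz₀, u₀, hu₀, hne, h1, h2⟩ := w.two
  have h3 : CP K z₀ u₀ := w.w.com hz₀ hu₀ S.isPGroup' h1 h2 hne
  obtain ⟨g, rfl⟩ := w.one z₀ hz₀ z hz
  refine ⟨g * u₀ * g⁻¹, w.w.conjZ u₀ hu₀ g, fun h => hne (mul_left_cancel (mul_right_cancel h)), ?_⟩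
  intro x hx y hy
  rw [w.w.conjK z₀ hz₀, mem_cj] at hx
  rw [w.w.conjK u₀ hu₀, mem_cj] at hy
  have h4 := h3.2 _ hx _ hy
  calc x * y = g * ((g⁻¹ * x * g) * (g⁻¹ * y * g)) * g⁻¹ := by group
    _ = g * ((g⁻¹ * y * g) * (g⁻¹ * x * g)) * g⁻¹ := by rw [h4]
    _ = y * x := by group

/-- the world `M2` -/
theorem m2 (w : WorldN Z K) (ao : AllOne Z K)
    (nt : ∀ z ∈ Z, ∀ a ∈ Z, ∀ b ∈ Z, CP K z a → CP K z b → ¬ CP K a b)
    (n3 : ∀ z ∈ Z, ∀ a ∈ Z, CP K z a → ¬ IndDefs.Three ((K a).subgroupOf (centralizer {z}))) : M2 Z K where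
  w := w.w
  ao := ao
  c3 := w.c3
  core _ hz := w.oddCore_cent (w.w.ord hz)
  nt := nt
  ex _ hz := w.exists_cp hz
  n3 := n3

/-- **(M2)** -/
theorem false_of_mtwo (w : WorldN Z K) (tp : TP Z K) (ao : AllOne Z K)
    (nt : ∀ z ∈ Z, ∀ a ∈ Z, ∀ b ∈ Z, CP K z a → CP K z b → ¬ CP K a b)
    (n3 : ∀ z ∈ Z, ∀ a ∈ Z, CP K z a → ¬ IndDefs.Three ((K a).subgroupOf (centralizer {z})))
    (e : AOIn.{u}) (gold : Cit.ROne.Gold ↥(generalizedFittingSubgroup G)) : False := by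
  haveI := w.simple
  exact w.false_of_frames tp (fun z hz => (w.m2 ao nt n3).exists_frame e hz) gold (e.bend _) (e.c75 _)

end WorldN

end Cfsg.Agent.Cit.Nil.ROne
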