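import Cfsg.Agent.Cit.Nil.Comp.AO.HRes
import Cfsg.Agent.Cit.Nil.Comp.AO.Conn
import Cfsg.Agent.Cit.Nil.Comp.Frame

/-!
# S1309 (6b), `r = 1`, COMP, AllOne, (M2): the end (helper61)

`M2 Z K` : all C-pairs are ONE, no three pairwise C-pairs. `M2.exists_frame` : every `z ∈ Z` lies in a frame.
-/

set_option autoImplicit false
set_option linter.style.haveILetI false
set_option linter.unusedSectionVars false

namespace Cfsg.Agent.Cit.Nil.Comp.AO

open Subgroup Cfsg Cfsg.Agent.Cit Cfsg.Agent.Cit.Nil.ROne Cfsg.Agent.Cit.Nil.AN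
open Cfsg.Agent.OddOrderLocal.NilParts

universe u

/-- the C-partners -/
def PB {G : Type*} [Group G] (Z : Set G) (K : G → Subgroup G) (z : G) : Set G := {u | u ∈ Z ∧ CP K z u}

/-- see the head of the file -/
structure M2 {G : Type*} [Group G] [Finite G] (Z : Set G) (K : G → Subgroup G) : Prop where
  w : W Z K
  ao : AllOne Z K
  c3 : ROne.C3 Z K
  core : ∀ z ∈ Z, pPrimeCore 2 ↥(centralizer ({z} : Set G)) = ⊥
  nt : ∀ z ∈ Z, ∀ a ∈ Z, ∀ b ∈ Z, CP K z a → CP K z b → ¬ CP K a b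
  ex : ∀ z ∈ Z, ∃ a ∈ Z, CP K z a
  n3 : ∀ z ∈ Z, ∀ a ∈ Z, CP K z a → ¬ IndDefs.Three ((K a).subgroupOf (centralizer {z}))

namespace M2

section

variable {G : Type*} [Group G] [Finite G] {Z : Set G} {K : G → Subgroup G} {z a b t x g u v : G} (m : M2 Z K)

include m

theorem sub : PB Z K z ⊆ Z := fun _ h => h.1

theorem le_c (hz : z ∈ Z) : ∀ u ∈ PB Z K z, K u ≤ centralizer {z} := fun _ hu k hk =>
  mem_centralizer_singleton_iff.2 (hu.2.2 z (m.w.mem z hz) k hk).symm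

theorem mem_c (hz : z ∈ Z) (hu : u ∈ PB Z K z) : u ∈ centralizer ({z} : Set G) :=
  m.le_c hz u hu (m.w.mem u hu.1)

theorem conj_pb (hu : u ∈ PB Z K z) (hz : z ∈ Z) (g : G) : g * u * g⁻¹ ∈ PB Z K (g * z * g⁻¹) := by
  refine ⟨m.w.conjZ u hu.1 g, fun h => hu.2.1 (mul_left_cancel (mul_right_cancel h)), ?_⟩
  intro x hx y hy
  rw [m.w.conjK z hz, mem_cj] at hx
  rw [m.w.conjK u hu.1, mem_cj] at hy
  have h1 := hu.2.2 _ hx _ hy
  calc x * y = g * ((g⁻¹ * x * g) * (g⁻¹ * y * g)) * g⁻¹ := by group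
    _ = g * ((g⁻¹ * y * g) * (g⁻¹ * x * g)) * g⁻¹ := by rw [h1]
    _ = y * x := by group

theorem conj_c (hz : z ∈ Z) : ∀ u ∈ PB Z K z, ∀ g ∈ centralizer ({z} : Set G), g * u * g⁻¹ ∈ PB Z K z := by
  intro u hu g hg
  have h1 := m.conj_pb hu hz g
  rwa [mem_centralizer_singleton_iff.1 hg, mul_inv_cancel_right] at h1

theorem symm (hz : z ∈ Z) (hu : u ∈ PB Z K z) : z ∈ PB Z K u := ⟨hz, hu.2.symm⟩

/-- the world in `C(z)` -/
theorem wz (hz : z ∈ Z) : W (Zr (centralizer {z}) (PB Z K z)) (Kr (centralizer {z}) K) :=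
  wr m.w m.sub (m.le_c hz) (m.conj_c hz)

theorem mem_of_chain (hz : z ∈ Z) (hu : u ∈ PB Z K z) (hv : v ∈ Cl Z K z u) : v ∈ PB Z K z := by
  have huO : u ∈ Om Z K z := om_of_cm m.w hz hu.1 hu.2.2
  have hzn := not_mem_of_not_nil m.w hz huO (m.ao.not_nil z hz u hu.1 hu.2)
  have hvO := cl_sub huO hv
  refine ⟨hvO.1, ?_⟩
  exact ⟨fun h => hzn (by rw [← h] at hv; exact hv), cm_of_om m.w hz hvO (fun h => hzn (by rw [h] at hv; exact hv))⟩

/-- `HW` for `C(z)` -/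
theorem hw (hz : z ∈ Z) : HW (Zr (centralizer {z}) (PB Z K z)) (Kr (centralizer {z}) K) where
  w := m.wz hz
  core := m.core z hz
  nc u hu v hv h := by
    have h1 := (cp_r (m.le_c hz) hu hv).1 h
    exact m.nt z hz u hu.1 v hv.1 hu.2 hv.2 h1
  conn := by
    rintro ⟨u, huC⟩ hu ⟨v, hvC⟩ hv
    have h1 : v ∈ Cl Z K z u := m.ao.cls z hz u hu.1 v hv.1 hu.2 hv.2
    have key : ∀ v, Relation.ReflTransGen (St Z K z) u v → ∀ hvC : v ∈ centralizer ({z} : Set G),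
        Relation.ReflTransGen (fun a b : ↥(centralizer ({z} : Set G)) => a ∈ Zr (centralizer {z}) (PB Z K z) ∧
          b ∈ Zr (centralizer {z}) (PB Z K z) ∧ ¬ IndDefs.Cm (Kr (centralizer {z}) K a) (Kr (centralizer {z}) K b))
          ⟨u, huC⟩ ⟨v, hvC⟩ := by
      intro v hv
      induction hv with
      | refl => exact fun _ => .refl
      | @tail b c h2 h3 ih =>
        intro hcC
        have hb := m.mem_of_chain hz hu h2
        have hc := m.mem_of_chain hz hu (h2.tail h3)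
        refine (ih (m.mem_c hz hb)).tail ⟨hb, hc, fun h4 => h3.2 ?_⟩
        intro k hk l hl
        exact congrArg Subtype.val (h4 ⟨k, m.le_c hz b hb hk⟩ hk ⟨l, m.le_c hz c hc hl⟩ hl)
    exact key v h1 hvC
  nn := by
    rintro ⟨u, huC⟩ hu h1
    exact m.ao.not_nil z hz u hu.1 hu.2 ⟨⟨u, huC⟩, h1, rfl⟩
  ne := by
    obtain ⟨a, ha, hc⟩ := m.ex z hz
    exact ⟨⟨a, m.mem_c hz ⟨ha, hc⟩⟩, ha, hc⟩

/-- Frattini in `C(a)` -/
theorem frat (hz : z ∈ Z) (ha : a ∈ PB Z K z) (hg : g * a = a * g) : ∃ g', g' * z = z * g' ∧ g' * a = a * g' ∧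
    ∀ k ∈ K a, g' * k * g'⁻¹ = g * k * g⁻¹ := by
  obtain ⟨X, hX⟩ : ∃ X : Subgroup G, X = closure {k | ∃ u ∈ PB Z K a, k ∈ K u} := ⟨_, rfl⟩
  have hle : ∀ u ∈ PB Z K a, K u ≤ X := fun u hu k hk => by rw [hX]; exact subset_closure ⟨u, hu, hk⟩
  have hXK : X ≤ centralizer (K a : Set G) := by
    rw [hX, closure_le]
    rintro k ⟨u, hu, hk⟩
    rw [SetLike.mem_coe, mem_centralizer_iff]
    exact fun l hl => hu.2.2 l hl k hk
  have hXa : ∀ x ∈ X, x ∈ centralizer ({a} : Set G) := fun x hx =>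
    mem_centralizer_singleton_iff.2 (mem_centralizer_iff.1 (hXK hx) a (m.w.mem a ha.1)).symm
  have hW : W (Zr X (PB Z K a)) (Kr X K) := wr m.w m.sub hle fun u hu g hg => m.conj_c ha.1 u hu g (hXa g hg)
  have hone := oneCls_of_nc hW fun u hu v hv h => m.nt a ha.1 u hu.1 v hv.1 hu.2 hv.2 ((cp_r hle hu hv).1 h)
  have hzB : z ∈ PB Z K a := m.symm hz ha
  have hgz : g * z * g⁻¹ ∈ PB Z K a := m.conj_c ha.1 z hzB g (mem_centralizer_singleton_iff.2 hg)
  obtain ⟨⟨x, hx⟩, h1⟩ := hone ⟨z, hle z hzB (m.w.mem z hz)⟩ hzB ⟨g * z * g⁻¹, hle _ hgz (m.w.mem _ hgz.1)⟩ hgz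
  have h2 : x * z * x⁻¹ = g * z * g⁻¹ := congrArg Subtype.val h1
  have hxK : ∀ k ∈ K a, k * x = x * k := fun k hk => mem_centralizer_iff.1 (hXK hx) k hk
  have hxi : ∀ k ∈ K a, x⁻¹ * k = k * x⁻¹ := fun k hk => by
    calc x⁻¹ * k = x⁻¹ * (k * x) * x⁻¹ := by group
      _ = k * x⁻¹ := by rw [hxK k hk]; group
  refine ⟨x⁻¹ * g, ?_, ?_, ?_⟩
  · calc x⁻¹ * g * z = x⁻¹ * (g * z * g⁻¹) * g := by group
      _ = x⁻¹ * (x * z * x⁻¹) * g := by rw [h2]
      _ = z * (x⁻¹ * g) := by group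
  · calc x⁻¹ * g * a = x⁻¹ * (a * g) := by rw [← hg]; group
      _ = (x⁻¹ * a) * g := by group
      _ = a * (x⁻¹ * g) := by rw [hxi a (m.w.mem a ha.1)]; group
  · intro k hk
    have h3 : g * k * g⁻¹ ∈ K a := m.w.norm_mem ha.1 hg hk
    calc x⁻¹ * g * k * (x⁻¹ * g)⁻¹ = (x⁻¹ * (g * k * g⁻¹)) * x := by group
      _ = g * k * g⁻¹ := by rw [hxi _ h3]; group

theorem c3z (hz : z ∈ Z) : ROne.C3 (Zr (centralizer {z}) (PB Z K z)) (Kr (centralizer {z}) K) := by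
  rintro ⟨a, haC⟩ ha ⟨y, hyC⟩ hy hyy
  obtain ⟨g, hg, h1, h2⟩ := m.c3 a ha.1 y hy (congrArg Subtype.val hyy)
  obtain ⟨g', h3, h4, h5⟩ := m.frat hz ha hg
  refine ⟨⟨g', mem_centralizer_singleton_iff.2 h3⟩, Subtype.ext h4, fun h => h1 ?_, fun h => h2 ?_⟩
  · rw [← h5 y hy]
    exact congrArg Subtype.val h
  · rw [← h5 y hy]
    exact congrArg Subtype.val h

/-- the products of C-pairs are not in `Z` -/
theorem not_mem_E (hz : z ∈ Z) (ha : a ∈ PB Z K z) : z * a ∉ Z := by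
  intro he
  have hza := m.w.comm_of_cp hz ha.1 ha.2
  have h1 : CP K z (z * a) := m.w.csymm hz he (fun h => m.w.ne a ha.1 (left_eq_mul.1 h)) fun k hk => by
    calc z * a * k = z * (a * k) := by group
      _ = z * (k * a) := by rw [ha.2.2 k hk a (m.w.mem a ha.1)]
      _ = (z * k) * a := by group
      _ = k * (z * a) := by rw [← m.w.cent hz hk]; group
  have h2 : CP K a (z * a) := m.w.csymm ha.1 he (fun h => m.w.ne z hz (right_eq_mul.1 h)) fun k hk => by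
    calc z * a * k = z * (a * k) := by group
      _ = z * (k * a) := by rw [← m.w.cent ha.1 hk]
      _ = (z * k) * a := by group
      _ = k * (z * a) := by rw [ha.2.2 z (m.w.mem z hz) k hk]; group
  exact m.nt z hz a ha.1 _ he ha.2 h1 h2

/-- `x ∈ Om(e)`, `e = z a` : `x e ∈ Z` -/
theorem om_E (hz : z ∈ Z) (ha : a ∈ PB Z K z) (hx : x ∈ Z) (hxe : Cen K (z * a) x) : x * (z * a) ∈ Z := by
  haveI : Fact (Nat.Prime 2) := ⟨Nat.prime_two⟩
  have hza := m.w.comm_of_cp hz ha.1 ha.2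
  obtain ⟨S, hS1, hS2⟩ := m.w.exists_sylow_of_cp hz ha.1 ha.2
  have h1 : IsPGroup 2 (K z ⊔ K a : Subgroup G) := S.isPGroup'.to_le (sup_le hS1.2 hS2.2)
  have h2 : (K z ⊔ K a : Subgroup G) ≤ centralizer {z * a} := by
    refine sup_le (fun k hk => ?_) fun k hk => ?_
    · rw [mem_centralizer_singleton_iff]
      calc k * (z * a) = k * z * a := by group
        _ = z * (k * a) := by rw [m.w.cent hz hk]; group
        _ = z * a * k := by rw [ha.2.2 k hk a (m.w.mem a ha.1)]; group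
    · rw [mem_centralizer_singleton_iff]
      calc k * (z * a) = k * z * a := by group
        _ = z * (k * a) := by rw [← ha.2.2 z (m.w.mem z hz) k hk]; group
        _ = z * a * k := by rw [m.w.cent ha.1 hk]; group
  have h3 : K x ≤ centralizer {z * a} := fun k hk => mem_centralizer_singleton_iff.2 (hxe k hk).symm
  obtain ⟨R, hR, hR1⟩ := LB.exists_syl_ge h1 h2
  obtain ⟨P, hP, hP1⟩ := LB.exists_syl_ge (m.w.two hx) h3
  obtain ⟨n, hn, h4⟩ := hR.exists_conj hP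
  have hne := mem_centralizer_singleton_iff.1 hn
  have hzP : K (n * z * n⁻¹) ≤ P := by
    rw [m.w.conjK z hz, ← h4]
    exact cj_mono n (le_sup_left.trans hR1)
  have haP : K (n * a * n⁻¹) ≤ P := by
    rw [m.w.conjK a ha.1, ← h4]
    exact cj_mono n (le_sup_right.trans hR1)
  have e1 : n * z * n⁻¹ * (n * a * n⁻¹) = z * a := by
    calc n * z * n⁻¹ * (n * a * n⁻¹) = n * (z * a) * n⁻¹ := by group
      _ = z * a := by rw [hne, mul_inv_cancel_right]
  have hz' := m.w.conjZ z hz n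
  have ha' := m.w.conjZ a ha.1 n
  by_cases h5 : x = n * z * n⁻¹
  · rw [← e1, h5, ← mul_assoc, m.w.sq _ hz', one_mul]
    exact ha'
  by_cases h6 : x = n * a * n⁻¹
  · have e2 : n * z * n⁻¹ * (n * a * n⁻¹) = n * a * n⁻¹ * (n * z * n⁻¹) := by
      calc n * z * n⁻¹ * (n * a * n⁻¹) = n * (z * a) * n⁻¹ := by group
        _ = n * (a * z) * n⁻¹ := by rw [hza]
        _ = _ := by group
    rw [← e1, e2, h6, ← mul_assoc, m.w.sq _ ha', one_mul]
    exact hz'
  exfalso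
  refine m.nt x hx _ hz' _ ha' (m.w.com hx hz' hP.2.1 hP1 hzP h5) (m.w.com hx ha' hP.2.1 hP1 haP h6) ?_
  have h7 := m.conj_pb ha hz n
  exact h7.2

end

section

variable {G : Type u} [Group G] [Finite G] {Z : Set G} {K : G → Subgroup G} {z a b t x g u v : G} (m : M2 Z K)
  (e : AOIn.{u})

include m e

/-- **(alt)** -/
theorem alt (hz : z ∈ Z) (ha : a ∈ PB Z K z) (ht : t ∈ PB Z K z) (hc : t * a = a * t) :
    (∀ v ∈ PB Z K a, Cen K t v) ∨ ∀ v ∈ PB Z K a, Cen K (t * z) v := by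
  have hzB := m.symm hz ha
  have hle := m.le_c ha.1
  have htC : t ∈ centralizer ({a} : Set G) := mem_centralizer_singleton_iff.2 hc
  have hzC : z ∈ centralizer ({a} : Set G) := m.mem_c ha.1 hzB
  have h1 : Cen (Kr (centralizer {a}) K) ⟨t, htC⟩ ⟨z, hzC⟩ := (cen_r hle (u := ⟨z, hzC⟩) hzB).2 fun k hk =>
    (ht.2.2 k hk t (m.w.mem t ht.1)).symm
  rcases (m.hw ha.1).r2 e (a := ⟨z, hzC⟩) hzB h1 (Subtype.ext (m.w.sq t ht.1)) with h2 | h2
  · left
    intro v hv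
    exact (cen_r hle (u := ⟨v, m.mem_c ha.1 hv⟩) hv).1 (h2 ⟨v, m.mem_c ha.1 hv⟩ hv)
  · right
    intro v hv
    exact (cen_r hle (u := ⟨v, m.mem_c ha.1 hv⟩) hv).1 (h2 ⟨v, m.mem_c ha.1 hv⟩ hv)

/-- (R1) in `G` -/
theorem r1 (hz : z ∈ Z) (ha : a ∈ PB Z K z) : ∃ t ∈ PB Z K z, ∃ t' ∈ PB Z K z, t ≠ a ∧ t' ≠ a ∧ t * a = a * t ∧
    t' * a = a * t' ∧ t * t' = t' * t ∧ t' ≠ t ∧ t' ≠ a * t := by
  have haC := m.mem_c hz ha
  have h0 : ¬ IndDefs.Three (Kr (centralizer {z}) K ⟨a, haC⟩) := m.n3 z hz a ha.1 ha.2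
  have h1 : (⟨a, haC⟩ : ↥(centralizer ({z} : Set G))) ∈ Zr (centralizer {z}) (PB Z K z) := ha
  have h2 := (m.hw hz).r1 (m.c3z hz) e h1 h0
  obtain ⟨t, ht, t', ht', n1, n2, c1, c2, c3, n3, n4⟩ := h2
  refine ⟨t, ht, t', ht', ?_, ?_, ?_, ?_, ?_, ?_, ?_⟩
  · exact fun h => n1 (Subtype.ext h)
  · exact fun h => n2 (Subtype.ext h)
  · exact congrArg Subtype.val c1
  · exact congrArg Subtype.val c2
  · exact congrArg Subtype.val c3
  · exact fun h => n3 (Subtype.ext h)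
  · exact fun h => n4 (Subtype.ext h)

/-- **(exi)** -/
theorem exi (hz : z ∈ Z) (ha : a ∈ PB Z K z) : ∃ t ∈ PB Z K z, t ≠ a ∧ t * a = a * t ∧ ∀ v ∈ PB Z K a, Cen K t v := by
  obtain ⟨t, ht, t', ht', n1', n2', c1', c2', c3', n3', n4'⟩ := m.r1 e hz ha
  rcases m.alt e hz ha ht c1' with h1 | h1
  · exact ⟨t, ht, n1', c1', h1⟩
  rcases m.alt e hz ha ht' c2' with h2 | h2
  · exact ⟨t', ht', n2', c2', h2⟩
  have htz : t * z = z * t := (m.w.comm_of_cp hz ht.1 ht.2).symm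
  have htz' : t' * z = z * t' := (m.w.comm_of_cp hz ht'.1 ht'.2).symm
  have hmem : t * t' ∈ Z := m.w.mul_mem_of_np ht.1 ht'.1 ⟨n3'.symm, c3', m.nt z hz t ht.1 t' ht'.1 ht.2 ht'.2⟩
  have hcen : Cen K (t * t') z := fun k hk => by
    calc t * t' * k = t * (t' * k) := by group
      _ = t * (k * t') := by rw [ht'.2.2 k hk t' (m.w.mem t' ht'.1)]
      _ = (t * k) * t' := by group
      _ = k * (t * t') := by rw [← ht.2.2 k hk t (m.w.mem t ht.1)]; group
  refine ⟨t * t', ⟨hmem, m.w.csymm hz hmem ?_ hcen⟩, ?_, ?_, ?_⟩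
  · -- `z ≠ t t'`
    intro h
    apply m.not_mem_E hz ht
    have : z * t = t' := by
      calc z * t = t * z := htz.symm
        _ = t * (t * t') := by rw [← h]
        _ = (t * t) * t' := by group
        _ = t' := by rw [m.w.sq t ht.1, one_mul]
    rw [this]
    exact ht'.1
  · intro h
    apply n4'
    calc t' = (t * t) * t' := by rw [m.w.sq t ht.1, one_mul]
      _ = t * (t * t') := by group
      _ = t * a := by rw [h]
      _ = a * t := c1'
  · calc t * t' * a = t * (t' * a) := by group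
      _ = (t * a) * t' := by rw [c2']; group
      _ = a * (t * t') := by rw [c1']; group
  · intro v hv k hk
    have e1 : t * t' = (t * z) * (t' * z) := by
      calc t * t' = t * (z * z) * t' := by rw [m.w.sq z hz, mul_one]
        _ = (t * z) * (z * t') := by group
        _ = (t * z) * (t' * z) := by rw [htz']
    rw [e1]
    calc t * z * (t' * z) * k = t * z * ((t' * z) * k) := by group
      _ = (t * z * k) * (t' * z) := by rw [h2 v hv k hk]; group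
      _ = k * (t * z * (t' * z)) := by rw [h1 v hv k hk]; group

/-- **(all)** : commuting elements of `B(z)` -/
theorem all (hz : z ∈ Z) (ha : a ∈ PB Z K z) (ht : t ∈ PB Z K z) (hne : t ≠ a) (hc : t * a = a * t) :
    ∀ v ∈ PB Z K a, Cen K t v := by
  rcases m.alt e hz ha ht hc with h1 | h1
  · exact h1
  exfalso
  have hzB := m.symm hz ha
  obtain ⟨s, hs, hsz, hsc, hsv⟩ := m.exi e ha.1 hzB
  -- `s ∈ B(a)`, `s ≠ z`, `s z = z s`, `s` centralises the members over `B(z)`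
  have htz : t * z = z * t := (m.w.comm_of_cp hz ht.1 ht.2).symm
  have h2 : Cen K (t * z) s := h1 s hs
  rw [htz] at h2
  have h3 := m.om_E hz ht hs.1 h2
  have h4 : s * z ∈ Z := m.w.mul_mem_of_np hs.1 hz ⟨hsz, hsc, m.nt a ha.1 s hs.1 z hz hs.2 hzB.2⟩
  have h5 : Cen K (s * z) t := fun k hk => by
    calc s * z * k = s * (z * k) := by group
      _ = (s * k) * z := by rw [ht.2.2 z (m.w.mem z hz) k hk]; group
      _ = k * (s * z) := by rw [hsv t ht k hk]; group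
  have h6 : t ≠ s * z := by
    intro h
    apply m.not_mem_E hz ht
    have : z * t = s := by
      rw [← htz, h, mul_assoc, m.w.sq z hz, mul_one]
    rw [this]
    exact hs.1
  have h7 : s * z ∈ PB Z K t := ⟨h4, m.w.csymm ht.1 h4 h6 h5⟩
  apply m.not_mem_E ht.1 h7
  have e1 : t * (s * z) = s * (z * t) := by
    have h8 := m.w.comm_of_cp ht.1 h7.1 h7.2
    rw [h8, mul_assoc]
  rw [e1]
  exact h3

theorem pb_sub (hz : z ∈ Z) (ha : a ∈ PB Z K z) (ht : t ∈ PB Z K z) (hne : t ≠ a) (hc : t * a = a * t) :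
    PB Z K a ⊆ PB Z K t := by
  intro v hv
  have h1 := m.all e hz ha ht hne hc v hv
  have hvt : v ≠ t := by
    rintro rfl
    exact m.nt z hz a ha.1 v ht.1 ha.2 ht.2 hv.2
  exact ⟨hv.1, (m.w.csymm hv.1 ht.1 hvt h1).symm⟩

theorem pb_eq (hz : z ∈ Z) (ha : a ∈ PB Z K z) (hb : b ∈ PB Z K z) : PB Z K b = PB Z K a := by
  have hcon : ConnStmt.{u} := fun G _ _ Z K D x hB h75 => x.connected hB h75
  have h1 := (m.hw hz).r3 (m.c3z hz) e hcon ⟨a, m.mem_c hz ha⟩ ha ⟨b, m.mem_c hz hb⟩ hb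
  have key : ∀ y : ↥(centralizer ({z} : Set G)), Relation.ReflTransGen (fun a b : ↥(centralizer ({z} : Set G)) =>
      a ∈ Zr (centralizer {z}) (PB Z K z) ∧ b ∈ Zr (centralizer {z}) (PB Z K z) ∧ a * b = b * a)
      ⟨a, m.mem_c hz ha⟩ y → PB Z K (y : G) = PB Z K a := by
    intro y hy
    induction hy with
    | refl => rfl
    | @tail c d _ h3 ih =>
      obtain ⟨hc, hd, hcd⟩ := h3
      rw [← ih]
      have hcd' : (c : G) * d = d * c := congrArg Subtype.val hcd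
      by_cases hne : (c : G) = d
      · rw [hne]
      · exact le_antisymm (m.pb_sub e hz hd hc hne hcd') (m.pb_sub e hz hc hd (Ne.symm hne) hcd'.symm)
  exact key _ h1

/-- **the frame** -/
theorem exists_frame (hz : z ∈ Z) : ∃ F, Frm Z K F ∧ ∃ A ∈ F, z ∈ A := by
  obtain ⟨a, ha, hza⟩ := m.ex z hz
  have haB : a ∈ PB Z K z := ⟨ha, hza⟩
  have hzB : z ∈ PB Z K a := m.symm hz haB
  have k1 : ∀ x ∈ PB Z K z, PB Z K x = PB Z K a := fun x hx => m.pb_eq e hz haB hx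
  have k2 : ∀ x ∈ PB Z K a, PB Z K x = PB Z K z := fun x hx => m.pb_eq e ha hzB hx
  have hne : PB Z K z ≠ PB Z K a := by
    intro h
    have h1 : a ∈ PB Z K a := by rw [← h]; exact haB
    exact h1.2.1 rfl
  have hnn : ∀ x ∈ Z, NN Z K x = {PB Z K x} := by
    intro x hx
    obtain ⟨y, hy, hxy⟩ := m.ex x hx
    have hcl : ∀ u ∈ PB Z K x, Cl Z K x u = PB Z K x := by
      intro u hu
      ext v
      exact ⟨fun hv => m.mem_of_chain hx hu hv, fun hv => m.ao.cls x hx u hu.1 v hv.1 hu.2 hv.2⟩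
    ext A
    rw [Set.mem_singleton_iff]
    constructor
    · rintro ⟨u, hu, hun, rfl⟩
      have hux : u ≠ x := by
        rintro rfl
        exact hun (mem_oP_self m.w hx)
      have hc := cm_of_om m.w hx hu hux
      exact hcl u ⟨hu.1, hux.symm, hc⟩
    · rintro rfl
      exact ⟨y, om_of_cm m.w hx hy hxy.2, m.ao.not_nil x hx y hy hxy, (hcl y ⟨hy, hxy⟩).symm⟩
  refine ⟨{PB Z K z, PB Z K a}, ⟨⟨_, Or.inl rfl, _, Or.inr rfl, hne⟩, ?_, ?_, ?_, ?_⟩, PB Z K a, Or.inr rfl, hzB⟩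
  · rintro A (rfl | rfl)
    · exact m.sub
    · exact m.sub
  · rintro A (rfl | rfl)
    · exact ⟨a, haB⟩
    · exact ⟨z, hzB⟩
  · rintro A (rfl | rfl) B (rfl | rfl) hAB x hx y hy
    · exact absurd rfl hAB
    · have h1 : y ∈ PB Z K x := by rw [k1 x hx]; exact hy
      exact h1.2.2
    · have h1 : y ∈ PB Z K x := by rw [k2 x hx]; exact hy
      exact h1.2.2
    · exact absurd rfl hAB
  · rintro A (rfl | rfl) x hx
    · rw [hnn x hx.1, k1 x hx]
      ext B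
      simp only [Set.mem_singleton_iff, Set.mem_sdiff, Set.mem_insert_iff]
      constructor
      · rintro rfl
        exact ⟨Or.inr rfl, hne.symm⟩
      · rintro ⟨h1 | h1, h2⟩
        · exact absurd h1 h2
        · exact h1
    · rw [hnn x hx.1, k2 x hx]
      ext B
      simp only [Set.mem_singleton_iff, Set.mem_sdiff, Set.mem_insert_iff]
      constructor
      · rintro rfl
        exact ⟨Or.inl rfl, hne⟩
      · rintro ⟨h1 | h1, h2⟩
        · exact h1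
        · exact absurd h1 h2

end

end M2

end Cfsg.Agent.Cit.Nil.Comp.AO
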