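import Cfsg.Agent.Cit.Nil.Comp.AO.Defs
import Cfsg.Agent.Cit.Nil.FOne
import Cfsg.Agent.Cit.Nil.LOne
import Cfsg.Agent.Cit.QuoCen

/-!
# S1309 (6b), `r = 1`, COMP, AllOne, (M2): quotients, subgroups, `F = 1` (helper61)

* `f1_of` : `F = 1` for a family of members of order 8 without C-pairs in a group with a simple normal subgroup `D`
  with trivial centraliser;
* `W.quot` : the image family; `W.restr` : the family in a subgroup.
-/

set_option autoImplicit false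
set_option linter.style.haveILetI false
set_option linter.unusedSectionVars false

namespace Cfsg.Agent.Cit.Nil.Comp.AO

open Subgroup Cfsg Cfsg.Agent.Cit Cfsg.Agent.Cit.Nil.ROne

section

variable {G : Type*} [Group G] {Z : Set G} {K : G → Subgroup G} {z t u v b : G} {D : Subgroup G}

theorem le_of_relIndex [Finite G] {S P : Subgroup G} (hP : IsPGroup 2 P) (h : ¬ 2 ∣ S.relIndex P) : P ≤ S := by
  haveI : Fact (Nat.Prime 2) := ⟨Nat.prime_two⟩
  obtain ⟨n, hn⟩ := hP.index (S.subgroupOf P)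
  rw [relIndex, hn] at h
  rw [← relIndex_eq_one, relIndex, hn]
  rcases n with _ | n
  · rfl
  · exact absurd (dvd_pow_self 2 (by omega)) h

/-- `|Om(S)| = 1` -/
theorem one_of [Finite G] (w : W Z K) (nc : ∀ z ∈ Z, ∀ u ∈ Z, ¬ CP K z u) : Cit.One (K '' Z) where
  hyp := w.hyp
  one := by
    rintro S hS _ ⟨⟨z, hz, rfl⟩, h1⟩ _ ⟨⟨u, hu, rfl⟩, h2⟩
    by_contra hne
    have h3 := le_of_relIndex (w.two hz) h1
    have h4 := le_of_relIndex (w.two hu) h2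
    exact nc z hz u hu (w.com hz hu hS h3 h4 (fun e => hne (by rw [e])))

theorem nilOm_of [Finite G] (w : W Z K) : NilOm (K '' Z) := by
  rintro _ ⟨z, hz, rfl⟩ Q hQ
  haveI : Fact (Nat.Prime 2) := ⟨Nat.prime_two⟩
  exact (le_of_relIndex (w.two hz) hQ.2.2).trans le_sup_right

theorem perp_of [Finite G] (w : W Z K) (hz : z ∈ Z) (hb : Cen K b z) : OneF.Perp b (K z) :=
  ⟨K z, ⟨le_rfl, w.two hz, by rw [relIndex_self]; omega⟩, hb⟩

/-- **`F = 1`** -/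
theorem f1_of [Finite G] (w : W Z K) (nc : ∀ z ∈ Z, ∀ u ∈ Z, ¬ CP K z u) (f : FSimp D) (hD : ∀ z ∈ Z, z ∈ D)
    (h71 : oddCore G = ⊥ → OneF.H1171 G) (h73 : oddCore G = ⊥ → OneF.H1173 G) (hz : z ∈ Z) (ht : t ∈ Z)
    (hne : z ≠ t) (hc : z * t = t * z) (hb : IsPGroup 2 (zpowers b)) (h1 : Cen K b z) (h2 : Cen K b t) : b = 1 := by
  haveI : Fact (Nat.Prime 2) := ⟨Nat.prime_two⟩
  have hle : ∀ N : Subgroup G, N.Normal → N ≠ ⊥ → D ≤ N := fun N hN h3 =>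
    f.le (fun g _ n hn => hN.conj_mem n hn g) h3
  have hO : oddCore G = ⊥ := by
    by_contra h3
    have h4 := hle (oddCore G) (Lib.Cores.pPrimeCore_normal 2) h3
    have h5 : 2 ∣ Nat.card D := by
      rw [← w.ord hz, ← Subgroup.orderOf_mk z (hD z hz)]
      exact orderOf_dvd_natCard _
    have h6 := h5.trans (card_dvd_of_le h4)
    exact (Nat.Prime.coprime_iff_not_dvd Nat.prime_two).1 (Lib.Cores.pPrimeCore_coprime 2).symm h6
  have hone := one_of w nc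
  refine OneF.eq_one_of_WW_nil hone (Nil.l1_nil hone (nilOm_of w)) (h73 hO) (h71 hO) hO ?_ hb ?_
  · intro N hN h3
    rw [eq_bot_iff, ← f.cen]
    exact centralizer_le (hle N hN h3)
  · refine ⟨K z, ⟨z, hz, rfl⟩, K t, ⟨t, ht, rfl⟩, fun e => hne (w.K_inj hz ht e), ?_, perp_of w hz h1, perp_of w ht h2⟩
    rw [w.zz_K hz, w.zz_K ht]
    exact hc

end

/-! ### Quotients -/

section quot

variable {H Y : Type*} [Group H] [Group Y] {φ : H →* Y} {Z : Set H} {K : H → Subgroup H} {u v x k : H}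

open Classical in
/-- the image family -/
noncomputable def Kq (φ : H →* Y) (Z : Set H) (K : H → Subgroup H) (y : Y) : Subgroup Y :=
  if h : ∃ u ∈ Z, φ u = y then (K h.choose).map φ else ⊥

/-- a homomorphism injective on the members -/
structure QH (φ : H →* Y) (Z : Set H) (K : H → Subgroup H) : Prop where
  w : W Z K
  surj : Function.Surjective φ
  inj : ∀ u ∈ Z, ∀ k ∈ K u, φ k = 1 → k = 1
  uq : ∀ u ∈ Z, ∀ v ∈ Z, φ u = φ v → u = v

namespace QH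

variable (q : QH φ Z K)

include q

theorem Kq_eq (hu : u ∈ Z) : Kq φ Z K (φ u) = (K u).map φ := by
  have h : ∃ v ∈ Z, φ v = φ u := ⟨u, hu, rfl⟩
  rw [Kq, dif_pos h]
  have h1 := h.choose_spec
  rw [q.uq _ h1.1 u hu h1.2]

theorem inf_ker (hu : u ∈ Z) : K u ⊓ φ.ker = ⊥ := by
  rw [eq_bot_iff]
  rintro k ⟨hk, hk'⟩
  exact q.inj u hu k hk hk'

/-- the image family -/
theorem wq : W (φ '' Z) (Kq φ Z K) where
  sq := by
    rintro _ ⟨u, hu, rfl⟩
    rw [← map_mul, q.w.sq u hu, map_one]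
  ne := by
    rintro _ ⟨u, hu, rfl⟩ h1
    exact q.w.ne u hu (q.inj u hu u (q.w.mem u hu) h1)
  mem := by
    rintro _ ⟨u, hu, rfl⟩
    rw [q.Kq_eq hu]
    exact ⟨u, q.w.mem u hu, rfl⟩
  conjZ := by
    rintro _ ⟨u, hu, rfl⟩ g
    obtain ⟨x, rfl⟩ := q.surj g
    exact ⟨x * u * x⁻¹, q.w.conjZ u hu x, by rw [map_mul, map_mul, map_inv]⟩
  conjK := by
    rintro _ ⟨u, hu, rfl⟩ g
    obtain ⟨x, rfl⟩ := q.surj g
    have e : φ x * φ u * (φ x)⁻¹ = φ (x * u * x⁻¹) := by rw [map_mul, map_mul, map_inv]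
    rw [e, q.Kq_eq (q.w.conjZ u hu x), q.Kq_eq hu, q.w.conjK u hu, cj_map]
  q8 := by
    rintro _ ⟨u, hu, rfl⟩
    obtain ⟨e⟩ := q.w.q8 u hu
    rw [q.Kq_eq hu]
    exact ⟨(QuoCen.equivMap (q.inf_ker hu)).symm.trans e⟩

theorem comm (hv : v ∈ Z) (h1 : φ x * φ v = φ v * φ x) : x * v = v * x := by
  have h2 : φ (x * v * x⁻¹) = φ v := by
    rw [map_mul, map_mul, map_inv, h1, mul_inv_cancel_right]
  exact mul_inv_eq_iff_eq_mul.1 (q.uq _ (q.w.conjZ v hv x) v hv h2)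

theorem cen (hu : u ∈ Z) (h1 : Cen (Kq φ Z K) (φ x) (φ u)) : Cen K x u := by
  have hxu : x * u = u * x := q.comm hu (h1 _ ((q.wq).mem _ ⟨u, hu, rfl⟩))
  intro k hk
  have h2 : φ x * φ k = φ k * φ x := h1 _ (by rw [q.Kq_eq hu]; exact ⟨k, hk, rfl⟩)
  have h3 : x * k * x⁻¹ * k⁻¹ ∈ K u := mul_mem (q.w.norm_mem hu hxu hk) (inv_mem hk)
  have h4 := q.inj u hu _ h3 (by
    rw [map_mul, map_mul, map_mul, map_inv, map_inv, h2, mul_inv_cancel_right, mul_inv_cancel])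
  rw [mul_inv_eq_one] at h4
  exact mul_inv_eq_iff_eq_mul.1 h4

theorem cen' (hu : u ∈ Z) (h1 : Cen K x u) : Cen (Kq φ Z K) (φ x) (φ u) := by
  intro k hk
  rw [q.Kq_eq hu] at hk
  obtain ⟨k, hk, rfl⟩ := hk
  rw [← map_mul, h1 k hk, map_mul]

/-- no C-pairs in the image -/
theorem nc (h : ∀ u ∈ Z, ∀ v ∈ Z, ¬ CP K u v) : ∀ u ∈ φ '' Z, ∀ v ∈ φ '' Z, ¬ CP (Kq φ Z K) u v := by
  rintro _ ⟨u, hu, rfl⟩ _ ⟨v, hv, rfl⟩ ⟨hne, hc⟩
  apply h u hu v hv
  refine q.w.csymm hu hv (fun e => hne (by rw [e])) (q.cen hu ?_)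
  intro k hk
  exact (hc k hk _ (q.wq.mem _ ⟨v, hv, rfl⟩)).symm

end QH

end quot

/-! ### Subgroups -/

section restr

variable {G : Type*} [Group G] {Z : Set G} {K : G → Subgroup G} {H : Subgroup G} {A : Set G}

/-- the elements of `A` in `H` -/
def Zr (H : Subgroup G) (A : Set G) : Set H := {u | (u : G) ∈ A}

/-- the members in `H` -/
def Kr (H : Subgroup G) (K : G → Subgroup G) (u : H) : Subgroup H := (K u).subgroupOf H

theorem mem_Kr {u k : H} : k ∈ Kr H K u ↔ (k : G) ∈ K u := Iff.rfl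

theorem wr (w : W Z K) (hA : A ⊆ Z) (hle : ∀ u ∈ A, K u ≤ H) (hinv : ∀ u ∈ A, ∀ g ∈ H, g * u * g⁻¹ ∈ A) :
    W (Zr H A) (Kr H K) where
  sq u hu := Subtype.ext (w.sq u (hA hu))
  ne u hu h := w.ne u (hA hu) (congrArg Subtype.val h)
  mem u hu := w.mem u (hA hu)
  conjZ u hu g := hinv u hu g g.2
  conjK u hu g := by
    ext x
    rw [mem_Kr, mem_cj, mem_Kr]
    have e : ((g * u * g⁻¹ : H) : G) = g * u * (g : G)⁻¹ := rfl
    rw [e, w.conjK u (hA hu), mem_cj]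
    rfl
  q8 u hu := by
    obtain ⟨e⟩ := w.q8 u (hA hu)
    exact ⟨(subgroupOfEquivOfLe (hle u hu)).trans e⟩

theorem cen_r (hle : ∀ u ∈ A, K u ≤ H) {x u : H} (hu : u ∈ Zr H A) : Cen (Kr H K) x u ↔ Cen K (x : G) (u : G) := by
  constructor
  · intro h k hk
    exact congrArg Subtype.val (h ⟨k, hle u hu hk⟩ hk)
  · intro h k hk
    exact Subtype.ext (h k hk)

theorem cp_r (hle : ∀ u ∈ A, K u ≤ H) {u v : H} (hu : u ∈ Zr H A) (hv : v ∈ Zr H A) :
    CP (Kr H K) u v ↔ CP K (u : G) (v : G) := by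
  constructor
  · rintro ⟨h1, h2⟩
    exact ⟨fun h => h1 (Subtype.ext h), fun a ha b hb =>
      congrArg Subtype.val (h2 ⟨a, hle u hu ha⟩ ha ⟨b, hle v hv hb⟩ hb)⟩
  · rintro ⟨h1, h2⟩
    exact ⟨fun h => h1 (congrArg Subtype.val h), fun a ha b hb => Subtype.ext (h2 a ha b hb)⟩

end restr

end Cfsg.Agent.Cit.Nil.Comp.AO
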