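import Cfsg.Agent.Cit.Nil.Comp.AO.InvTI
import Cfsg.Agent.Cit.TwoBasic

/-!
# S1309 (6b), `r = 1`, COMP, AllOne, (M2): 2-subgroups of `C(K z)`, type I: the structure (helper61)

* `Shape Z K z P` : `P` is cyclic of order at most 4, or a quaternion group containing `r` with `w r ∈ Z`, `w ∈ K z`;
* `TC.struct` : a `g`-invariant 2-subgroup `P ∋ r` of `C(K z)` has this shape.
-/

set_option autoImplicit false
set_option linter.style.haveILetI false
set_option linter.unusedSectionVars false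

namespace Cfsg.Agent.Cit.Nil.Comp.AO

open Subgroup Cfsg Cfsg.Agent.Cit Cfsg.Agent.Cit.Nil.ROne

variable {G : Type*} [Group G] {Z : Set G} {K : G → Subgroup G} {z t u v w g b p r x y k l m σ h : G}

/-- `1, z, r, r z` -/
def In4 (z r p : G) : Prop := p = 1 ∨ p = z ∨ p = r ∨ p = r * z

/-- the shape of a 2-subgroup of `C(K z)` -/
def Shape (Z : Set G) (K : G → Subgroup G) (z : G) (P : Subgroup G) : Prop :=
  (∃ ρ ∈ P, (ρ = 1 ∨ ρ * ρ = z) ∧ ∀ p ∈ P, In4 z ρ p) ∨
  (∃ r ∈ P, ∃ σ ∈ P, ∃ w ∈ K z, w * w = z ∧ r * r = z ∧ w * r ∈ Z ∧ σ * σ = z ∧ σ * r * σ⁻¹ = r⁻¹ ∧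
    ∀ p ∈ P, In4 z r p ∨ In4 z r (σ⁻¹ * p))

/-- equal up to `z` -/
def Sm (z p q : G) : Prop := p = q ∨ p = q * z

section sm

variable {q q' p' : G}

theorem Sm.mul (hz : z * z = 1) (h1 : Sm z p q) (h2 : Sm z p' q') (hq' : q' * z = z * q') : Sm z (p * p') (q * q') := by
  rcases h1 with rfl | rfl <;> rcases h2 with rfl | rfl
  · exact Or.inl rfl
  · right; group
  · right
    rw [mul_assoc, ← hq', ← mul_assoc]
  · left
    calc q * z * (q' * z) = q * (z * q') * z := by group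
      _ = q * q' * (z * z) := by rw [← hq']; group
      _ = q * q' := by rw [hz, mul_one]

theorem Sm.conj (h1 : Sm z p q) (hx : x * z = z * x) : Sm z (x * p * x⁻¹) (x * q * x⁻¹) := by
  rcases h1 with rfl | rfl
  · exact Or.inl rfl
  · right
    calc x * (q * z) * x⁻¹ = x * q * (z * x⁻¹) := by group
      _ = x * q * x⁻¹ * z := by rw [((show Commute z x from hx.symm).inv_right).eq]; group

theorem Sm.trans (hz : z * z = 1) (h1 : Sm z p q) (h2 : Sm z q x) : Sm z p x := by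
  rcases h1 with rfl | rfl
  · exact h2
  · rcases h2 with rfl | rfl
    · exact Or.inr rfl
    · left; rw [mul_assoc, hz, mul_one]

theorem Sm.symm (hz : z * z = 1) (h1 : Sm z p q) : Sm z q p := by
  rcases h1 with rfl | rfl
  · exact Or.inl rfl
  · right; rw [mul_assoc, hz, mul_one]

end sm

/-- a 2-element `h` such that `h³` fixes the axis of `r` -/
theorem sm_of_cube (hz : z * z = 1) (hh : h * z = z * h) (hn : IsPGroup 2 (zpowers h))
    (h3 : Sm z (h ^ 3 * r * (h ^ 3)⁻¹) r) : Sm z (h * r * h⁻¹) r := by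
  haveI : Fact (Nat.Prime 2) := ⟨Nat.prime_two⟩
  obtain ⟨n, hn⟩ : ∃ n : ℕ, h ^ 2 ^ n = 1 := by
    obtain ⟨n, h1⟩ := hn ⟨h, mem_zpowers h⟩
    exact ⟨n, congrArg Subtype.val h1⟩
  have hco : Nat.Coprime 3 (orderOf h) := by
    obtain ⟨k, -, hk⟩ := (Nat.dvd_prime_pow Nat.prime_two).1 (orderOf_dvd_of_pow_eq_one hn)
    rw [hk]
    exact Nat.Coprime.pow_right _ (by norm_num)
  obtain ⟨m, hm⟩ := exists_pow_eq_self_of_coprime hco
  have h3z : h ^ 3 * z = z * h ^ 3 := ((show Commute h z from hh).pow_left 3).eq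
  have key : ∀ m : ℕ, Sm z ((h ^ 3) ^ m * r * ((h ^ 3) ^ m)⁻¹) r := by
    intro m
    induction m with
    | zero => left; simp
    | succ m ih =>
      have e : (h ^ 3) ^ (m + 1) * r * ((h ^ 3) ^ (m + 1))⁻¹ = h ^ 3 * ((h ^ 3) ^ m * r * ((h ^ 3) ^ m)⁻¹) * (h ^ 3)⁻¹ := by
        rw [pow_succ' (h ^ 3) m]; group
      rw [e]
      exact (ih.conj h3z).trans hz h3
  have h4 := key m
  rwa [hm] at h4

namespace TC

variable (T : TC Z K z t w g)

include T

/-- **type I**: the shape of `P` -/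
theorem struct [Finite G] {P R : Subgroup G} (hR : IsPGroup 2 R) (hPR : P ≤ R) (hgR : g ∈ R)
    (hgP : ∀ p ∈ P, g * p * g⁻¹ ∈ P) (hPc : ∀ p ∈ P, Cen K p z) (hr : r = w⁻¹ * t) (hrP : r ∈ P) : Shape Z K z P := by
  obtain ⟨o, hz, ht, hne, hc, hw, hg⟩ := id T
  have hP := hR.to_le hPR
  have zz1 : z * z = 1 := o.w.sq z hz
  have z1 : z ≠ 1 := o.w.ne z hz
  have hcr : Cen K r z := hPc r hrP
  have hrr : r * r = z := by rw [hr]; exact T.r_sq
  have htr : t = w * r := by rw [hr]; group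
  have hgr : g * r = r * g := by rw [hr]; exact T.r_g
  have hpz : ∀ p ∈ P, p * z = z * p := fun p hp => hPc p hp z (o.w.mem z hz)
  have hrz := hpz r hrP
  have hri : r⁻¹ = r * z := by rw [inv_eq o.w hz hrr, hrz]
  have hri' : r ≠ r⁻¹ := sq_ne_inv o.w hz hrr
  have hrzr : r * z ≠ r := fun e => z1 (mul_eq_left.1 e)
  have hwrZ : w * r ∈ Z := by rw [← htr]; exact ht
  have i4 : ∀ p ∈ P, p * r = r * p → In4 z r p := fun p hp h1 => T.cP hP hr hrP hp (hPc p hp) h1
  -- conjugates of elements with square `z`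
  have sqc : ∀ {x y : G}, x * z = z * x → y * y = z → x * y * x⁻¹ * (x * y * x⁻¹) = z := by
    intro x y hx hy
    calc x * y * x⁻¹ * (x * y * x⁻¹) = x * (y * y) * x⁻¹ := by group
      _ = z := by rw [hy, hx, mul_inv_cancel_right]
  have not4 : ∀ {y : G}, y * y = z → In4 z r y → Sm z y r := by
    intro y hy h1
    rcases h1 with h1 | h1 | h1 | h1
    · exfalso; rw [h1, one_mul] at hy; exact z1 hy.symm
    · exfalso; rw [h1, zz1] at hy; exact z1 hy.symm
    · exact Or.inl h1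
    · exact Or.inr h1
  -- `P` inverting `r`
  have inv2 : ∀ σ ∈ P, σ * r * σ⁻¹ = r⁻¹ → ∀ p ∈ P, p * r * p⁻¹ = r⁻¹ → In4 z r (σ⁻¹ * p) := by
    intro σ hσ h1 p hp h2
    refine i4 _ (mul_mem (inv_mem hσ) hp) ?_
    have h3 : σ⁻¹ * p * r * (σ⁻¹ * p)⁻¹ = r := by
      calc σ⁻¹ * p * r * (σ⁻¹ * p)⁻¹ = σ⁻¹ * (p * r * p⁻¹) * σ := by group
        _ = σ⁻¹ * (σ * r * σ⁻¹) * σ := by rw [h2, h1]
        _ = r := by group
    exact mul_inv_eq_iff_eq_mul.1 h3
  obtain ⟨N, hNd⟩ : ∃ N : Subgroup G, ∀ x, x ∈ N ↔ x ∈ P ∧ Sm z (x * r * x⁻¹) r := by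
    refine ⟨{ carrier := {x | x ∈ P ∧ Sm z (x * r * x⁻¹) r}, mul_mem' := ?_, one_mem' := ?_, inv_mem' := ?_ }, fun x => Iff.rfl⟩
    · rintro a c ⟨ha, ha'⟩ ⟨hc, hc'⟩
      refine ⟨mul_mem ha hc, ?_⟩
      have e : a * c * r * (a * c)⁻¹ = a * (c * r * c⁻¹) * a⁻¹ := by group
      rw [e]
      exact (hc'.conj (hpz a ha)).trans zz1 ha'
    · exact ⟨one_mem _, Or.inl (by group)⟩
    · rintro a ⟨ha, ha'⟩
      refine ⟨inv_mem ha, ?_⟩
      have h1 := ha'.conj (hpz a⁻¹ (inv_mem ha))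
      have e : a⁻¹ * (a * r * a⁻¹) * a⁻¹⁻¹ = r := by group
      rw [e] at h1
      exact h1.symm zz1
  have hNP : N ≤ P := fun x hx => ((hNd x).1 hx).1
  by_cases hN : N = P
  · -- `P` preserves the axis of `r`
    have hall : ∀ p ∈ P, Sm z (p * r * p⁻¹) r := fun p hp => ((hNd p).1 (by rw [hN]; exact hp)).2
    by_cases hex : ∃ σ ∈ P, σ * r * σ⁻¹ = r⁻¹
    · obtain ⟨σ, hσ, h1⟩ := hex
      right
      refine ⟨r, hrP, σ, hσ, w, hw.mem, hw.sq, hrr, hwrZ, T.sig hP hr hrP hσ (hPc σ hσ) h1, h1, fun p hp => ?_⟩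
      rcases hall p hp with h2 | h2
      · exact Or.inl (i4 p hp (mul_inv_eq_iff_eq_mul.1 h2))
      · exact Or.inr (inv2 σ hσ h1 p hp (by rw [h2, hri]))
    · left
      refine ⟨r, hrP, Or.inr hrr, fun p hp => ?_⟩
      rcases hall p hp with h2 | h2
      · exact i4 p hp (mul_inv_eq_iff_eq_mul.1 h2)
      · exact absurd ⟨p, hp, by rw [h2, hri]⟩ hex
  · exfalso
    obtain ⟨x, hxP, hxN, hxc⟩ := exists_normalizing hP hNP hN
    have hxz := hpz x hxP
    have hrN : r ∈ N := (hNd r).2 ⟨hrP, Or.inl (by group)⟩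
    obtain ⟨σ, hσ⟩ : ∃ σ, σ = x * r * x⁻¹ := ⟨_, rfl⟩
    have hσN : σ ∈ N := by
      rw [hσ, ← hxc]
      exact conj_mem_cj hrN
    obtain ⟨hσP, hσr⟩ := (hNd σ).1 hσN
    have hσz := hpz σ hσP
    have hσσ : σ * σ = z := by rw [hσ]; exact sqc hxz hrr
    have hnot : ¬ Sm z σ r := by
      intro h1
      exact hxN ((hNd x).2 ⟨hxP, by rw [← hσ]; exact h1⟩)
    have hσr' : σ * r * σ⁻¹ = r⁻¹ := by
      rcases hσr with h1 | h1
      · exact absurd (not4 hσσ (i4 σ hσP (mul_inv_eq_iff_eq_mul.1 h1))) hnot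
      · rw [h1, hri]
    -- relations
    have rel1 : r * σ * r = σ := by
      have h1 : σ * r = r⁻¹ * σ := by rw [← hσr']; group
      rw [mul_assoc, h1]; group
    have rel2 : σ * r * σ = r := by
      have h1 : σ * r = r⁻¹ * σ := by rw [← hσr']; group
      rw [h1, mul_assoc, hσσ, hri, mul_assoc, zz1, mul_one]
    have hσrz : σ * r * z = z * (σ * r) := hpz _ (mul_mem hσP hrP)
    obtain ⟨τ, hτ⟩ : ∃ τ, τ = x * σ * x⁻¹ := ⟨_, rfl⟩
    have hτN : τ ∈ N := by
      rw [hτ, ← hxc]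
      exact conj_mem_cj hσN
    obtain ⟨hτP, hτr⟩ := (hNd τ).1 hτN
    have hττ : τ * τ = z := by rw [hτ]; exact sqc hxz hσσ
    have hxinj : ∀ {a c : G}, x * a * x⁻¹ = x * c * x⁻¹ → a = c := fun h => mul_left_cancel (mul_right_cancel h)
    -- the action of `g` on `σ`
    have hgσ : Sm z (g * σ * g⁻¹) (σ * r) := by
      have h1 : g * σ * g⁻¹ * r * (g * σ * g⁻¹)⁻¹ = r⁻¹ := by
        have q1 : g⁻¹ * r * g = r := by rw [mul_assoc, ← hgr, inv_mul_cancel_left]
        calc g * σ * g⁻¹ * r * (g * σ * g⁻¹)⁻¹ = g * (σ * (g⁻¹ * r * g) * σ⁻¹) * g⁻¹ := by group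
          _ = g * r⁻¹ * g⁻¹ := by rw [q1, hσr']
          _ = (g * r * g⁻¹)⁻¹ := by group
          _ = r⁻¹ := by rw [hgr, mul_inv_cancel_right]
      have h2 := inv2 σ hσP hσr' _ (hgP σ hσP) h1
      have htσ : t * σ * t⁻¹ = σ * z := by
        have h3 : r * σ * r⁻¹ = σ * z := by
          calc r * σ * r⁻¹ = (r * σ * r) * (r * r)⁻¹ := by group
            _ = σ * z := by rw [rel1, hrr, o.w.inv hz]
        have h4 : (σ * z) * w = w * (σ * z) := by
          have q1 : Commute w σ := (hPc σ hσP w hw.mem).symm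
          have q2 : Commute w z := T.wz
          exact (q1.mul_right q2).eq.symm
        calc t * σ * t⁻¹ = w * (r * σ * r⁻¹) * w⁻¹ := by rw [htr]; group
          _ = σ * z := by rw [h3, ← h4]; group
      have hgg : t * σ * t⁻¹ = g * (g * σ * g⁻¹) * g⁻¹ := by rw [← hg.sq]; group
      rcases h2 with h2 | h2 | h2 | h2
      · exfalso
        rw [inv_mul_eq_one] at h2
        rw [← h2, ← h2, htσ] at hgg
        exact z1 (mul_eq_left.1 hgg)
      · exfalso
        rw [inv_mul_eq_iff_eq_mul] at h2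
        have h3 : g * (σ * z) * g⁻¹ = σ := by
          calc g * (σ * z) * g⁻¹ = g * σ * g⁻¹ * (g * z * g⁻¹) := by group
            _ = σ := by rw [h2, T.gz, mul_inv_cancel_right, mul_assoc, zz1, mul_one]
        rw [h2, h3, htσ] at hgg
        exact z1 (mul_eq_left.1 hgg)
      · left
        rw [inv_mul_eq_iff_eq_mul] at h2
        exact h2
      · right
        rw [inv_mul_eq_iff_eq_mul] at h2
        rw [h2, mul_assoc]
    -- the two cases for `τ`
    have hcase : Sm z τ r ∨ Sm z τ (σ * r) := by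
      rcases hτr with h1 | h1
      · exact Or.inl (not4 hττ (i4 τ hτP (mul_inv_eq_iff_eq_mul.1 h1)))
      · have h2 := inv2 σ hσP hσr' τ hτP (by rw [h1, hri])
        rcases h2 with h2 | h2 | h2 | h2
        · exfalso
          rw [inv_mul_eq_one, hτ] at h2
          have h3 : x * r * x⁻¹ = x * σ * x⁻¹ := by rw [← hσ]; exact h2
          exact hnot (Or.inl (hxinj h3).symm)
        · exfalso
          rw [inv_mul_eq_iff_eq_mul, hτ] at h2
          have h3 : x * σ * x⁻¹ = x * (r * z) * x⁻¹ := by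
            rw [h2]
            calc σ * z = x * r * x⁻¹ * z := by rw [hσ]
              _ = x * r * (z * x⁻¹) := by rw [((show Commute z x from hxz.symm).inv_right).eq]; group
              _ = x * (r * z) * x⁻¹ := by group
          exact hnot (Or.inr (hxinj h3))
        · right; left
          rwa [inv_mul_eq_iff_eq_mul] at h2
        · right; right
          rw [inv_mul_eq_iff_eq_mul] at h2
          rw [h2, mul_assoc]
    have cube : ∀ h : G, h ^ 3 * r * (h ^ 3)⁻¹ = h * (h * (h * r * h⁻¹) * h⁻¹) * h⁻¹ := fun h => by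
      rw [pow_three]; group
    rcases hcase with h1 | h1
    · obtain ⟨h, hh⟩ : ∃ h, h = g * x := ⟨_, rfl⟩
      have hhz : h * z = z * h := by
        have q1 : Commute z g := T.gz.symm
        have q2 : Commute z x := hxz.symm
        rw [hh]
        exact (q1.mul_right q2).eq.symm
      have hhR : h ∈ R := by rw [hh]; exact mul_mem hgR (hPR hxP)
      have s1 : Sm z (h * r * h⁻¹) (σ * r) := by
        have e : h * r * h⁻¹ = g * σ * g⁻¹ := by rw [hh, hσ]; group
        rw [e]; exact hgσ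
      have s2 : Sm z (h * σ * h⁻¹) r := by
        have e : h * σ * h⁻¹ = g * τ * g⁻¹ := by rw [hh, hτ]; group
        have h2 := h1.conj T.gz
        have e' : g * r * g⁻¹ = r := by rw [hgr, mul_inv_cancel_right]
        rw [e', ← e] at h2
        exact h2
      have s3 : Sm z (h * (σ * r) * h⁻¹) σ := by
        have e : h * (σ * r) * h⁻¹ = (h * σ * h⁻¹) * (h * r * h⁻¹) := by group
        have h2 := Sm.mul zz1 s2 s1 hσrz
        have e' : r * (σ * r) = σ := by rw [← mul_assoc]; exact rel1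
        rw [e', ← e] at h2
        exact h2
      have s4 : Sm z (h ^ 3 * r * (h ^ 3)⁻¹) r := by
        rw [cube]
        exact ((((s1.conj hhz).trans zz1 s3).conj hhz).trans zz1 s2)
      have s5 := sm_of_cube zz1 hhz (isPGroup_zp hR hhR) s4
      have s6 : Sm z (σ * r) r := (s1.symm zz1).trans zz1 s5
      have hσ1 : σ = 1 ∨ σ = z := by
        rcases s6 with h2 | h2
        · exact Or.inl (mul_eq_right.1 h2)
        · right
          rw [hrz] at h2
          exact mul_right_cancel h2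
      rcases hσ1 with h2 | h2
      · rw [h2, one_mul] at hσσ; exact z1 hσσ.symm
      · rw [h2, zz1] at hσσ; exact z1 hσσ.symm
    · have s1 : Sm z (x * r * x⁻¹) σ := Or.inl hσ.symm
      have s2 : Sm z (x * σ * x⁻¹) (σ * r) := by rw [← hτ]; exact h1
      have s3 : Sm z (x * (σ * r) * x⁻¹) r := by
        have e : x * (σ * r) * x⁻¹ = (x * σ * x⁻¹) * (x * r * x⁻¹) := by group
        have h2 := Sm.mul zz1 s2 s1 hσz
        rw [rel2, ← e] at h2
        exact h2
      have s4 : Sm z (x ^ 3 * r * (x ^ 3)⁻¹) r := by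
        rw [cube]
        exact ((((s1.conj hxz).trans zz1 s2).conj hxz).trans zz1 s3)
      have s5 := sm_of_cube zz1 hxz (isPGroup_zp hP hxP) s4
      rw [← hσ] at s5
      exact hnot s5

end TC

end Cfsg.Agent.Cit.Nil.Comp.AO
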