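import Cfsg.Agent.Cit.Nil.Comp.AO.StructTI

/-!
# S1309 (6b), `r = 1`, COMP, AllOne, (M2): 2-subgroups of `C(K z)`, only transpositions (helper61)

`OW.structTS` : if all N-partners of `z` act as transpositions, a `t`-invariant 2-subgroup of `C(K z)` is cyclic of
order at most 4.
-/

set_option autoImplicit false
set_option linter.style.haveILetI false
set_option linter.unusedSectionVars false

namespace Cfsg.Agent.Cit.Nil.Comp.AO

open Subgroup Cfsg Cfsg.Agent.Cit Cfsg.Agent.Cit.Nil.ROne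

variable {G : Type*} [Group G] {Z : Set G} {K : G → Subgroup G} {z t u v w g b p r x y k l m σ h ρ : G}

/-- a transposition pair `(z, t)`; all N-partners of `z` are transpositions -/
structure TSW (Z : Set G) (K : G → Subgroup G) (z t b : G) : Prop where
  o : OW Z K
  hz : z ∈ Z
  ht : t ∈ Z
  ne : z ≠ t
  c : z * t = t * z
  hb : Trn K t z b
  all : ∀ u ∈ Z, z ≠ u → z * u = u * z → (∃ b, Trn K u z b) ∧ ∃ b, Trn K z u b

namespace TSW

variable (T : TSW Z K z t b)

include T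

theorem cpt {P : Subgroup G} (hP : IsPGroup 2 P) (hp : p ∈ P) (hpz : Cen K p z) (hpt : p * t = t * p) :
    p = 1 ∨ p = z := by
  classical
  obtain ⟨o, hz, ht, hne, hc, hb, all⟩ := id T
  have hex : ∃ n : ℕ, p ^ 2 ^ n = 1 := by
    obtain ⟨n, h1⟩ := isPGroup_zp hP hp ⟨p, mem_zpowers p⟩
    exact ⟨n, congrArg Subtype.val h1⟩
  have hfn := Nat.find_spec hex
  have hmin : ∀ {m : ℕ}, m < Nat.find hex → p ^ 2 ^ m ≠ 1 := fun h => Nat.find_min hex h
  have hcen : ∀ n : ℕ, Cen K (p ^ n) z := by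
    intro n k hk
    exact ((show Commute p k from hpz k hk).pow_left n).eq
  have hcom : ∀ n : ℕ, p ^ n * t = t * p ^ n := fun n => ((show Commute p t from hpt).pow_left n).eq
  rcases hn : Nat.find hex with _ | _ | n
  · rw [hn] at hfn
    left
    simpa using hfn
  · rw [hn] at hfn
    refine o.no_inv hz ht hne hc hpz hpt ?_
    have e : p ^ 2 ^ (0 + 1) = p * p := by rw [zero_add, pow_one, pow_two]
    rw [← e]; exact hfn
  · exfalso
    rw [hn] at hfn
    obtain ⟨q, hq⟩ : ∃ q, q = p ^ 2 ^ n := ⟨_, rfl⟩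
    have e1 : q * q = p ^ 2 ^ (n + 1) := by
      rw [hq, ← pow_add]
      congr 1
      rw [pow_succ]; ring
    have e2 : (q * q) * (q * q) = 1 := by
      rw [e1, ← pow_add, ← hfn]
      congr 1
      rw [pow_succ, pow_succ]; ring
    have hqc : Cen K (q * q) z := by rw [e1]; exact hcen _
    have hqt : q * q * t = t * (q * q) := by rw [e1]; exact hcom _
    rcases o.no_inv hz ht hne hc hqc hqt e2 with h1 | h1
    · rw [e1] at h1
      exact hmin (by rw [hn]; omega) h1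
    · obtain ⟨b', hb'⟩ := (all t ht hne hc).2
      rw [← h1] at hb'
      exact o.w.not_trn_sq ht (by rw [hq]; exact hcom _) hb'

/-- an element moved to `p z` has square `z` -/
theorem twist {P : Subgroup G} (hP : IsPGroup 2 P) (hp : p ∈ P) (hpz : Cen K p z) (htp : t * p * t⁻¹ = p * z) :
    p * p = z := by
  obtain ⟨o, hz, ht, hne, hc, hb, all⟩ := id T
  have zz1 := o.w.sq z hz
  have hpz' : p * z = z * p := hpz z (o.w.mem z hz)
  have hppt : p * p * t = t * (p * p) := by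
    have h1 : t * (p * p) * t⁻¹ = p * p := by
      calc t * (p * p) * t⁻¹ = (t * p * t⁻¹) * (t * p * t⁻¹) := by group
        _ = p * (z * p) * z := by rw [htp]; group
        _ = p * p * (z * z) := by rw [← hpz']; group
        _ = p * p := by rw [zz1, mul_one]
    exact (mul_inv_eq_iff_eq_mul.1 h1).symm
  rcases T.cpt hP (mul_mem hp hp) (hpz.mul hpz) hppt with h1 | h1
  swap
  · exact h1
  exfalso
  obtain ⟨c, hcK, hcc, h2, -, -⟩ := o.w.flip hz ht (o.np hz ht hne hc)
  have hpc : p * c = c * p := hpz c hcK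
  have hcz : c * z = z * c := o.w.cent hz hcK
  have hci : c⁻¹ = z * c := inv_eq o.w hz hcc
  have h3 : p * c * (p * c) = z := by
    calc p * c * (p * c) = p * (c * p) * c := by group
      _ = (p * p) * (c * c) := by rw [← hpc]; group
      _ = z := by rw [h1, hcc, one_mul]
  have h4 : p * c * t = t * (p * c) := by
    have h5 : t * (p * c) * t⁻¹ = p * c := by
      calc t * (p * c) * t⁻¹ = (t * p * t⁻¹) * (t * c * t⁻¹) := by group
        _ = p * (z * z) * c := by rw [htp, h2, hci]; group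
        _ = p * c := by rw [zz1, mul_one]
    exact (mul_inv_eq_iff_eq_mul.1 h5).symm
  obtain ⟨b', hb'⟩ := (all t ht hne hc).2
  rw [← h3] at hb'
  exact o.w.not_trn_sq ht h4 hb'

/-- `ρ t ∉ Z` -/
theorem notZ (hρ : Cen K ρ z) (hρρ : ρ * ρ = z) (htρ : t * ρ * t⁻¹ = ρ * z) : ρ * t ∉ Z := by
  obtain ⟨o, hz, ht, hne, hc, hb, all⟩ := id T
  intro hu
  have zz1 := o.w.sq z hz
  have tt1 := o.w.sq t ht
  have hρz : ρ * z = z * ρ := hρ z (o.w.mem z hz)
  have hρb : ρ * b = b * ρ := hρ b hb.mem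
  have hbz : b * z = z * b := o.w.cent hz hb.mem
  have hbi : b⁻¹ = z * b := inv_eq o.w hz hb.sq
  obtain ⟨y, hy, hyy, hy1, hy2, hby, hyb⟩ := o.w.exists_inv hz hb.mem hb.sq
  have hρy : ρ * y = y * ρ := hρ y hy
  obtain ⟨e, he⟩ : ∃ e, e = b * ρ := ⟨_, rfl⟩
  have het : e * t = t * e := by
    have h1 : t * e * t⁻¹ = e := by
      calc t * e * t⁻¹ = (t * b * t⁻¹) * (t * ρ * t⁻¹) := by rw [he]; group
        _ = (z * b) * (ρ * z) := by rw [hb.inv, htρ, hbi]
        _ = (z * z) * (b * ρ) := by rw [hρz, ← hbz]; calc b * z * (z * ρ) = b * (z * z) * ρ := by group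
                                      _ = z * z * (b * ρ) := by rw [zz1]; group
        _ = e := by rw [zz1, one_mul, he]
    exact (mul_inv_eq_iff_eq_mul.1 h1).symm
  have hez : e * z = z * e := by
    have q1 : Commute z b := hbz.symm
    have q2 : Commute z ρ := hρz.symm
    rw [he]
    exact (q1.mul_right q2).eq.symm
  have hee : e * e = 1 := by
    calc e * e = b * (ρ * b) * ρ := by rw [he]; group
      _ = (b * b) * (ρ * ρ) := by rw [hρb]; group
      _ = 1 := by rw [hb.sq, hρρ, zz1]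
  have he1 : e ≠ 1 := by
    intro h1
    rw [he, mul_eq_one_iff_eq_inv] at h1
    have h2 : Cen K b z := by rw [h1]; exact hρ.inv
    exact not_cen_four o.w hz hb.mem hb.sq h2
  have hze : z ≠ e := by
    intro h1
    have h2 : Cen K b z := by
      have h3 : b = z * ρ⁻¹ := by rw [h1, he]; group
      rw [h3]
      exact ((o.w.cen_iff hz hz).2 (Or.inl rfl)).mul hρ.inv
    exact not_cen_four o.w hz hb.mem hb.sq h2
  -- `y⁻¹ t y`
  have hm1 : t * y * t⁻¹ ∈ K z := o.w.norm_mem hz hc.symm hy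
  have hm2 : t * y * t⁻¹ * (t * y * t⁻¹) = z := by
    calc t * y * t⁻¹ * (t * y * t⁻¹) = t * (y * y) * t⁻¹ := by group
      _ = z := by rw [hyy, ← hc, mul_inv_cancel_right]
  have hinj : ∀ {a c : G}, t * a * t⁻¹ = t * c * t⁻¹ → a = c := fun h => mul_left_cancel (mul_right_cancel h)
  have hbi' : t * b⁻¹ * t⁻¹ = b := by
    have : t * b⁻¹ * t⁻¹ = (t * b * t⁻¹)⁻¹ := by group
    rw [this, hb.inv, inv_inv]
  have hm3 : t * y * t⁻¹ ≠ b := fun h1 => hy2 (hinj (h1.trans hbi'.symm))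
  have hm4 : t * y * t⁻¹ ≠ b⁻¹ := fun h1 => hy1 (hinj (h1.trans hb.inv.symm))
  obtain ⟨hm5, hm6⟩ := hb.ne y hy hyy hy1 hy2
  have hyby : y⁻¹ * b * y = b⁻¹ := by
    have h1 : y * b⁻¹ * y⁻¹ = b := by
      have : y * b⁻¹ * y⁻¹ = (y * b * y⁻¹)⁻¹ := by group
      rw [this, hyb, inv_inv]
    calc y⁻¹ * b * y = y⁻¹ * (y * b⁻¹ * y⁻¹) * y := by rw [h1]
      _ = b⁻¹ := by group
  have hyi : y⁻¹ * y⁻¹ = z := by rw [← mul_inv_rev, hyy, o.w.inv hz]
  have hyt : y⁻¹ * t * y = b⁻¹ * t ∨ y⁻¹ * t * y = b * t := by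
    have e : y⁻¹ * t * y = y⁻¹ * (t * y * t⁻¹) * t := by group
    rcases third_axis o.w hz hb.mem hb.sq hy hyy hy1 hy2 hm1 hm2 hm3 hm4 hm5 hm6 with h1 | h1
    · left
      rw [e, h1]
      calc y⁻¹ * (b * y) * t = (y⁻¹ * b * y) * t := by group
        _ = b⁻¹ * t := by rw [hyby]
    · right
      rw [e, h1]
      calc y⁻¹ * (b * y)⁻¹ * t = (y⁻¹ * y⁻¹) * b⁻¹ * t := by group
        _ = (z * z) * b * t := by rw [hyi, hbi]; group
        _ = b * t := by rw [zz1, one_mul]
  have huy : ρ * (y⁻¹ * t * y) ∈ Z := by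
    have h1 := o.w.conjZ _ hu y⁻¹
    have e : y⁻¹ * (ρ * t) * y⁻¹⁻¹ = ρ * (y⁻¹ * t * y) := by
      calc y⁻¹ * (ρ * t) * y⁻¹⁻¹ = (y⁻¹ * ρ) * t * y := by group
        _ = (ρ * y⁻¹) * t * y := by rw [((show Commute ρ y from hρy).inv_right).eq]
        _ = ρ * (y⁻¹ * t * y) := by group
    rwa [e] at h1
  have heZ : e ∈ Z := by
    rcases hyt with h1 | h1
    · -- `e z t ∈ Z`
      have h2 : e * (z * t) ∈ Z := by
        have e1 : ρ * (y⁻¹ * t * y) = e * (z * t) := by
          rw [h1, hbi, he]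
          calc ρ * (z * b * t) = ρ * (b * z) * t := by rw [hbz]; group
            _ = (ρ * b) * (z * t) := by group
            _ = b * ρ * (z * t) := by rw [hρb]
        rwa [e1] at huy
      have hzt : z * t ∈ Z := o.mulZ hz ht hne hc
      have h3 : e * (z * t) * (z * t) = e := by
        rw [mul_assoc, o.w.sq _ hzt, mul_one]
      have h4 : e * (z * t) = z * t * e := by
        have q1 : Commute e z := hez
        have q2 : Commute e t := het
        exact (q1.mul_right q2).eq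
      have h5 : e * (z * t) ≠ z * t := fun h5 => he1 (mul_eq_right.1 h5)
      have h6 : e * (z * t) * (z * t) = z * t * (e * (z * t)) := by
        rw [h4]
        calc z * t * e * (z * t) = z * t * (e * (z * t)) := by group
          _ = z * t * (z * t * e) := by rw [h4]
      have h7 := o.mulZ h2 hzt h5 h6
      rwa [h3] at h7
    · have h2 : e * t ∈ Z := by
        have e1 : ρ * (y⁻¹ * t * y) = e * t := by
          rw [h1, he, ← mul_assoc, hρb]
        rwa [e1] at huy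
      have h3 : e * t * t = e := by rw [mul_assoc, tt1, mul_one]
      have h5 : e * t ≠ t := fun h5 => he1 (mul_eq_right.1 h5)
      have h6 : e * t * t = t * (e * t) := by rw [← mul_assoc t e t, ← het]
      have h7 := o.mulZ h2 ht h5 h6
      rwa [h3] at h7
  obtain ⟨b', hb'⟩ := (all e heZ hze hez.symm).1
  refine o.w.not_inn_trn hz (y := b) ⟨hb.mem, hb.sq, fun k hk => ?_⟩ hb'
  calc e * k * e⁻¹ = b * (ρ * k * ρ⁻¹) * b⁻¹ := by rw [he]; group
    _ = b * k * b⁻¹ := by rw [hρ k hk]; group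

/-- **only transpositions**: the shape of `P` -/
theorem struct [Finite G] {P R : Subgroup G} (hR : IsPGroup 2 R) (hPR : P ≤ R) (htR : t ∈ R)
    (htP : ∀ p ∈ P, t * p * t⁻¹ ∈ P) (hPc : ∀ p ∈ P, Cen K p z) : Shape Z K z P := by
  obtain ⟨o, hz, ht, hne, hc, hb, all⟩ := id T
  have hP := hR.to_le hPR
  have zz1 : z * z = 1 := o.w.sq z hz
  have tt1 : t * t = 1 := o.w.sq t ht
  have ti : t⁻¹ = t := o.w.inv ht
  have z1 : z ≠ 1 := o.w.ne z hz
  have hpz : ∀ p ∈ P, p * z = z * p := fun p hp => hPc p hp z (o.w.mem z hz)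
  have htnP : t ∉ P := fun h1 => o.not_cen hz ht hne (hPc t h1)
  have zt1 : z * t ≠ 1 := by
    intro h1
    apply hne
    rw [mul_eq_one_iff_eq_inv, ti] at h1
    exact h1
  -- the group `P ⟨t⟩`
  obtain ⟨Y, hYd⟩ : ∃ Y : Subgroup G, ∀ x, x ∈ Y ↔ x ∈ P ∨ x * t ∈ P := by
    refine ⟨{ carrier := {x | x ∈ P ∨ x * t ∈ P}, mul_mem' := ?_, one_mem' := Or.inl (one_mem _), inv_mem' := ?_ }, fun x => Iff.rfl⟩
    · rintro a c (ha | ha) (hc' | hc')
      · exact Or.inl (mul_mem ha hc')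
      · right; rw [mul_assoc]; exact mul_mem ha hc'
      · right
        have h1 := mul_mem ha (htP c hc')
        have e : a * t * (t * c * t⁻¹) = a * (t * t) * c * t⁻¹ := by group
        rw [e, tt1, ti, mul_one] at h1
        exact h1
      · left
        have h1 := mul_mem ha (htP _ hc')
        have e : a * t * (t * (c * t) * t⁻¹) = a * (t * t) * c := by group
        rw [e, tt1, mul_one] at h1
        exact h1
    · rintro a (ha | ha)
      · exact Or.inl (inv_mem ha)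
      · right
        have h1 := htP _ (inv_mem ha)
        have e : t * (a * t)⁻¹ * t⁻¹ = (t * t⁻¹) * a⁻¹ * t⁻¹ := by group
        rw [e, mul_inv_cancel, one_mul, ti] at h1
        exact h1
  have hPY : P ≤ Y := fun x hx => (hYd x).2 (Or.inl hx)
  have htY : t ∈ Y := (hYd t).2 (Or.inr (by rw [tt1]; exact one_mem _))
  have hY : IsPGroup 2 Y := by
    refine hR.to_le fun x hx => ?_
    rcases (hYd x).1 hx with h1 | h1
    · exact hPR h1
    · have h2 := mul_mem (hPR h1) (inv_mem htR)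
      rwa [mul_inv_cancel_right] at h2
  have hYz : ∀ x ∈ Y, x * z = z * x := by
    intro x hx
    rcases (hYd x).1 hx with h1 | h1
    · exact hpz x h1
    · have h2 := hpz _ h1
      calc x * z = (x * t * z) * t⁻¹ := by rw [mul_assoc x t z, ← hc]; group
        _ = z * x := by rw [h2]; group
  -- the centraliser of `t` in `Y`
  obtain ⟨V, hVd⟩ : ∃ V : Subgroup G, ∀ x, x ∈ V ↔ x ∈ Y ∧ x * t * x⁻¹ = t := by
    refine ⟨Y ⊓ centralizer {t}, fun x => ?_⟩
    rw [mem_inf, mem_centralizer_singleton_iff, mul_inv_eq_iff_eq_mul]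
  have hVY : V ≤ Y := fun x hx => ((hVd x).1 hx).1
  have hcp : ∀ p ∈ P, p * t * p⁻¹ = t → p = 1 ∨ p = z := fun p hp h1 =>
    T.cpt hP hp (hPc p hp) (mul_inv_eq_iff_eq_mul.1 h1)
  by_cases hV : V = Y
  · left
    refine ⟨1, one_mem _, Or.inl rfl, fun p hp => ?_⟩
    have h1 : p ∈ V := by rw [hV]; exact hPY hp
    rcases hcp p hp ((hVd p).1 h1).2 with h2 | h2
    · exact Or.inl h2
    · exact Or.inr (Or.inl h2)
  obtain ⟨ρ, hρP, hρt⟩ : ∃ ρ ∈ P, ρ * t * ρ⁻¹ = z * t := by
    obtain ⟨x, hxY, hxV, hxc⟩ := exists_normalizing hY hVY hV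
    have htV : t ∈ V := (hVd t).2 ⟨htY, by group⟩
    have h1 : x * t * x⁻¹ ∈ V := by
      rw [← hxc]
      exact conj_mem_cj htV
    have h2 : x * t * x⁻¹ = z * t := by
      obtain ⟨h3, h4⟩ := (hVd _).1 h1
      rcases (hYd _).1 h3 with h5 | h5
      · exfalso
        rcases hcp _ h5 h4 with h6 | h6
        · apply o.w.ne t ht
          have h7 : x * t = x := by rw [mul_inv_eq_one] at h6; exact h6
          exact mul_eq_left.1 h7
        · apply hne
          have h7 : x * t = z * x := mul_inv_eq_iff_eq_mul.1 h6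
          rw [← hYz x hxY] at h7
          exact (mul_left_cancel h7).symm
      · have h6 : x * t * x⁻¹ * t * t * (x * t * x⁻¹ * t)⁻¹ = t := by
          calc x * t * x⁻¹ * t * t * (x * t * x⁻¹ * t)⁻¹ = x * t * x⁻¹ * t * (x * t * x⁻¹)⁻¹ := by group
            _ = t := h4
        rcases hcp _ h5 h6 with h7 | h7
        · exfalso
          apply hxV
          refine (hVd x).2 ⟨hxY, ?_⟩
          rw [mul_eq_one_iff_eq_inv, ti] at h7
          exact h7
        · calc x * t * x⁻¹ = x * t * x⁻¹ * t * t⁻¹ := by group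
            _ = z * t := by rw [h7, ti]
    rcases (hYd x).1 hxY with h3 | h3
    · exact ⟨x, h3, h2⟩
    · refine ⟨x * t, h3, ?_⟩
      calc x * t * t * (x * t)⁻¹ = x * t * x⁻¹ := by group
        _ = z * t := h2
  have htw : ∀ p ∈ P, p * t * p⁻¹ = z * t → t * p * t⁻¹ = p * z := by
    intro p hp h1
    have h2 : p * t = z * t * p := mul_inv_eq_iff_eq_mul.1 h1
    calc t * p * t⁻¹ = z * (z * t * p) * t⁻¹ := by
          rw [show z * (z * t * p) = (z * z) * t * p by group, zz1, one_mul]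
      _ = z * (p * t) * t⁻¹ := by rw [h2]
      _ = p * z := by rw [hpz p hp]; group
  have hρρ : ρ * ρ = z := T.twist hP hρP (hPc ρ hρP) (htw ρ hρP hρt)
  have hρz := hpz ρ hρP
  -- `P` and `{1, z, ρ, ρ z}`
  have hin : ∀ p ∈ P, (p * t * p⁻¹ = t ∨ p * t * p⁻¹ = z * t) → In4 z ρ p := by
    intro p hp h1
    rcases h1 with h1 | h1
    · rcases hcp p hp h1 with h2 | h2
      · exact Or.inl h2
      · exact Or.inr (Or.inl h2)
    · have h2 : ρ⁻¹ * p * t * (ρ⁻¹ * p)⁻¹ = t := by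
        calc ρ⁻¹ * p * t * (ρ⁻¹ * p)⁻¹ = ρ⁻¹ * (p * t * p⁻¹) * ρ := by group
          _ = ρ⁻¹ * (ρ * t * ρ⁻¹) * ρ := by rw [h1, hρt]
          _ = t := by group
      rcases hcp _ (mul_mem (inv_mem hρP) hp) h2 with h3 | h3
      · right; right; left
        rw [inv_mul_eq_one] at h3
        exact h3.symm
      · right; right; right
        rw [inv_mul_eq_iff_eq_mul] at h3
        exact h3
  obtain ⟨V2, hVd2⟩ : ∃ V : Subgroup G, ∀ x, x ∈ V ↔ x ∈ Y ∧ (x * t * x⁻¹ = t ∨ x * t * x⁻¹ = z * t) := by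
    have hzt' : ∀ a ∈ Y, a * (z * t) * a⁻¹ = z * (a * t * a⁻¹) := by
      intro a ha
      calc a * (z * t) * a⁻¹ = (a * z) * t * a⁻¹ := by group
        _ = z * (a * t * a⁻¹) := by rw [hYz a ha]; group
    refine ⟨{ carrier := {x | x ∈ Y ∧ (x * t * x⁻¹ = t ∨ x * t * x⁻¹ = z * t)}, mul_mem' := ?_,
              one_mem' := ⟨one_mem _, Or.inl (by group)⟩, inv_mem' := ?_ }, fun x => Iff.rfl⟩
    · rintro a c ⟨ha, ha'⟩ ⟨hc', hc''⟩
      refine ⟨mul_mem ha hc', ?_⟩
      have e : a * c * t * (a * c)⁻¹ = a * (c * t * c⁻¹) * a⁻¹ := by group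
      rw [e]
      rcases hc'' with h1 | h1
      · rw [h1]; exact ha'
      · rw [h1, hzt' a ha]
        rcases ha' with h2 | h2
        · right; rw [h2]
        · left; rw [h2, ← mul_assoc, zz1, one_mul]
    · rintro a ⟨ha, ha'⟩
      refine ⟨inv_mem ha, ?_⟩
      rcases ha' with h1 | h1
      · left
        calc a⁻¹ * t * a⁻¹⁻¹ = a⁻¹ * (a * t * a⁻¹) * a := by rw [h1]; group
          _ = t := by group
      · right
        have h2 : a * (z * t) * a⁻¹ = t := by rw [hzt' a ha, h1, ← mul_assoc, zz1, one_mul]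
        calc a⁻¹ * t * a⁻¹⁻¹ = a⁻¹ * (a * (z * t) * a⁻¹) * a := by rw [h2]; group
          _ = z * t := by group
  have hVY2 : V2 ≤ Y := fun x hx => ((hVd2 x).1 hx).1
  by_cases hV2 : V2 = Y
  · left
    refine ⟨ρ, hρP, Or.inr hρρ, fun p hp => hin p hp ?_⟩
    have h1 : p ∈ V2 := by rw [hV2]; exact hPY hp
    exact ((hVd2 p).1 h1).2
  exfalso
  obtain ⟨x, hxY, hxV, hxc⟩ := exists_normalizing hY hVY2 hV2
  have htV : t ∈ V2 := (hVd2 t).2 ⟨htY, Or.inl (by group)⟩
  have h1 : x * t * x⁻¹ ∈ V2 := by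
    rw [← hxc]
    exact conj_mem_cj htV
  have hxtZ : x * t * x⁻¹ ∈ Z := o.w.conjZ t ht x
  -- `x t x⁻¹ ∉ P`
  have h2 : x * t * x⁻¹ ∉ P := by
    intro h3
    rcases (hYd x).1 hxY with h4 | h4
    · apply htnP
      have h5 := mul_mem (mul_mem (inv_mem h4) h3) h4
      have e : x⁻¹ * (x * t * x⁻¹) * x = t := by group
      rwa [e] at h5
    · apply htnP
      have h5 := mul_mem (mul_mem (inv_mem h4) h3) h4
      have e : (x * t)⁻¹ * (x * t * x⁻¹) * (x * t) = t := by group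
      rwa [e] at h5
  obtain ⟨h3, h4⟩ := (hVd2 _).1 h1
  have h5 := ((hYd _).1 h3).resolve_left h2
  have h6 : In4 z ρ (x * t * x⁻¹ * t) := by
    refine hin _ h5 ?_
    have e : x * t * x⁻¹ * t * t * (x * t * x⁻¹ * t)⁻¹ = x * t * x⁻¹ * t * (x * t * x⁻¹)⁻¹ := by group
    rw [e]
    exact h4
  have back : ∀ {q : G}, x * t * x⁻¹ * t = q → x * t * x⁻¹ = q * t := by
    intro q hq
    rw [← hq, mul_assoc _ t t, tt1, mul_one]
  rcases h6 with h7 | h7 | h7 | h7
  · exact hxV ((hVd2 x).2 ⟨hxY, Or.inl (by rw [back h7, one_mul])⟩)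
  · exact hxV ((hVd2 x).2 ⟨hxY, Or.inr (back h7)⟩)
  · rw [back h7] at hxtZ
    exact T.notZ (hPc ρ hρP) hρρ (htw ρ hρP hρt) hxtZ
  · rw [back h7] at hxtZ
    have h8 : (ρ * z) ∈ P := mul_mem hρP (by rw [← hρρ]; exact mul_mem hρP hρP)
    have h9 : ρ * z * (ρ * z) = z := by
      calc ρ * z * (ρ * z) = ρ * (z * ρ) * z := by group
        _ = (ρ * ρ) * (z * z) := by rw [← hρz]; group
        _ = z := by rw [hρρ, zz1, mul_one]
    refine T.notZ (hPc _ h8) h9 ?_ hxtZ
    calc t * (ρ * z) * t⁻¹ = (t * ρ * t⁻¹) * (t * z * t⁻¹) := by group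
      _ = ρ * z * z := by rw [htw ρ hρP hρt, ← hc, mul_inv_cancel_right]

end TSW

end Cfsg.Agent.Cit.Nil.Comp.AO
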