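import Cfsg.Agent.Cit.Nil.Comp.AO.TriRot
import Cfsg.Agent.Cit.Nil.Comp.AO.HRes

/-!
# S1309 (6b), `r = 1`, COMP, AllOne, (M3), `a` not conjugate to `b` in `C(z)` (helper454 #20695 (i); helper61)

`TI1.false_of`.
-/

set_option autoImplicit false
set_option linter.style.haveILetI false
set_option linter.unusedSectionVars false

namespace Cfsg.Agent.Cit.Nil.Comp.AO

open Subgroup Cfsg Cfsg.Agent.Cit Cfsg.Agent.Cit.Nil.ROne Cfsg.Agent.Cit.Nil.AN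
open Cfsg.Agent.OddOrderLocal.NilParts

universe u

/-- the `C(z)`-class of `a` -/
def Zo {G : Type*} [Group G] (z a : G) : Set G := {u | ∃ g, g * z = z * g ∧ g * a * g⁻¹ = u}

/-- the world -/
structure TI1 {G : Type*} [Group G] [Finite G] (Z : Set G) (K : G → Subgroup G) (z a b : G) : Prop where
  w : W Z K
  ao : AllOne Z K
  c3 : ROne.C3 Z K
  one : OneCls Z
  core : pPrimeCore 2 ↥(centralizer ({z} : Set G)) = ⊥
  t : Tri Z K z a b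
  hn : ¬ ∃ g, g * z = z * g ∧ g * a * g⁻¹ = b

namespace TI1

section

variable {G : Type*} [Group G] [Finite G] {Z : Set G} {K : G → Subgroup G} {z a b x g u v c : G} (m : TI1 Z K z a b)

include m

theorem ab : a * b = z := m.t.mul m.w m.ao

theorem bza : b = z * a := by
  have h1 := m.w.comm_of_cp m.t.ha m.t.hb m.t.cab
  calc b = b * (a * a) := by rw [m.w.sq a m.t.ha, mul_one]
    _ = (b * a) * a := by group
    _ = z * a := by rw [← h1, m.ab]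

theorem sub : Zo z a ⊆ Z := by
  rintro _ ⟨g, -, rfl⟩
  exact m.w.conjZ a m.t.ha g

theorem cp (hu : u ∈ Zo z a) : CP K z u := by
  obtain ⟨g, hg, rfl⟩ := hu
  have h1 := cp_conj m.w m.t.hz m.t.ha m.t.cza g
  rwa [hg, mul_inv_cancel_right] at h1

theorem le_c : ∀ u ∈ Zo z a, K u ≤ centralizer {z} := fun _ hu k hk =>
  mem_centralizer_singleton_iff.2 ((m.cp hu).2 z (m.w.mem z m.t.hz) k hk).symm

theorem inv : ∀ u ∈ Zo z a, ∀ g ∈ centralizer ({z} : Set G), g * u * g⁻¹ ∈ Zo z a := by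
  rintro _ ⟨h, hh, rfl⟩ g hg
  have hg' := mem_centralizer_singleton_iff.1 hg
  refine ⟨g * h, ?_, by group⟩
  rw [mul_assoc, hh, ← mul_assoc, hg', mul_assoc]

theorem nc : ∀ u ∈ Zo z a, ∀ v ∈ Zo z a, ¬ CP K u v := by
  intro u hu v hv h
  have h1 := m.ao.three z m.t.hz u (m.sub hu) v (m.sub hv) (m.cp hu) (m.cp hv) h
  obtain ⟨g, hg, rfl⟩ := hu
  obtain ⟨g', hg', rfl⟩ := hv
  apply m.hn
  have hgi : g⁻¹ * z = z * g⁻¹ := by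
    calc g⁻¹ * z = g⁻¹ * (z * g) * g⁻¹ := by group
      _ = g⁻¹ * (g * z) * g⁻¹ := by rw [hg]
      _ = z * g⁻¹ := by group
  refine ⟨g⁻¹ * g', ?_, ?_⟩
  · rw [mul_assoc, hg', ← mul_assoc, hgi, mul_assoc]
  · have h2 : g' * a * g'⁻¹ = (z * (g * a * g⁻¹))⁻¹ := by
      rw [eq_inv_iff_mul_eq_one]
      calc g' * a * g'⁻¹ * (z * (g * a * g⁻¹)) = (z * (g * a * g⁻¹))⁻¹ *
          (z * (g * a * g⁻¹) * (g' * a * g'⁻¹)) * (z * (g * a * g⁻¹)) := by group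
        _ = 1 := by rw [h1]; group
    have h3 : (z * (g * a * g⁻¹))⁻¹ = g * b * g⁻¹ := by
      have e1 : z * (g * a * g⁻¹) = g * (z * a) * g⁻¹ := by
        calc z * (g * a * g⁻¹) = (z * g) * a * g⁻¹ := by group
          _ = g * (z * a) * g⁻¹ := by rw [← hg]; group
      rw [e1, ← m.bza]
      calc (g * b * g⁻¹)⁻¹ = g * b⁻¹ * g⁻¹ := by group
        _ = g * b * g⁻¹ := by rw [m.w.inv m.t.hb]
    calc g⁻¹ * g' * a * (g⁻¹ * g')⁻¹ = g⁻¹ * (g' * a * g'⁻¹) * g := by group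
      _ = g⁻¹ * (g * b * g⁻¹) * g := by rw [h2, h3]
      _ = b := by group

theorem aC : a ∈ centralizer ({z} : Set G) := by
  rw [mem_centralizer_singleton_iff]
  exact (m.w.comm_of_cp m.t.hz m.t.ha m.t.cza).symm

theorem bC : b ∈ centralizer ({z} : Set G) := by
  rw [mem_centralizer_singleton_iff]
  exact (m.w.comm_of_cp m.t.hz m.t.hb m.t.czb).symm

theorem za : a ∈ Zo z a := ⟨1, by group, by group⟩

theorem hw : HW (Zr (centralizer {z}) (Zo z a)) (Kr (centralizer {z}) K) where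
  w := wr m.w m.sub m.le_c m.inv
  core := m.core
  nc u hu v hv h := m.nc u hu v hv ((cp_r m.le_c hu hv).1 h)
  conn := by
    rintro ⟨u, huC⟩ hu ⟨v, hvC⟩ hv
    by_cases h1 : u = v
    · subst h1
      exact .refl
    · refine Relation.ReflTransGen.single ⟨hu, hv, fun h2 => m.nc u hu v hv ⟨h1, ?_⟩⟩
      intro k hk l hl
      exact congrArg Subtype.val (h2 ⟨k, m.le_c u hu hk⟩ hk ⟨l, m.le_c v hv hl⟩ hl)
  nn := by
    rintro ⟨u, huC⟩ hu h1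
    exact m.ao.not_nil z m.t.hz u (m.sub hu) (m.cp hu) ⟨⟨u, huC⟩, h1, rfl⟩
  ne := ⟨⟨a, m.aC⟩, m.za⟩

end

section

variable {G : Type u} [Group G] [Finite G] {Z : Set G} {K : G → Subgroup G} {z a b x g u v c : G}
  (m : TI1 Z K z a b) {Y : Type u} [Group Y] [Finite Y] {φ : ↥(centralizer ({z} : Set G)) →* Y}
  (hk : φ.ker = centralizer (BG (Zr (centralizer {z}) (Zo z a)) (Kr (centralizer {z}) K) : Set ↥(centralizer ({z} : Set G))))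
  (q : QH φ (Zr (centralizer {z}) (Zo z a)) (Kr (centralizer {z}) K))

include m hk q

omit q in
theorem phi_z (hz : z ∈ centralizer ({z} : Set G)) : φ ⟨z, hz⟩ = 1 := by
  refine ker_of_cen hk fun u hu => (cen_r m.le_c hu).2 fun k hk' => ?_
  exact (m.cp hu).2 z (m.w.mem z m.t.hz) k hk'

omit q in
theorem phi_b : φ ⟨b, m.bC⟩ = φ ⟨a, m.aC⟩ := by
  have hz : z ∈ centralizer ({z} : Set G) := mem_centralizer_singleton_iff.2 rfl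
  have e : (⟨b, m.bC⟩ : ↥(centralizer ({z} : Set G))) = ⟨z, hz⟩ * ⟨a, m.aC⟩ := Subtype.ext m.bza
  rw [e, map_mul, m.phi_z hk hz, one_mul]

theorem phi_a_ne : φ ⟨a, m.aC⟩ ≠ 1 := fun h =>
  m.w.ne a m.t.ha (congrArg Subtype.val (q.inj ⟨a, m.aC⟩ m.za ⟨a, m.aC⟩ (m.w.mem a m.t.ha) h))

omit hk q in
theorem kb_le : K b ≤ centralizer {z} := fun k hk =>
  mem_centralizer_singleton_iff.2 (m.t.czb.2 z (m.w.mem z m.t.hz) k hk).symm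

omit hk q in
theorem ka_le : K a ≤ centralizer {z} := m.le_c a m.za

/-- `φ` is injective on `K b` -/
theorem inj_b {k : G} (hk' : k ∈ K b) (hkC : k ∈ centralizer ({z} : Set G)) (h1 : φ ⟨k, hkC⟩ = 1) : k = 1 := by
  by_contra hne
  apply m.phi_a_ne hk q
  by_cases h2 : k = b
  · subst h2
    rw [← m.phi_b hk]
    exact h1
  · have h3 := m.w.sq_eq m.t.hb hk' hne h2
    rw [← m.phi_b hk]
    have e : (⟨b, m.bC⟩ : ↥(centralizer ({z} : Set G))) = ⟨k, hkC⟩ * ⟨k, hkC⟩ := Subtype.ext h3.symm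
    rw [e, map_mul, h1, one_mul]

theorem inj_b' {k l : G} (hk' : k ∈ K b) (hl : l ∈ K b)
    (h1 : φ ⟨k, m.kb_le hk'⟩ = φ ⟨l, m.kb_le hl⟩) : k = l := by
  have h2 := m.inj_b hk q (mul_mem hk' (inv_mem hl)) (m.kb_le (mul_mem hk' (inv_mem hl))) (by
    have e : (⟨k * l⁻¹, m.kb_le (mul_mem hk' (inv_mem hl))⟩ : ↥(centralizer ({z} : Set G))) =
      ⟨k, m.kb_le hk'⟩ * ⟨l, m.kb_le hl⟩⁻¹ := rfl
    rw [e, map_mul, map_inv, h1, mul_inv_cancel])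
  exact mul_inv_eq_one.1 h2

omit hk in
theorem inj_a' {k l : G} (hk' : k ∈ K a) (hl : l ∈ K a)
    (h1 : φ ⟨k, m.ka_le hk'⟩ = φ ⟨l, m.ka_le hl⟩) : k = l := by
  have h2 := q.inj ⟨a, m.aC⟩ m.za ⟨k * l⁻¹, m.ka_le (mul_mem hk' (inv_mem hl))⟩ (mul_mem hk' (inv_mem hl)) (by
    have e : (⟨k * l⁻¹, m.ka_le (mul_mem hk' (inv_mem hl))⟩ : ↥(centralizer ({z} : Set G))) =
      ⟨k, m.ka_le hk'⟩ * ⟨l, m.ka_le hl⟩⁻¹ := rfl
    rw [e, map_mul, map_inv, h1, mul_inv_cancel])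
  exact mul_inv_eq_one.1 (congrArg Subtype.val h2)

omit hk in
/-- the image of `K b` centralises the image of `K a` -/
theorem cen_pb : ∀ p ∈ (Kr (centralizer {z}) K ⟨b, m.bC⟩).map φ,
    Cen (Kq φ (Zr (centralizer {z}) (Zo z a)) (Kr (centralizer {z}) K)) p (φ ⟨a, m.aC⟩) := by
  rintro _ ⟨k, hk', rfl⟩
  refine q.cen' (u := ⟨a, m.aC⟩) m.za ((cen_r m.le_c (u := ⟨a, m.aC⟩) m.za).2 fun l hl => ?_)
  exact (m.t.cab.2 l hl k hk').symm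

/-- **STEP 1** -/
theorem exists_c (o : OW (φ '' Zr (centralizer {z}) (Zo z a)) (Kq φ (Zr (centralizer {z}) (Zo z a)) (Kr (centralizer {z}) K)))
    (hnp : ∃ t ∈ φ '' Zr (centralizer {z}) (Zo z a), t ≠ φ ⟨a, m.aC⟩ ∧ φ ⟨a, m.aC⟩ * t = t * φ ⟨a, m.aC⟩) :
    ∃ c : G, c * c = z ∧ Cen K c z ∧ Cen K c a ∧ Cen K c b := by
  have w := m.w
  have t := m.t
  have tb : Tri Z K b z a := ⟨t.hb, t.hz, t.ha, cp_sym t.czb, cp_sym t.cab, t.cza⟩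
  obtain ⟨g, hgz, hga, hgb, hgo, k1, hk1, hk1g⟩ := tri_rot w m.ao m.c3 tb
  have hgC : g ∈ centralizer ({z} : Set G) := mem_centralizer_singleton_iff.2 hgz
  obtain ⟨P, hP⟩ : ∃ P : Subgroup Y, P = (Kr (centralizer {z}) K ⟨b, m.bC⟩).map φ := ⟨_, rfl⟩
  have hmP : ∀ {l : G} (hl : l ∈ K b), φ ⟨l, m.kb_le hl⟩ ∈ P := fun {l} hl => by
    rw [hP]
    exact ⟨⟨l, m.kb_le hl⟩, hl, rfl⟩
  have hPg : IsPGroup 2 P := by
    rw [hP]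
    exact ((m.w.two m.t.hb).comap_subtype (K := centralizer {z})).map φ
  have hPc := m.cen_pb q
  rw [← hP] at hPc
  have hgP : ∀ p ∈ P, φ ⟨g, hgC⟩ * p * (φ ⟨g, hgC⟩)⁻¹ ∈ P := by
    intro p hp
    rw [hP] at hp
    obtain ⟨⟨l, hlC⟩, hl, rfl⟩ := hp
    have hl' : l ∈ K b := hl
    have h1 := w.norm_mem t.hb hgb hl'
    have h2 := hmP h1
    have e : (⟨g * l * g⁻¹, m.kb_le h1⟩ : ↥(centralizer ({z} : Set G))) = ⟨g, hgC⟩ * ⟨l, hlC⟩ * ⟨g, hgC⟩⁻¹ := rfl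
    rw [e, map_mul, map_mul, map_inv] at h2
    exact h2
  have hne : ∃ p ∈ P, φ ⟨g, hgC⟩ * p ≠ p * φ ⟨g, hgC⟩ := by
    refine ⟨_, hmP hk1, fun h => hk1g ?_⟩
    have h1 := w.norm_mem t.hb hgb hk1
    have h2 : g * k1 * g⁻¹ = k1 := by
      refine m.inj_b' hk q h1 hk1 ?_
      have e : (⟨g * k1 * g⁻¹, m.kb_le h1⟩ : ↥(centralizer ({z} : Set G))) =
        ⟨g, hgC⟩ * ⟨k1, m.kb_le hk1⟩ * ⟨g, hgC⟩⁻¹ := rfl
      rw [e, map_mul, map_mul, map_inv, h, mul_inv_cancel_right]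
    exact mul_inv_eq_iff_eq_mul.1 h2
  have hgo' : Odd (orderOf (φ ⟨g, hgC⟩)) := by
    refine Odd.of_dvd_nat hgo ?_
    have h1 := orderOf_map_dvd φ ⟨g, hgC⟩
    rwa [Subgroup.orderOf_mk] at h1
  have hga' : φ ⟨g, hgC⟩ * φ ⟨a, m.aC⟩ = φ ⟨a, m.aC⟩ * φ ⟨g, hgC⟩ := by
    rw [← map_mul, ← map_mul]
    congr 1
    exact Subtype.ext hga
  obtain ⟨-, r, hr, w0, hw0, hw2, hr2, ⟨⟨x, hxC⟩, hx, hxe⟩, -⟩ := o.rot_two ⟨⟨a, m.aC⟩, m.za, rfl⟩ hnp hPg hPc hga' hgo'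
    hgP hne
  rw [hP] at hr
  obtain ⟨⟨l0, hl0C⟩, hl0, rfl⟩ := hr
  rw [q.Kq_eq (u := ⟨a, m.aC⟩) m.za] at hw0
  obtain ⟨⟨k0, hk0C⟩, hk0, rfl⟩ := hw0
  have hl0 : l0 ∈ K b := hl0
  have hk0 : k0 ∈ K a := hk0
  have hx : x ∈ Zo z a := hx
  rw [← map_mul] at hw2 hr2
  have hk02 : k0 * k0 = a := m.inj_a' q (mul_mem hk0 hk0) (w.mem a t.ha) hw2
  have hl02 : l0 * l0 = b := by
    refine m.inj_b' hk q (mul_mem hl0 hl0) (w.mem b t.hb) ?_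
    have e : φ ⟨b, m.kb_le (w.mem b t.hb)⟩ = φ ⟨a, m.aC⟩ := m.phi_b hk
    rw [e]
    exact hr2
  have hkl : k0 * l0 = l0 * k0 := t.cab.2 k0 hk0 l0 hl0
  have hxa : x * a = a * x := by
    refine congrArg Subtype.val (q.comm (x := ⟨x, hxC⟩) (v := ⟨a, m.aC⟩) m.za ?_)
    rw [hxe]
    have e1 : φ ⟨k0, hk0C⟩ * φ ⟨a, m.aC⟩ = φ ⟨a, m.aC⟩ * φ ⟨k0, hk0C⟩ := by
      rw [← map_mul, ← map_mul]
      congr 1
      exact Subtype.ext (w.cent t.ha hk0)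
    have e2 : φ ⟨l0, hl0C⟩ * φ ⟨a, m.aC⟩ = φ ⟨a, m.aC⟩ * φ ⟨l0, hl0C⟩ := by
      rw [← map_mul, ← map_mul]
      congr 1
      exact Subtype.ext (t.cab.2 a (w.mem a t.ha) l0 hl0).symm
    rw [mul_assoc, e2, ← mul_assoc, e1, mul_assoc]
  have hxz : x * z = z * x := mem_centralizer_singleton_iff.1 hxC
  have hxb : x * b = b * x := by
    rw [m.bza, ← mul_assoc, hxz, mul_assoc, hxa, mul_assoc]
  -- the action of `x`
  have actA : ∀ k ∈ K a, x * k * x⁻¹ = k0 * k * k0⁻¹ := by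
    intro k hk'
    refine m.inj_a' q (w.norm_mem t.ha hxa hk') (mul_mem (mul_mem hk0 hk') (inv_mem hk0)) ?_
    have e1 : (⟨x * k * x⁻¹, m.ka_le (w.norm_mem t.ha hxa hk')⟩ : ↥(centralizer ({z} : Set G))) =
      ⟨x, hxC⟩ * ⟨k, m.ka_le hk'⟩ * ⟨x, hxC⟩⁻¹ := rfl
    have e2 : (⟨k0 * k * k0⁻¹, m.ka_le (mul_mem (mul_mem hk0 hk') (inv_mem hk0))⟩ : ↥(centralizer ({z} : Set G))) =
      ⟨k0, hk0C⟩ * ⟨k, m.ka_le hk'⟩ * ⟨k0, hk0C⟩⁻¹ := rfl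
    have e3 : φ ⟨l0, hl0C⟩ * φ ⟨k, m.ka_le hk'⟩ = φ ⟨k, m.ka_le hk'⟩ * φ ⟨l0, hl0C⟩ := by
      rw [← map_mul, ← map_mul]
      congr 1
      exact Subtype.ext (t.cab.2 k hk' l0 hl0).symm
    rw [e1, e2, map_mul, map_mul, map_inv, hxe, map_mul, map_mul, map_inv]
    calc φ ⟨k0, hk0C⟩ * φ ⟨l0, hl0C⟩ * φ ⟨k, m.ka_le hk'⟩ * (φ ⟨k0, hk0C⟩ * φ ⟨l0, hl0C⟩)⁻¹
        = φ ⟨k0, hk0C⟩ * (φ ⟨l0, hl0C⟩ * φ ⟨k, m.ka_le hk'⟩) * (φ ⟨l0, hl0C⟩)⁻¹ * (φ ⟨k0, hk0C⟩)⁻¹ := by group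
      _ = _ := by rw [e3]; group
  have actB : ∀ k ∈ K b, x * k * x⁻¹ = l0 * k * l0⁻¹ := by
    intro k hk'
    refine m.inj_b' hk q (w.norm_mem t.hb hxb hk') (mul_mem (mul_mem hl0 hk') (inv_mem hl0)) ?_
    have e1 : (⟨x * k * x⁻¹, m.kb_le (w.norm_mem t.hb hxb hk')⟩ : ↥(centralizer ({z} : Set G))) =
      ⟨x, hxC⟩ * ⟨k, m.kb_le hk'⟩ * ⟨x, hxC⟩⁻¹ := rfl
    have e2 : (⟨l0 * k * l0⁻¹, m.kb_le (mul_mem (mul_mem hl0 hk') (inv_mem hl0))⟩ : ↥(centralizer ({z} : Set G))) =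
      ⟨l0, hl0C⟩ * ⟨k, m.kb_le hk'⟩ * ⟨l0, hl0C⟩⁻¹ := rfl
    have e3 : ∀ y ∈ K b, ∀ hyC : y ∈ centralizer ({z} : Set G), φ ⟨k0, hk0C⟩ * φ ⟨y, hyC⟩ = φ ⟨y, hyC⟩ * φ ⟨k0, hk0C⟩ := by
      intro y hy hyC
      rw [← map_mul, ← map_mul]
      congr 1
      exact Subtype.ext (t.cab.2 k0 hk0 y hy)
    rw [e1, e2, map_mul, map_mul, map_inv, hxe, map_mul, map_mul, map_inv]
    have e4 : φ ⟨k0, hk0C⟩ * φ ⟨l0, hl0C⟩ = φ ⟨l0, hl0C⟩ * φ ⟨k0, hk0C⟩ := e3 l0 hl0 hl0C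
    rw [e4]
    calc φ ⟨l0, hl0C⟩ * φ ⟨k0, hk0C⟩ * φ ⟨k, m.kb_le hk'⟩ * (φ ⟨l0, hl0C⟩ * φ ⟨k0, hk0C⟩)⁻¹
        = φ ⟨l0, hl0C⟩ * (φ ⟨k0, hk0C⟩ * φ ⟨k, m.kb_le hk'⟩) * (φ ⟨k0, hk0C⟩)⁻¹ * (φ ⟨l0, hl0C⟩)⁻¹ := by group
      _ = _ := by rw [e3 k hk' (m.kb_le hk')]; group
  have hxk0 : x * k0 = k0 * x := by
    have h1 := actA k0 hk0
    rw [mul_inv_cancel_right, mul_inv_eq_iff_eq_mul] at h1
    exact h1
  have hxl0 : x * l0 = l0 * x := by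
    have h1 := actB l0 hl0
    rw [mul_inv_cancel_right, mul_inv_eq_iff_eq_mul] at h1
    exact h1
  have hxx : x * x = 1 := w.sq x (m.sub hx)
  refine ⟨x * (k0 * l0)⁻¹, ?_, ?_, ?_, ?_⟩
  · have c1 : Commute x (k0 * l0)⁻¹ := ((show Commute x k0 from hxk0).mul_right hxl0).inv_right
    have e1 : x * (k0 * l0)⁻¹ * (x * (k0 * l0)⁻¹) = (x * x) * ((k0 * l0) * (k0 * l0))⁻¹ := by
      calc x * (k0 * l0)⁻¹ * (x * (k0 * l0)⁻¹) = x * ((k0 * l0)⁻¹ * x) * (k0 * l0)⁻¹ := by group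
        _ = x * (x * (k0 * l0)⁻¹) * (k0 * l0)⁻¹ := by rw [← c1.eq]
        _ = _ := by group
    have e2 : (k0 * l0) * (k0 * l0) = z := by
      calc (k0 * l0) * (k0 * l0) = k0 * (l0 * k0) * l0 := by group
        _ = (k0 * k0) * (l0 * l0) := by rw [← hkl]; group
        _ = z := by rw [hk02, hl02, m.ab]
    rw [e1, hxx, e2, one_mul, w.inv t.hz]
  · intro k hk'
    have c1 : Commute x k := ((m.cp hx).2 k hk' x (w.mem x (m.sub hx))).symm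
    have c2 : Commute k0 k := (t.cza.2 k hk' k0 hk0).symm
    have c3 : Commute l0 k := (t.czb.2 k hk' l0 hl0).symm
    exact (c1.mul_left (c2.mul_left c3).inv_left).eq
  · intro k hk'
    have c3 : Commute l0 k := (t.cab.2 k hk' l0 hl0).symm
    have h1 : k0⁻¹ * k * k0 ∈ K a := mul_mem (mul_mem (inv_mem hk0) hk') hk0
    have e1 : (k0 * l0)⁻¹ * k = (k0⁻¹ * k * k0) * (k0 * l0)⁻¹ := by
      have c4 : l0⁻¹ * (k0⁻¹ * k * k0) = (k0⁻¹ * k * k0) * l0⁻¹ :=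
        (show Commute l0⁻¹ (k0⁻¹ * k * k0) from ((show Commute l0 _ from (t.cab.2 _ h1 l0 hl0).symm).inv_left)).eq
      calc (k0 * l0)⁻¹ * k = l0⁻¹ * (k0⁻¹ * k * k0) * k0⁻¹ := by group
        _ = (k0⁻¹ * k * k0) * (k0 * l0)⁻¹ := by rw [c4]; group
    have e2 := actA _ h1
    have e3 : k0 * (k0⁻¹ * k * k0) * k0⁻¹ = k := by group
    rw [e3, mul_inv_eq_iff_eq_mul] at e2
    calc x * (k0 * l0)⁻¹ * k = x * ((k0 * l0)⁻¹ * k) := by group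
      _ = (x * (k0⁻¹ * k * k0)) * (k0 * l0)⁻¹ := by rw [e1]; group
      _ = k * (x * (k0 * l0)⁻¹) := by rw [e2]; group
  · intro k hk'
    have h1 : l0⁻¹ * k * l0 ∈ K b := mul_mem (mul_mem (inv_mem hl0) hk') hl0
    have e1 : (k0 * l0)⁻¹ * k = (l0⁻¹ * k * l0) * (k0 * l0)⁻¹ := by
      have c4 : k0⁻¹ * k = k * k0⁻¹ :=
        (show Commute k0⁻¹ k from ((show Commute k0 _ from (t.cab.2 k0 hk0 k hk')).inv_left)).eq
      calc (k0 * l0)⁻¹ * k = l0⁻¹ * (k0⁻¹ * k) := by group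
        _ = (l0⁻¹ * k * l0) * (k0 * l0)⁻¹ := by rw [c4]; group
    have e2 := actB _ h1
    have e3 : l0 * (l0⁻¹ * k * l0) * l0⁻¹ = k := by group
    rw [e3, mul_inv_eq_iff_eq_mul] at e2
    calc x * (k0 * l0)⁻¹ * k = x * ((k0 * l0)⁻¹ * k) := by group
      _ = (x * (l0⁻¹ * k * l0)) * (k0 * l0)⁻¹ := by rw [e1]; group
      _ = k * (x * (k0 * l0)⁻¹) := by rw [e2]; group

/-- **STEP 3** -/
theorem false_of_c (o : OW (φ '' Zr (centralizer {z}) (Zo z a)) (Kq φ (Zr (centralizer {z}) (Zo z a)) (Kr (centralizer {z}) K)))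
    (hnp : ∃ t ∈ φ '' Zr (centralizer {z}) (Zo z a), t ≠ φ ⟨a, m.aC⟩ ∧ φ ⟨a, m.aC⟩ * t = t * φ ⟨a, m.aC⟩)
    (hc : c * c = b) (hcz : Cen K c z) (hca : Cen K c a) (hcb : Cen K c b) : False := by
  have w := m.w
  have t := m.t
  have hcC : c ∈ centralizer ({z} : Set G) := mem_centralizer_singleton_iff.2 (hcz z (w.mem z t.hz))
  obtain ⟨P, hP⟩ : ∃ P : Subgroup Y, P = (Kr (centralizer {z}) K ⟨b, m.bC⟩).map φ := ⟨_, rfl⟩
  have hPg : IsPGroup 2 P := by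
    rw [hP]
    exact ((m.w.two m.t.hb).comap_subtype (K := centralizer {z})).map φ
  have hPc := m.cen_pb q
  rw [← hP] at hPc
  have hcP : ∀ p ∈ P, φ ⟨c, hcC⟩ * p = p * φ ⟨c, hcC⟩ := by
    intro p hp
    rw [hP] at hp
    obtain ⟨⟨l, hlC⟩, hl, rfl⟩ := hp
    rw [← map_mul, ← map_mul]
    congr 1
    exact Subtype.ext (hcb l hl)
  have hc2 : φ ⟨c, hcC⟩ * φ ⟨c, hcC⟩ = φ ⟨a, m.aC⟩ := by
    rw [← map_mul, ← m.phi_b hk]
    congr 1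
    exact Subtype.ext hc
  have hca' : Cen (Kq φ (Zr (centralizer {z}) (Zo z a)) (Kr (centralizer {z}) K)) (φ ⟨c, hcC⟩) (φ ⟨a, m.aC⟩) :=
    q.cen' (u := ⟨a, m.aC⟩) m.za ((cen_r m.le_c (u := ⟨a, m.aC⟩) m.za).2 hca)
  have h4 : (φ ⟨c, hcC⟩) ^ 2 ^ 2 = 1 := by
    have e : (φ ⟨c, hcC⟩) ^ 2 ^ 2 = (φ ⟨c, hcC⟩ * φ ⟨c, hcC⟩) * (φ ⟨c, hcC⟩ * φ ⟨c, hcC⟩) := by
      rw [show (2 : ℕ) ^ 2 = 4 by norm_num, pow_succ, pow_succ, pow_two]; group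
    rw [e, hc2, ← map_mul]
    have e2 : (⟨a, m.aC⟩ * ⟨a, m.aC⟩ : ↥(centralizer ({z} : Set G))) = 1 := Subtype.ext (w.sq a t.ha)
    rw [e2, map_one]
  have hzp : IsPGroup 2 (zpowers (φ ⟨c, hcC⟩)) := by
    intro ⟨y, hy⟩
    obtain ⟨n, rfl⟩ := hy
    refine ⟨2, Subtype.ext ?_⟩
    change ((φ ⟨c, hcC⟩) ^ n) ^ 2 ^ 2 = 1
    rw [← zpow_natCast, ← zpow_mul, mul_comm, zpow_mul, zpow_natCast, h4, one_zpow]
  have hcom : ∀ y ∈ zpowers (φ ⟨c, hcC⟩), ∀ p ∈ P, y * p = p * y := by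
    rintro _ ⟨n, rfl⟩ p hp
    exact ((show Commute (φ ⟨c, hcC⟩) p from hcP p hp).zpow_left n).eq
  have hsup : IsPGroup 2 (zpowers (φ ⟨c, hcC⟩) ⊔ P : Subgroup Y) := by
    refine OneBasic.isPGroup_sup_of_normalizes hzp hPg fun y hy => ?_
    rw [mem_normalizer_iff]
    intro p
    constructor
    · intro hp
      rw [hcom y hy p hp, mul_inv_cancel_right]
      exact hp
    · intro hp
      have h5 := hcom y hy _ hp
      have e : p = y⁻¹ * (y * p * y⁻¹ * y) := by group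
      rw [e, ← h5, inv_mul_cancel_left]
      exact hp
  have hcen : ∀ p ∈ (zpowers (φ ⟨c, hcC⟩) ⊔ P : Subgroup Y),
      Cen (Kq φ (Zr (centralizer {z}) (Zo z a)) (Kr (centralizer {z}) K)) p (φ ⟨a, m.aC⟩) := by
    have h5 : (zpowers (φ ⟨c, hcC⟩) ⊔ P : Subgroup Y) ≤ centralizer (Kq φ (Zr (centralizer {z}) (Zo z a))
        (Kr (centralizer {z}) K) (φ ⟨a, m.aC⟩) : Set Y) :=
      sup_le (zpowers_le.2 (cen_iff_mem.1 hca')) fun p hp => cen_iff_mem.1 (hPc p hp)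
    exact fun p hp => cen_iff_mem.2 (h5 hp)
  have hcard := o.card_le ⟨⟨a, m.aC⟩, m.za, rfl⟩ hnp hsup hcen
  have hPcard : Nat.card P = 8 := by
    obtain ⟨f, hf⟩ : ∃ f : ↥(K b) → ↥P, f = fun k => ⟨φ ⟨k, m.kb_le k.2⟩, by rw [hP]; exact ⟨⟨k, m.kb_le k.2⟩, k.2, rfl⟩⟩ :=
      ⟨_, rfl⟩
    have hfb : Function.Bijective f := by
      constructor
      · intro k l h5
        rw [hf] at h5
        exact Subtype.ext (m.inj_b' hk q k.2 l.2 (congrArg Subtype.val h5))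
      · rintro ⟨p, hp⟩
        have hp' := hp
        rw [hP] at hp'
        obtain ⟨⟨l, hlC⟩, hl, h6⟩ := hp'
        refine ⟨⟨l, hl⟩, ?_⟩
        rw [hf]
        exact Subtype.ext h6
    rw [← Nat.card_congr (Equiv.ofBijective f hfb), w.card8 t.hb]
  have heq : P = (zpowers (φ ⟨c, hcC⟩) ⊔ P : Subgroup Y) :=
    eq_of_le_of_card_ge le_sup_right (by rw [hPcard]; exact hcard)
  have hcP' : φ ⟨c, hcC⟩ ∈ P := by
    rw [heq]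
    exact mem_sup_left (mem_zpowers _)
  have hcP2 := hcP'
  rw [hP] at hcP2
  obtain ⟨⟨l, hlC⟩, hl, h5⟩ := hcP2
  have hl : l ∈ K b := hl
  have h6 : Cen K l b := by
    intro k hk'
    have h7 := hcP (φ ⟨k, m.kb_le hk'⟩) (by rw [hP]; exact ⟨⟨k, m.kb_le hk'⟩, hk', rfl⟩)
    rw [← h5, ← map_mul, ← map_mul] at h7
    exact m.inj_b' hk q (mul_mem hl hk') (mul_mem hk' hl) h7
  have h7 : φ ⟨l, hlC⟩ * φ ⟨l, hlC⟩ = 1 := by
    have h8 : l * l = 1 := by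
      rcases mem_of_cen_cases w t.hb hl h6 with h8 | h8
      · rw [h8, one_mul]
      · rw [h8, w.sq b t.hb]
    rw [← map_mul]
    have e : (⟨l, hlC⟩ * ⟨l, hlC⟩ : ↥(centralizer ({z} : Set G))) = 1 := Subtype.ext h8
    rw [e, map_one]
  rw [h5, hc2] at h7
  exact m.phi_a_ne hk q h7

omit hk q in
/-- **(M3), case (i)** -/
theorem false_of (e : AOIn.{u}) : False := by
  obtain ⟨L, Y, _, _, φ, l, hs, hk, q, o, f⟩ := m.hw.exists_quot e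
  have hnp := np_of o.w f (by
    rintro _ ⟨u, hu, rfl⟩
    exact ⟨u, l.mem u hu, rfl⟩) (φ ⟨a, m.aC⟩) ⟨⟨a, m.aC⟩, m.za, rfl⟩
  obtain ⟨c, hcc, hcz, hca, hcb⟩ := m.exists_c hk q o hnp
  obtain ⟨h, h1, h2⟩ := tri_trans m.w m.ao m.one m.t
  have w := m.w
  have e1 := w.cen_conj m.t.hz h hcz
  have e2 := w.cen_conj m.t.ha h hca
  have e3 := w.cen_conj m.t.hb h hcb
  have e4 : h * c * h⁻¹ * (h * c * h⁻¹) = b := by
    calc h * c * h⁻¹ * (h * c * h⁻¹) = h * (c * c) * h⁻¹ := by group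
      _ = b := by rw [hcc, h1]
  rw [h1] at e1
  rcases h2 with ⟨h2, h3⟩ | ⟨h2, h3⟩
  · rw [h2] at e2
    rw [h3] at e3
    exact m.false_of_c hk q o hnp e4 e2 e3 e1
  · rw [h2] at e2
    rw [h3] at e3
    exact m.false_of_c hk q o hnp e4 e3 e2 e1

end

end TI1

end Cfsg.Agent.Cit.Nil.Comp.AO
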