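import Cfsg.Agent.Cit.Nil.Comp.AO.TriII
import Cfsg.Agent.Cit.Nil.RTwo.SLEnd
import Cfsg.Agent.Cit.Nil.RTwoM.AN.QuoA
import Cfsg.Agent.Cit.Nil.CompR.SecThree

/-!
# Lifting an inner `SL(2,3)` from the quotient by the centraliser of the members (helper61)

* `ithree_lift` : `QM Om f`, `W2 (img f Om)`, `IThr (img f Om)`: some member has `Three`
  (`RTwo.IThree.lift` without the injectivity on points);
* `odd_core` : elements of odd order of `Z(⟨Om⟩)` are trivial;
* `lift_in` : the field `TwoIn.lift`.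
-/

set_option autoImplicit false
set_option linter.style.haveILetI false
set_option linter.unusedSectionVars false

namespace Cfsg.Agent.Cit.Nil.Comp.AO

open Subgroup Cfsg Cfsg.Agent.Cit Cfsg.Agent.Cit.Nil.RTwo
open RTwoM.Quo (QM)

variable {M Y : Type*} [Group M] [Group Y] [Finite M] {Om : Set (Subgroup M)} {f : M →* Y} {K L : Subgroup M}
  {g x y b : M}

theorem sSup_conj_mem' (h : Hyp Om) (g : M) (hx : x ∈ sSup Om) : g * x * g⁻¹ ∈ sSup Om := by
  have h1 : sSup Om ≤ (sSup Om).comap (MulAut.conj g).toMonoidHom := by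
    refine sSup_le fun K hK k hk => ?_
    exact (le_sSup (h.conj K hK g)) (conj_mem_cj hk)
  exact h1 hx

theorem sSup_img_le' : sSup (img f Om) ≤ (sSup Om).map f := by
  refine sSup_le ?_
  rintro _ ⟨K, hK, rfl⟩
  exact Subgroup.map_mono (le_sSup hK)

/-- elements of odd order of `Z(⟨Om⟩)` are trivial -/
theorem odd_core (q : QM Om f) (core : pPrimeCore 2 M = ⊥) : ∀ x ∈ sSup Om, f x = 1 → Odd (orderOf x) → x = 1 := by
  intro x hx hfx ho
  have hxZ : x ∈ CompR.ZB Om := by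
    refine ⟨hx, mem_centralizer_iff.2 fun y hy => ?_⟩
    have h1 := (q.ker x).1 hfx
    have h2 : sSup Om ≤ centralizer {x} := sSup_le fun K hK k hk => mem_centralizer_singleton_iff.2 (h1 K hK k hk).symm
    exact mem_centralizer_singleton_iff.1 (h2 hy)
  have hN : (CompR.ZB Om).Normal := ⟨fun y hy g => CompR.ZB_conj q.hyp g hy⟩
  have h1 : OO (CompR.ZB Om) = ⊥ := by
    have h2 : (OO (CompR.ZB Om)).Normal := by
      refine ⟨fun y hy g => ?_⟩
      have h3 : cj g (CompR.ZB Om) = CompR.ZB Om := by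
        rw [← mem_normalizer_iff_cj, normalizer_eq_top_iff.2 hN]; exact mem_top g
      rw [← LB.cj_OO_eq h3]
      exact conj_mem_cj hy
    have h3 := Lib.Cores.le_pPrimeCore (p := 2) h2
      ((Nat.Prime.coprime_iff_not_dvd Nat.prime_two).2 (odd_OO _)).symm
    rw [core] at h3
    exact le_bot_iff.1 h3
  have h2 : zpowers x ≤ OO (CompR.ZB Om) := by
    refine le_OO (zpowers_le.2 hxZ) ?_ ?_
    · intro y hy
      have h3 : ∀ u ∈ zpowers x, y * u * y⁻¹ = u := by
        intro u hu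
        have h4 : u ∈ sSup Om := (zpowers_le.2 hx) hu
        rw [CompR.ZB_comm hy h4, mul_inv_cancel_right]
      rw [mem_normalizer_iff]
      intro u
      constructor
      · intro hu; rw [h3 u hu]; exact hu
      · intro hu
        have h4 := (zpowers_le.2 hx) hu
        have h5 : u ∈ sSup Om := by
          have h6 := (sSup_conj_mem' q.hyp y⁻¹ h4)
          have h7 : y⁻¹ * (y * u * y⁻¹) * y⁻¹⁻¹ = u := by group
          rwa [h7] at h6
        rw [CompR.ZB_comm hy h5, mul_inv_cancel_right] at hu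
        exact hu
    · rw [Nat.card_zpowers]
      intro h3
      exact (Nat.not_even_iff_odd.2 ho) (even_iff_two_dvd.2 h3)
  rw [h1, le_bot_iff, zpowers_eq_bot] at h2
  exact h2

variable [Finite Y]

/-- **lifting an inner `SL(2,3)`** -/
theorem ithree_lift (q : QM Om f) (w : W2 (img f Om))
    (hodd : ∀ x ∈ sSup Om, f x = 1 → Odd (orderOf x) → x = 1) (h : IThr (img f Om)) :
    ∃ K ∈ Om, IndDefs.Three K := by
  haveI : Fact (Nat.Prime 2) := ⟨Nat.prime_two⟩
  obtain ⟨v, K', J, hK', hKJ, hJS, hJv, hsub, hO, ⟨e⟩⟩ := h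
  obtain ⟨⟨K, hK, hKK'⟩, hz⟩ := hK'
  subst hKK'
  rw [q.zz_map hK] at hz
  subst hz
  have hK' : Mem (img f Om) (f (zz K)) (K.map f) := ⟨⟨K, hK, rfl⟩, q.zz_map hK⟩
  obtain ⟨b, hb⟩ : ∃ b, b = zz K := ⟨_, rfl⟩
  rw [← hb] at hJv hsub hK'
  have iso : (↥J ⧸ oddCore ↥J) ≃* Matrix.SpecialLinearGroup (Fin 2) (ZMod 3) :=
    ((QuotientGroup.quotientMulEquivOfEq hO).trans QuotientGroup.quotientBot).trans e
  have h16 := Three.not_16 iso
  have hJ24 : Nat.card J = 24 := by rw [Nat.card_congr e.toEquiv, Transfer.SL23Recog.card_sl23]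
  have hKle : K ≤ sSup Om := le_sSup hK
  have hSn : (sSup Om).Normal := ⟨fun _ hx g => sSup_conj_mem' q.hyp g hx⟩
  have com : ∀ g, f g ∈ J → g * b = b * g := by
    intro g hg
    have h1 : cj g K = K := by
      refine q.cj_eq hK ?_
      rw [CompR.sec_nor w hK' hKJ hJv h16 hg]
    have h2 := q.hyp.zz_cj (g := g) hK
    rw [h1, ← hb] at h2
    exact (mul_inv_eq_iff_eq_mul.1 h2.symm)
  obtain ⟨a, qa⟩ := w.exists_q3 hK'
  obtain ⟨r', hr'J, ho', k', hk', hne'⟩ := Three.exists_rot_of_sl qa hKJ iso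
  -- lift `r'`
  obtain ⟨r₀, hr₀, hfr⟩ := sSup_img_le' (hJS hr'J)
  obtain ⟨s, m, hm, hsm⟩ : ∃ s m : ℕ, Odd m ∧ orderOf r₀ = 2 ^ s * m := by
    obtain ⟨n, m, hm, hnm⟩ := Nat.exists_eq_two_pow_mul_odd (orderOf_pos r₀).ne'
    exact ⟨n, m, hm, hnm⟩
  obtain ⟨c, hc⟩ : ∃ c, c = r₀ ^ 2 ^ s := ⟨_, rfl⟩
  have hcS : c ∈ sSup Om := by rw [hc]; exact pow_mem hr₀ _
  have hco : Odd (orderOf c) := by
    have h1 : c ^ m = 1 := by rw [hc, ← pow_mul, ← hsm, pow_orderOf_eq_one]
    exact hm.of_dvd_nat (orderOf_dvd_of_pow_eq_one h1)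
  have hfc : f c = r' ^ 2 ^ s := by rw [hc, map_pow, hfr]
  have hfcJ : f c ∈ J := by rw [hfc]; exact pow_mem hr'J _
  have hfcne : f c * k' ≠ k' * f c := by
    intro h1
    rw [hfc] at h1
    exact hne' (Three.comm_of_pow_two ho' (n := s) h1).eq
  have hcK : cj c K = K := by
    refine q.cj_eq hK ?_
    rw [CompR.sec_nor w hK' hKJ hJv h16 hfcJ]
  -- `J₁ = K⟨c⟩`
  obtain ⟨J₁, hJ₁⟩ : ∃ J₁ : Subgroup M, J₁ = zpowers c ⊔ K := ⟨_, rfl⟩
  have hKJ₁ : K ≤ J₁ := by rw [hJ₁]; exact le_sup_right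
  have hcJ₁ : c ∈ J₁ := by rw [hJ₁]; exact mem_sup_left (mem_zpowers c)
  have hJ₁S : J₁ ≤ sSup Om := by rw [hJ₁]; exact sup_le (zpowers_le.2 hcS) hKle
  have hnor : zpowers c ≤ normalizer (K : Set M) := zpowers_le.2 (mem_normalizer_iff_cj.2 hcK)
  have hmem : ∀ y ∈ J₁, ∃ u ∈ zpowers c, ∃ k ∈ K, y = u * k := by
    intro y hy
    rw [hJ₁] at hy
    obtain ⟨k, hk, u, hu, e1⟩ := LB.exists_mul_of_mem_sup hnor (by rw [sup_comm]; exact hy)
    refine ⟨u, hu, u⁻¹ * k * u, ?_, by rw [e1]; group⟩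
    have h1 := (mem_normalizer_iff.1 (hnor (inv_mem hu)) k).1 hk
    rwa [inv_inv] at h1
  have hinj : J₁ ⊓ f.ker = ⊥ := by
    rw [eq_bot_iff]
    rintro y ⟨hy, hyf⟩
    obtain ⟨u, hu, k, hk, rfl⟩ := hmem y hy
    have h1 : f u * f k = 1 := by rw [← map_mul]; exact hyf
    have hup : Odd (orderOf u) := by
      have h2 : orderOf u ∣ orderOf c := by
        have h3 := orderOf_dvd_natCard (⟨u, hu⟩ : zpowers c)
        rwa [Subgroup.orderOf_mk, Nat.card_zpowers] at h3
      exact hco.of_dvd_nat h2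
    have hfu : f u = 1 := by
      have h2 : f u ∈ K.map f := by
        rw [eq_inv_of_mul_eq_one_left h1]
        exact inv_mem ⟨k, hk, rfl⟩
      have h3 : orderOf (f u) ∣ 8 := by
        have h4 := (K.map f).orderOf_dvd_natCard h2
        rwa [q.card_map hK] at h4
      have h4 : orderOf (f u) ∣ orderOf u := orderOf_map_dvd f u
      have h5 : Nat.Coprime (orderOf u) (2 ^ 3) := (Nat.coprime_two_right.2 hup).pow_right 3
      exact orderOf_eq_one_iff.1 (Nat.eq_one_of_dvd_coprimes h5 h4 h3)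
    have hu1 : u = 1 := hodd u (hJ₁S (by rw [hJ₁]; exact mem_sup_left hu)) hfu hup
    have hk1 : k = 1 := q.inj hK hk (by rw [hfu, one_mul] at h1; exact h1)
    rw [mem_bot, hu1, hk1, one_mul]
  have hmap : J₁.map f = J := by
    have h1 : J₁.map f ≤ J := by
      rw [hJ₁, Subgroup.map_sup]
      refine sup_le ?_ hKJ
      rw [MonoidHom.map_zpowers]
      exact zpowers_le.2 hfcJ
    have h2 : 8 ∣ Nat.card (J₁.map f) := by
      rw [← q.card_map hK]; exact card_dvd_of_le (Subgroup.map_mono hKJ₁)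
    have h3 : Nat.card (J₁.map f) ∣ 24 := by rw [← hJ24]; exact card_dvd_of_le h1
    have h4 : Nat.card (J₁.map f) ≠ 8 := by
      intro h4
      have h5 : K.map f = J₁.map f := eq_of_le_of_card_ge (Subgroup.map_mono hKJ₁) (by rw [h4, q.card_map hK])
      have h6 : f c ∈ K.map f := by rw [h5]; exact ⟨c, hcJ₁, rfl⟩
      have h7 : orderOf (f c) ∣ 8 := by
        have h4 := (K.map f).orderOf_dvd_natCard h6
        rwa [q.card_map hK] at h4
      have h8 : Nat.Coprime (orderOf c) (2 ^ 3) := (Nat.coprime_two_right.2 hco).pow_right 3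
      have h9 := orderOf_eq_one_iff.1 (Nat.eq_one_of_dvd_coprimes h8 (orderOf_map_dvd f c) h7)
      exact hfcne (by rw [h9, one_mul, mul_one])
    obtain ⟨d, hd⟩ := h2
    rw [hd] at h3 h4
    have h5 : d ∣ 3 := by
      have h6 : 8 * d ∣ 8 * 3 := h3
      exact Nat.dvd_of_mul_dvd_mul_left (by norm_num) h6
    rcases (Nat.dvd_prime Nat.prime_three).1 h5 with h6 | h6
    · rw [h6] at h4; exact absurd rfl h4
    · rw [h6] at hd
      exact eq_of_le_of_card_ge h1 (by rw [hJ24, hd])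
  have e₁ : ↥J₁ ≃* ↥J := (QuoCen.equivMap hinj).trans (MulEquiv.subgroupCongr hmap)
  have hO₁ : oddCore ↥J₁ = ⊥ := by
    have h5 := Lib.Cores.map_equiv_pPrimeCore e₁.symm 2
    rw [oddCore] at hO ⊢
    rw [← h5, hO, Subgroup.map_bot]
  -- the preimage
  obtain ⟨P, hP⟩ : ∃ P : Subgroup M, P = J.comap f ⊓ sSup Om := ⟨_, rfl⟩
  have hJ₁P : J₁ ≤ P := by
    rw [hP]
    refine le_inf ?_ hJ₁S
    rw [← Subgroup.map_le_iff_le_comap, hmap]
  have hPC : P ≤ centralizer ({b} : Set M) := by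
    intro x hx
    rw [hP] at hx
    exact mem_centralizer_singleton_iff.2 (com x hx.1)
  have hPsub : (P.subgroupOf (centralizer ({b} : Set M))).IsSubnormal := by
    have h1 : ((J.comap f).subgroupOf (centralizer ({b} : Set M))).IsSubnormal := by
      let φ : ↥(centralizer ({b} : Set M)) →* ↥(centralizer ({f b} : Set Y)) :=
        { toFun := fun x => ⟨f x, by
            have h2 := mem_centralizer_singleton_iff.1 x.2
            rw [mem_centralizer_singleton_iff, ← map_mul, h2, map_mul]⟩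
          map_one' := by apply Subtype.ext; simp
          map_mul' := fun x y => by apply Subtype.ext; simp }
      exact hsub.comap φ
    have h2 : ((sSup Om).subgroupOf (centralizer ({b} : Set M))).IsSubnormal := hSn.isSubnormal.subgroupOf
    have h3 : P.subgroupOf (centralizer ({b} : Set M)) =
        (J.comap f).subgroupOf (centralizer ({b} : Set M)) ⊓ (sSup Om).subgroupOf (centralizer ({b} : Set M)) := by
      rw [hP]; rfl
    rw [h3]
    exact h1.inf h2
  refine ⟨K, hK, J₁, ?_, hKJ₁, ?_, ⟨?_⟩⟩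
  · rw [← hb]; exact hJ₁P.trans hPC
  · rw [← hb]
    refine subnStep hJ₁P hPsub ?_
    intro p hp j hj
    rw [hP] at hp
    have h1 : f p ∈ J₁.map f := by rw [hmap]; exact hp.1
    obtain ⟨j₀, hj₀, e1⟩ := h1
    have h2 : f (j₀⁻¹ * p) = 1 := by rw [map_mul, map_inv, e1, inv_mul_cancel]
    have h3 := (q.ker _).1 h2
    have h4 : j₀⁻¹ * p * j = j * (j₀⁻¹ * p) := by
      have h5 : sSup Om ≤ centralizer {j₀⁻¹ * p} :=
        sSup_le fun K hK k hk => mem_centralizer_singleton_iff.2 (h3 K hK k hk).symm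
      exact (mem_centralizer_singleton_iff.1 (h5 (hJ₁S hj))).symm
    have h5 : p * j * p⁻¹ = j₀ * j * j₀⁻¹ := by
      calc p * j * p⁻¹ = j₀ * (j₀⁻¹ * p * j) * p⁻¹ := by group
        _ = j₀ * (j * (j₀⁻¹ * p)) * p⁻¹ := by rw [h4]
        _ = _ := by group
    rw [h5]
    exact mul_mem (mul_mem hj₀ hj) (inv_mem hj₀)
  · exact ((QuotientGroup.quotientMulEquivOfEq hO₁).trans QuotientGroup.quotientBot).trans (e₁.trans e)

/-- the field `TwoIn.lift` -/
theorem lift_in (q : QM Om f) (core : pPrimeCore 2 M = ⊥) (w : W2 (img f Om)) (h : IThr (img f Om)) :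
    ∃ K ∈ Om, IndDefs.Three K := ithree_lift q w (odd_core q core) h

end Cfsg.Agent.Cit.Nil.Comp.AO
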