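import Cfsg.Agent.Cit.Nil.Comp.AO.TriLift
import Cfsg.Agent.Cit.Nil.RTwo.InnerAw
import Cfsg.Agent.Cit.Nil.RTwo.BThree
import Cfsg.Agent.Cit.Nil.LO.CoreTwo

/-!
# S1309, the node `r = 1`, (M3), case (ii): the inputs `TwoIn`

Only the last file of the assembly imports this file.
-/

set_option autoImplicit false

namespace Cfsg.Agent.Cit.Nil.Comp.AO

open Subgroup Cfsg Cfsg.Agent.Cit

universe u

theorem TwoIn.of (i : RTwo.LIn.{u}) (hT : TStmt.{u}) (hC : LO.ChartOut.{u}) (hC2 : LO.ChartOut2.{u})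
    (h1311 : ∀ (G : Type u) [Group G] [Finite G], AssemblyNil.FS G → AssemblyNil.St1311 G) : TwoIn.{u} where
  cfa := fun _ _ _ _ f h2 _ h card _ hK _ hL hne hz => LO.cfa_of_two hT hC hC2 h1311 f h2 h card hK hL hne hz
  bx := by
    intro Y _ _ X Om w hc hr hF hne f h2 h3 z hz
    refine ⟨fun x hx => (RTwo.bx_of_inner i w hc hr hF hne f h2 h3).sq z x hz hx, ?_⟩
    rcases RTwo.main_inner' i w hc hr hF hne f h2 h3 with ⟨he, W, -⟩ | ⟨S, -, -⟩
    · exact W.bth_eps he hz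
    · exact S.bth hz
  lift := fun _ _ _ _ _ _ _ _ q core w h => lift_in q core w h

end Cfsg.Agent.Cit.Nil.Comp.AO
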