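import Cfsg.Agent.Cit.Nil.Comp.AO.HRot
import Cfsg.Agent.Cit.Nil.Comp.MThree
import Cfsg.Agent.Cit.LemmaB

/-!
# S1309 (6b), `r = 1`, COMP, AllOne, (M3): rotations and transitivity (helper61)

* `exists_rot` : (C3) gives an element of odd order of `C(z)` acting non-trivially on `K z`;
* `sylow3` : pairs of members which form triples with `b` are conjugate in `M ≤ C(b)`;
* `Tri.exists_rot` : an element of odd order centralising `z`, `a`, `b`, acting non-trivially on `K b`;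
* `Tri.exists_trans` : the triple is transitive.
-/

set_option autoImplicit false
set_option linter.style.haveILetI false
set_option linter.unusedSectionVars false

namespace Cfsg.Agent.Cit.Nil.Comp.AO

open Subgroup Cfsg Cfsg.Agent.Cit Cfsg.Agent.Cit.Nil.ROne
open Cfsg.Agent.Cit.Nil.Comp (Tri AllOne cp_sym)

set_option maxRecDepth 100000 in
theorem tq_of_two : ∀ p q : QEight.Q, QEight.Ok p q → ∀ y : QEight.Q, y * y = QuaternionGroup.a 2 →
    (QEight.F p q y = y ∨ QEight.F p q y = y⁻¹) → ∀ x : QEight.Q, x * x = QuaternionGroup.a 2 →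
    QEight.F p q x ≠ x → QEight.F p q x ≠ x⁻¹ → Tq p q y := by
  decide +kernel

section

variable {G : Type*} [Group G] {Z : Set G} {K : G → Subgroup G} {z a b d g u v u' v' : G}

/-- an element moving all axes -/
theorem exists_odd_of_ax [Finite G] (w : W Z K) (hz : z ∈ Z) (hdz : d * z = z * d)
    (hax0 : ∀ b ∈ K z, b * b = z → d * b * d⁻¹ ≠ b ∧ d * b * d⁻¹ ≠ b⁻¹) :
    ∃ k : ℕ, d ^ k * z = z * d ^ k ∧ Odd (orderOf (d ^ k)) ∧ ¬ Cen K (d ^ k) z := by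
  have hax : ∀ x : QEight.Q, x * x = QuaternionGroup.a 2 → w.rho hz d hdz x ≠ x ∧ w.rho hz d hdz x ≠ x⁻¹ := by
    intro x hxx
    obtain ⟨b, hb, rfl⟩ := w.exists_e hz x
    have hbb : b * b = z := by
      rw [← w.e_mul hz hb hb, ← w.e_z hz] at hxx
      exact w.e_inj hz _ _ hxx
    obtain ⟨h3, h4⟩ := hax0 b hb hbb
    rw [w.rho_e hz hdz hb]
    refine ⟨fun h => h3 (w.e_inj hz _ _ h), fun h => h4 ?_⟩
    rw [← w.e_inv hz hb] at h
    exact w.e_inj hz _ _ h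
  have hax' : Ax (w.rho hz d hdz (QuaternionGroup.a 1)) (w.rho hz d hdz (QuaternionGroup.xa 0)) := by
    intro x hx
    rw [← QEight.funF]
    exact hax x hx
  have h3 : w.rho hz d hdz ^ 3 = 1 := by
    have h1 := ax_three _ _ (QEight.aut_ok _) hax'
    rw [← QEight.funF] at h1
    refine MulEquiv.ext fun x => ?_
    rw [pow_succ, pow_succ, pow_one]
    exact h1 x
  obtain ⟨k, hk⟩ := exists_odd_pow d
  obtain ⟨h4, h5⟩ := w.rho_pow hz hdz (2 ^ k)
  refine ⟨2 ^ k, h4, hk, fun hcen => ?_⟩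
  rw [(w.rho_eq_one hz h4).2 hcen] at h5
  have h6 : orderOf (w.rho hz d hdz) ∣ 3 := orderOf_dvd_of_pow_eq_one h3
  have h7 : orderOf (w.rho hz d hdz) ∣ 2 ^ k := orderOf_dvd_of_pow_eq_one h5.symm
  have h8 : orderOf (w.rho hz d hdz) = 1 := by
    refine Nat.eq_one_of_dvd_coprimes (a := 3) (b := 2 ^ k) ?_ h6 h7
    exact Nat.Coprime.pow_right k (by norm_num)
  rw [orderOf_eq_one_iff] at h8
  obtain ⟨y, hy, -, -, hyy, -⟩ := w.exists_ij hz
  have h9 := (hax (w.e hz ⟨y, hy⟩) (by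
    rw [← w.e_mul hz hy hy, ← w.e_z hz]
    exact congrArg (w.e hz) (Subtype.ext hyy))).1
  rw [h8] at h9
  exact h9 rfl

/-- **(C3) gives rotations** -/
theorem exists_rot [Finite G] (w : W Z K) (c3 : ROne.C3 Z K) (hz : z ∈ Z) :
    ∃ d : G, d * z = z * d ∧ Odd (orderOf d) ∧ ¬ Cen K d z := by
  obtain ⟨y, hy, -, -, hyy, -⟩ := w.exists_ij hz
  obtain ⟨g, hg, h1, h2⟩ := c3 z hz y hy hyy
  by_cases hax : ∀ b ∈ K z, b * b = z → g * b * g⁻¹ ≠ b ∧ g * b * g⁻¹ ≠ b⁻¹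
  · obtain ⟨k, h3, h4, h5⟩ := exists_odd_of_ax w hz hg hax
    exact ⟨_, h3, h4, h5⟩
  push Not at hax
  obtain ⟨b, hb, hbb, h3⟩ := hax
  have hfix : g * b * g⁻¹ = b ∨ g * b * g⁻¹ = b⁻¹ := by
    by_cases h4 : g * b * g⁻¹ = b
    · exact Or.inl h4
    · exact Or.inr (h3 h4)
  have hsq : ∀ {y : G} (hy : y ∈ K z), y * y = z → w.e hz ⟨y, hy⟩ * w.e hz ⟨y, hy⟩ = QuaternionGroup.a 2 := by
    intro y hy h4
    rw [← w.e_mul hz hy hy, ← w.e_z hz]
    exact congrArg (w.e hz) (Subtype.ext h4)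
  have htq : Tq (w.rho hz g hg (QuaternionGroup.a 1)) (w.rho hz g hg (QuaternionGroup.xa 0)) (w.e hz ⟨b, hb⟩) := by
    refine tq_of_two _ _ (QEight.aut_ok _) _ (hsq hb hbb) ?_ _ (hsq hy hyy) ?_ ?_
    · rw [← QEight.funF, w.rho_e hz hg hb]
      rcases hfix with h4 | h4
      · left
        exact congrArg (w.e hz) (Subtype.ext h4)
      · right
        rw [← w.e_inv hz hb]
        exact congrArg (w.e hz) (Subtype.ext h4)
    · rw [← QEight.funF, w.rho_e hz hg hy]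
      exact fun h => h1 (w.e_inj hz _ _ h)
    · rw [← QEight.funF, w.rho_e hz hg hy]
      intro h
      rw [← w.e_inv hz hy] at h
      exact h2 (w.e_inj hz _ _ h)
  have hmov : ∀ c ∈ K z, c * c = z → c ≠ b → c ≠ b⁻¹ → g * c * g⁻¹ ≠ c ∧ g * c * g⁻¹ ≠ c⁻¹ := by
    intro c hc hcc h4 h5
    obtain ⟨h6, h7⟩ := htq.2 (w.e hz ⟨c, hc⟩) (hsq hc hcc) (fun h => h4 (w.e_inj hz _ _ h)) (fun h => h5 (by
      rw [← w.e_inv hz hb] at h
      exact w.e_inj hz _ _ h))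
    rw [← QEight.funF, w.rho_e hz hg hc] at h6 h7
    refine ⟨fun h => h6 (congrArg (w.e hz) (Subtype.ext h)), fun h => h7 ?_⟩
    rw [← w.e_inv hz hc]
    exact congrArg (w.e hz) (Subtype.ext h)
  obtain ⟨g', hg', h4, h5⟩ := c3 z hz b hb hbb
  obtain ⟨d, -, h6, h7, h8⟩ := exists_rot_in w hz (T := (⊤ : Subgroup G)) inferInstance (mem_top g) hg hb hbb hfix hmov
    hg' h4 h5
  exact ⟨d, h6, h7, h8⟩

/-- conjugation of C-pairs -/
theorem cp_conj (w : W Z K) (hu : u ∈ Z) (hv : v ∈ Z) (h : CP K u v) (g : G) :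
    CP K (g * u * g⁻¹) (g * v * g⁻¹) := by
  refine ⟨fun h1 => h.1 (mul_left_cancel (mul_right_cancel h1)), ?_⟩
  intro x hx y hy
  rw [w.conjK u hu, mem_cj] at hx
  rw [w.conjK v hv, mem_cj] at hy
  have h1 := h.2 _ hx _ hy
  calc x * y = g * ((g⁻¹ * x * g) * (g⁻¹ * y * g)) * g⁻¹ := by group
    _ = g * ((g⁻¹ * y * g) * (g⁻¹ * x * g)) * g⁻¹ := by rw [h1]
    _ = y * x := by group

/-- pairs of members which form triples with `b` are conjugate in `M ≤ C(b)` -/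
theorem sylow3 [Finite G] (w : W Z K) (ao : AllOne Z K) {M : Subgroup G} (hM : ∀ x ∈ M, x * b = b * x)
    (t : Tri Z K b u v) (t' : Tri Z K b u' v') (h1 : K u ≤ M) (h2 : K v ≤ M) (h3 : K u' ≤ M) (h4 : K v' ≤ M) :
    ∃ x ∈ M, (x * u' * x⁻¹ = u ∧ x * v' * x⁻¹ = v) ∨ (x * u' * x⁻¹ = v ∧ x * v' * x⁻¹ = u) := by
  haveI : Fact (Nat.Prime 2) := ⟨Nat.prime_two⟩
  have hP : ∀ {u v : G}, u ∈ Z → v ∈ Z → CP K u v → IsPGroup 2 (K u ⊔ K v : Subgroup G) := by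
    intro u v hu hv hc
    obtain ⟨S, hS1, hS2⟩ := w.exists_sylow_of_cp hu hv hc
    exact S.isPGroup'.to_le (sup_le hS1.2 hS2.2)
  obtain ⟨R, hR, hR1⟩ := LB.exists_syl_ge (hP t.ha t.hb t.cab) (sup_le h1 h2)
  obtain ⟨R', hR', hR2⟩ := LB.exists_syl_ge (hP t'.ha t'.hb t'.cab) (sup_le h3 h4)
  obtain ⟨x, hx, h5⟩ := hR'.exists_conj hR
  have hxb := hM x hx
  have hbb : x * b * x⁻¹ = b := by rw [hxb, mul_inv_cancel_right]
  have c1 := cp_conj w t'.hz t'.ha t'.cza x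
  have c2 := cp_conj w t'.hz t'.hb t'.czb x
  have c3 := cp_conj w t'.ha t'.hb t'.cab x
  rw [hbb] at c1 c2
  have l1 : K (x * u' * x⁻¹) ≤ R := by
    rw [w.conjK u' t'.ha, ← h5]
    exact cj_mono x (le_sup_left.trans hR2)
  have l2 : K (x * v' * x⁻¹) ≤ R := by
    rw [w.conjK v' t'.hb, ← h5]
    exact cj_mono x (le_sup_right.trans hR2)
  have key : ∀ y ∈ Z, CP K b y → K y ≤ R → y = u ∨ y = v := by
    intro y hy hby hyR
    by_contra hcon
    push Not at hcon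
    have e1 : CP K u y := w.com t.ha hy hR.2.1 (le_sup_left.trans hR1) hyR hcon.1.symm
    have e2 := ao.three b t.hz u t.ha y hy t.cza hby e1
    have e3 := ao.three b t.hz u t.ha v t.hb t.cza t.czb t.cab
    exact hcon.2 (mul_left_cancel (e2.trans e3.symm))
  refine ⟨x, hx, ?_⟩
  rcases key _ (w.conjZ u' t'.ha x) c1 l1 with k1 | k1
  · rcases key _ (w.conjZ v' t'.hb x) c2 l2 with k2 | k2
    · exact absurd (k1.trans k2.symm) c3.1
    · exact Or.inl ⟨k1, k2⟩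
  · rcases key _ (w.conjZ v' t'.hb x) c2 l2 with k2 | k2
    · exact Or.inr ⟨k1, k2⟩
    · exact absurd (k1.trans k2.symm) c3.1

/-- an element of odd order centralising the triple, acting non-trivially on `K b` -/
theorem tri_rot [Finite G] (w : W Z K) (ao : AllOne Z K) (c3 : ROne.C3 Z K) (t : Tri Z K b z a) :
    ∃ g : G, g * z = z * g ∧ g * a = a * g ∧ g * b = b * g ∧ Odd (orderOf g) ∧ ∃ k ∈ K b, g * k ≠ k * g := by
  obtain ⟨d, hdb, hdo, hdn⟩ := exists_rot w c3 t.hz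
  obtain ⟨X, hX⟩ : ∃ X : Subgroup G, X = centralizer (K b : Set G) := ⟨_, rfl⟩
  have hXm : ∀ x ∈ X, ∀ k ∈ K b, k * x = x * k := fun x hx k hk => by
    rw [hX] at hx
    exact mem_centralizer_iff.1 hx k hk
  have hle : ∀ u, CP K b u → K u ≤ X := fun u hu k hk => by
    rw [hX, mem_centralizer_iff]
    exact fun l hl => hu.2 l hl k hk
  have hbb : d * b * d⁻¹ = b := by rw [hdb, mul_inv_cancel_right]
  have t' : Tri Z K b (d * z * d⁻¹) (d * a * d⁻¹) := by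
    have c1 := cp_conj w t.hz t.ha t.cza d
    have c2 := cp_conj w t.hz t.hb t.czb d
    rw [hbb] at c1 c2
    exact ⟨t.hz, w.conjZ z t.ha d, w.conjZ a t.hb d, c1, c2, cp_conj w t.ha t.hb t.cab d⟩
  obtain ⟨x, hx, h1⟩ := sylow3 w ao (M := X) (fun x hx => (hXm x hx b (w.mem b t.hz)).symm) t t' (hle z t.cza)
    (hle a t.czb) (hle _ t'.cza) (hle _ t'.czb)
  obtain ⟨h, hh⟩ : ∃ h, h = x * d := ⟨_, rfl⟩
  have e1 : ∀ y, h * y * h⁻¹ = x * (d * y * d⁻¹) * x⁻¹ := fun y => by rw [hh]; group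
  have hhh : ∀ y, (h * h) * y * (h * h)⁻¹ = h * (h * y * h⁻¹) * h⁻¹ := fun y => by group
  have hz2 : (h * h) * z * (h * h)⁻¹ = z := by
    rw [hhh, e1 z]
    rcases h1 with h1 | h1
    · rw [h1.1, e1 z, h1.1]
    · rw [h1.1, e1 a, h1.2]
  have ha2 : (h * h) * a * (h * h)⁻¹ = a := by
    rw [hhh, e1 a]
    rcases h1 with h1 | h1
    · rw [h1.2, e1 a, h1.2]
    · rw [h1.2, e1 z, h1.1]
  have hact : ∀ k ∈ K b, h * k * h⁻¹ = d * k * d⁻¹ := by
    intro k hk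
    have h2 := w.norm_mem t.hz hdb hk
    rw [e1, ← hXm x hx _ h2, mul_inv_cancel_right]
  have hact2 : ∀ k ∈ K b, (h * h) * k * (h * h)⁻¹ = (d * d) * k * (d * d)⁻¹ := by
    intro k hk
    have h2 := w.norm_mem t.hz hdb hk
    rw [hhh, hact k hk, hact _ h2]
    group
  have hb2 : (h * h) * b * (h * h)⁻¹ = b := by
    rw [hact2 b (w.mem b t.hz)]
    calc d * d * b * (d * d)⁻¹ = d * (d * b * d⁻¹) * d⁻¹ := by group
      _ = b := by rw [hbb, hbb]
  have hodd : Odd (orderOf (d * d)) := by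
    rw [← pow_two]
    exact Odd.of_dvd_nat hdo (orderOf_pow_dvd 2)
  have hne : ∃ k ∈ K b, d * d * k ≠ k * (d * d) := by
    by_contra hcon
    push Not at hcon
    exact hdn fun k hk => comm_of_sq hdo (hcon k hk)
  obtain ⟨m, hm⟩ := exists_odd_pow (h * h)
  obtain ⟨k, hk, hk2⟩ := exists_of_same hodd (fun k hk => by
    have h2 := w.norm_mem t.hz hdb (w.norm_mem t.hz hdb hk)
    have e : d * d * k * (d * d)⁻¹ = d * (d * k * d⁻¹) * d⁻¹ := by group
    rw [e]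
    exact h2) hact2 hne m
  have hpow : ∀ y, (h * h) * y * (h * h)⁻¹ = y → (h * h) ^ 2 ^ m * y = y * (h * h) ^ 2 ^ m := fun y hy =>
    ((show Commute (h * h) y from mul_inv_eq_iff_eq_mul.1 hy).pow_left _).eq
  exact ⟨(h * h) ^ 2 ^ m, hpow z hz2, hpow a ha2, hpow b hb2, hm, k, hk, hk2⟩

/-- the triple is transitive: `z ↦ b` -/
theorem tri_trans [Finite G] (w : W Z K) (ao : AllOne Z K) (one : OneCls Z) (t : Tri Z K z a b) :
    ∃ h : G, h * z * h⁻¹ = b ∧ ((h * a * h⁻¹ = z ∧ h * b * h⁻¹ = a) ∨ (h * a * h⁻¹ = a ∧ h * b * h⁻¹ = z)) := by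
  obtain ⟨g, hg⟩ := one z t.hz b t.hb
  have tb : Tri Z K b z a := ⟨t.hb, t.hz, t.ha, cp_sym t.czb, cp_sym t.cab, t.cza⟩
  have t' : Tri Z K b (g * a * g⁻¹) (g * b * g⁻¹) := by
    have c1 := cp_conj w t.hz t.ha t.cza g
    have c2 := cp_conj w t.hz t.hb t.czb g
    rw [hg] at c1 c2
    exact ⟨t.hb, w.conjZ a t.ha g, w.conjZ b t.hb g, c1, c2, cp_conj w t.ha t.hb t.cab g⟩
  have hle : ∀ u, CP K b u → K u ≤ centralizer {b} := fun u hu k hk => by
    rw [mem_centralizer_singleton_iff]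
    exact (hu.2 b (w.mem b t.hb) k hk).symm
  obtain ⟨x, hx, h1⟩ := sylow3 w ao (M := centralizer {b}) (fun x hx => mem_centralizer_singleton_iff.1 hx) tb t'
    (hle z tb.cza) (hle a tb.czb) (hle _ t'.cza) (hle _ t'.czb)
  have hxb := mem_centralizer_singleton_iff.1 hx
  have e1 : ∀ y, (x * g) * y * (x * g)⁻¹ = x * (g * y * g⁻¹) * x⁻¹ := fun y => by group
  refine ⟨x * g, ?_, ?_⟩
  · rw [e1, hg, hxb, mul_inv_cancel_right]
  · rw [e1 a, e1 b]
    exact h1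

end

end Cfsg.Agent.Cit.Nil.Comp.AO
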